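import Groth.Agent.Lib.OX.QCohPull
import Groth.Agent.Lib.QCoh.Locality

/-!
# Pullbacks of quasi-coherent modules are quasi-coherent
-/

set_option autoImplicit false
set_option backward.isDefEq.respectTransparency false

universe u

open CategoryTheory CategoryTheory.Limits AlgebraicGeometry TopologicalSpace

noncomputable section

namespace GrothLib.VA

variable {X Y : Scheme.{u}}

theorem isQCoh_pullback (g : X ⟶ Y) {M : Y.Modules} (hM : Coh.IsQCoh M) :
    Coh.IsQCoh ((Scheme.Modules.pullback g).obj M) := by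
  choose W hW hxW _ using fun x : X => exists_isAffineOpen_mem_and_subset (Opens.mem_top (g x))
  refine QCoh.isQuasicoherent_of_restrict _ (fun x : X => g ⁻¹ᵁ W x)
    (IsOpenCover.mk (eq_top_iff.mpr fun x _ => Opens.mem_iSup.mpr ⟨x, hxW x⟩)) fun x => ?_
  let h : (g ⁻¹ᵁ W x : Scheme.{u}) ⟶ Spec Γ(Y, W x) :=
    IsOpenImmersion.lift (hW x).fromSpec ((g ⁻¹ᵁ W x).ι ≫ g) (by
      rintro _ ⟨z, rfl⟩
      rw [(hW x).range_fromSpec]
      exact z.2)
  have hh : h ≫ (hW x).fromSpec = (g ⁻¹ᵁ W x).ι ≫ g := IsOpenImmersion.lift_fac _ _ _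
  haveI : M.IsQuasicoherent := hM
  let N := (Scheme.Modules.restrictFunctor (hW x).fromSpec).obj M
  haveI : N.IsQuasicoherent := inferInstance
  haveI : IsIso N.fromTildeΓ := Scheme.Modules.isIso_fromTildeΓ_of_isQuasicoherent N
  let e : ((Scheme.Modules.pullback g).obj M).restrict (g ⁻¹ᵁ W x).ι ≅
      (Scheme.Modules.pullback h).obj ((tilde.functor _).obj ((moduleSpecΓFunctor (R := Γ(Y, W x))).obj N)) :=
    (Scheme.Modules.restrictFunctorIsoPullback (g ⁻¹ᵁ W x).ι).app _ ≪≫
      (Scheme.Modules.pullbackComp (g ⁻¹ᵁ W x).ι g).app M ≪≫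
      (Scheme.Modules.pullbackCongr hh.symm).app M ≪≫ ((Scheme.Modules.pullbackComp h (hW x).fromSpec).app M).symm ≪≫
      (Scheme.Modules.pullback h).mapIso
        (((Scheme.Modules.restrictFunctorIsoPullback (hW x).fromSpec).app M).symm ≪≫ (asIso N.fromTildeΓ).symm)
  exact (SheafOfModules.isQuasicoherent.{u} (g ⁻¹ᵁ W x : Scheme.{u}).ringCatSheaf).prop_of_iso e.symm
    (OX.isQCoh_pullback_tilde h ((moduleSpecΓFunctor (R := Γ(Y, W x))).obj N))

end GrothLib.VA
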