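import Groth.Agent.Lib.VA.CritOps
import Groth.Agent.Lib.Ref1.Tensor
import Groth.Agent.Lib.FinCov.Bilinear
import Groth.Agent.Lib.OX.QCohTensor
import Groth.Agent.Lib.Ample.Functorial

/-!
# Tensor products of very ample and generated modules
-/

set_option autoImplicit false
set_option backward.isDefEq.respectTransparency false

universe u

open CategoryTheory CategoryTheory.Limits AlgebraicGeometry TopologicalSpace Opposite TensorProduct
open GrothLib.InvExt (mres fres IsGen)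

noncomputable section

namespace GrothLib.VA

variable {X Y : Scheme.{u}}

/-- The product of two sections. -/
abbrev tm {M N : X.Modules} {V : X.Opens} (a : Γ(M, V)) (b : Γ(N, V)) : Γ(CohB1.tensorMod M N, V) :=
  SecTwist.tmul M N V a b

variable {M N : X.Modules}

theorem tm_smul_left {V : X.Opens} (r : Γ(X, V)) (a : Γ(M, V)) (b : Γ(N, V)) : tm (r • a) b = r • tm a b :=
  (congrArg ((SecTwist.toTensor M N).app (op V)).hom
    (TensorProduct.smul_tmul' (R := Γ(X, V)) r a b).symm).trans (((SecTwist.toTensor M N).app (op V)).hom.map_smul r _)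

theorem tm_smul_right {V : X.Opens} (r : Γ(X, V)) (a : Γ(M, V)) (b : Γ(N, V)) : tm a (r • b) = r • tm a b :=
  (congrArg ((SecTwist.toTensor M N).app (op V)).hom
    (TensorProduct.tmul_smul (R := Γ(X, V)) r a b)).trans (((SecTwist.toTensor M N).app (op V)).hom.map_smul r _)

theorem tm_add_left {V : X.Opens} (a a' : Γ(M, V)) (b : Γ(N, V)) : tm (a + a') b = tm a b + tm a' b :=
  (congrArg ((SecTwist.toTensor M N).app (op V)).hom
    (TensorProduct.add_tmul (R := Γ(X, V)) a a' b)).trans (((SecTwist.toTensor M N).app (op V)).hom.map_add _ _)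

theorem tm_add_right {V : X.Opens} (a : Γ(M, V)) (b b' : Γ(N, V)) : tm a (b + b') = tm a b + tm a b' :=
  (congrArg ((SecTwist.toTensor M N).app (op V)).hom
    (TensorProduct.tmul_add (R := Γ(X, V)) a b b')).trans (((SecTwist.toTensor M N).app (op V)).hom.map_add _ _)

theorem mres_tm {V W : X.Opens} (h : W ≤ V) (a : Γ(M, V)) (b : Γ(N, V)) :
    mres (CohB1.tensorMod M N) h (tm a b) = tm (mres M h a) (mres N h b) :=
  SecTwist.map_tmul M N (homOfLE h) a b

theorem isGen_tm {V : X.Opens} {a : Γ(M, V)} {b : Γ(N, V)} (ha : IsGen M V a) (hb : IsGen N V b) :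
    IsGen (CohB1.tensorMod M N) V (tm a b) :=
  Ref1.isGen_of_gen fun x hx => (Ref1.germ_tmul M N hx a b).symm ▸
    (Ref1.Gen.tmulStalk M N (Ref1.gen_of_isGen ha hx) (Ref1.gen_of_isGen hb hx))

theorem genAt_tm (hM : PicF.IsInvertible M) (hN : PicF.IsInvertible N) {V : X.Opens} (a : Γ(M, V)) (b : Γ(N, V))
    {x : X} : GenAt (CohB1.tensorMod M N) (tm a b) x ↔ GenAt M a x ∧ GenAt N b x := by
  by_cases hxV : x ∈ V
  swap
  · exact iff_of_false (fun ⟨W, hW, hxW, _⟩ => hxV (hW hxW)) (fun h => let ⟨W, hW, hxW, _⟩ := h.1; hxV (hW hxW))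
  obtain ⟨T, ε, hxT, hε⟩ := InvExt.exists_gen_nhd hM x
  obtain ⟨T', ε', hxT', hε'⟩ := InvExt.exists_gen_nhd hN x
  let I := V ⊓ (T ⊓ T')
  have hI : x ∈ I := ⟨hxV, hxT, hxT'⟩
  have hεI := hε.restrict (inf_le_right.trans inf_le_left : I ≤ T)
  have hεI' := hε'.restrict (inf_le_right.trans inf_le_right : I ≤ T')
  obtain ⟨c, hc⟩ := hεI.exists_smul_eq le_rfl (mres M (inf_le_left : I ≤ V) a)
  obtain ⟨d, hd⟩ := hεI'.exists_smul_eq le_rfl (mres N (inf_le_left : I ≤ V) b)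
  rw [InvExt.mres_self] at hc hd
  have he : mres (CohB1.tensorMod M N) (inf_le_left : I ≤ V) (tm a b) = (c * d) •
      tm (mres M (inf_le_right.trans inf_le_left : I ≤ T) ε) (mres N (inf_le_right.trans inf_le_right : I ≤ T') ε') := by
    rw [mres_tm, hc, hd, tm_smul_left, tm_smul_right, smul_smul]
  rw [genAt_iff_mem_basicOpen inf_le_left hεI hc hI, genAt_iff_mem_basicOpen inf_le_left hεI' hd hI,
    genAt_iff_mem_basicOpen inf_le_left (isGen_tm hεI hεI') he hI, Scheme.basicOpen_mul]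
  exact Iff.rfl

theorem isQCoh_tensor {E E' : Y.Modules} (hE : Coh.IsQCoh E) (hE' : Coh.IsQCoh E') :
    Coh.IsQCoh (CohB1.tensorMod E E') := by
  haveI : E.IsQuasicoherent := hE
  haveI : E'.IsQuasicoherent := hE'
  refine QCoh.isQuasicoherent_of_forall_fromSpec _ fun U hU => ?_
  let j := hU.fromSpec
  let R := Scheme.Modules.restrictFunctorIsoPullback j
  haveI : IsIso (E.restrict j).fromTildeΓ := Scheme.Modules.isIso_fromTildeΓ_of_isQuasicoherent _
  have h := OX.isQCoh_tilde_tensor ((moduleSpecΓFunctor (R := Γ(Y, U))).obj (E.restrict j))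
    (OX.isQCoh_of_iso (R.app E') (inferInstanceAs (E'.restrict j).IsQuasicoherent))
  exact OX.isQCoh_of_iso
    (((DCoh.tensorBi (X := Spec Γ(Y, U))).mapIso ((asIso (E.restrict j).fromTildeΓ) ≪≫ R.app E)).app _ ≪≫
      (OX.pullTensorIso j E E').symm ≪≫ (R.app (CohB1.tensorMod E E')).symm) h

variable {E E' : Y.Modules} {L L' : X.Modules} {g : X ⟶ Y}

variable (g) in
/-- The pairing of two maps of sections. -/
def secPairing (φ : E ⟶ (Scheme.Modules.pushforward g).obj L) (φ' : E' ⟶ (Scheme.Modules.pushforward g).obj L') :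
    FinCov.Pairing E E' ((Scheme.Modules.pushforward g).obj (CohB1.tensorMod L L')) where
  f U m n := tm (show Γ(L, g ⁻¹ᵁ U) from φ.app U m) (show Γ(L', g ⁻¹ᵁ U) from φ'.app U n)
  add_left U m m' n := by
    show tm (show Γ(L, g ⁻¹ᵁ U) from φ.app U (m + m')) _ = _
    rw [map_add]; exact tm_add_left _ _ _
  smul_left U r m n := by
    show tm (show Γ(L, g ⁻¹ᵁ U) from φ.app U (r • m)) _ = _
    rw [Ample.app_smul]; exact tm_smul_left (g.app U r) _ _
  add_right U m n n' := by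
    show tm _ (show Γ(L', g ⁻¹ᵁ U) from φ'.app U (n + n')) = _
    rw [map_add]; exact tm_add_right _ _ _
  smul_right U r m n := by
    show tm _ (show Γ(L', g ⁻¹ᵁ U) from φ'.app U (r • n)) = _
    rw [Ample.app_smul]; exact tm_smul_right (g.app U r) _ _
  map {U V} i m n := by
    refine (mres_tm (g.preimage_mono i.le) _ _).trans ?_
    exact congrArg₂ tm (Ample.app_mres φ i.le m).symm (Ample.app_mres φ' i.le n).symm

theorem isRelVeryAmple_tensor (hL : PicF.IsInvertible L) (hL' : PicF.IsInvertible L') (hE' : Coh.IsQCoh E')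
    (φ' : E' ⟶ (Scheme.Modules.pushforward g).obj L') (hφ' : IsGenBy g φ')
    (hva : RelProj.IsRelVeryAmple g L) : RelProj.IsRelVeryAmple g (CohB1.tensorMod L L') := by
  obtain ⟨E, φ, hE, hp⟩ := isRelVeryAmple_iff.mp hva
  let b := secPairing g φ φ'
  refine isRelVeryAmple_iff.mpr ⟨_, b.hom, isQCoh_tensor hE hE', fun x => ?_⟩
  obtain ⟨U, e, hx, hpi⟩ := hp x
  obtain ⟨U', hU', e', he'⟩ := hφ' x
  have hx' : x ∈ Tp g φ' ⟨U', hU'⟩ e' := mem_genOpen.mpr he'
  obtain ⟨D, hDU, hDU', hxD⟩ := exists_common_basic (Tp_le g φ U e hx) (Tp_le g φ' ⟨U', hU'⟩ e' hx')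
  let a := rE hDU e
  let a' := rE hDU' e'
  let e'' := tm a a'
  have hb : ∀ (m : Γ(E, D.1)) (n : Γ(E', D.1)), (show Γ(CohB1.tensorMod L L', g ⁻¹ᵁ D.1) from b.hom.app D.1 (tm m n)) =
      tm (show Γ(L, g ⁻¹ᵁ D.1) from φ.app D.1 m) (show Γ(L', g ⁻¹ᵁ D.1) from φ'.app D.1 n) :=
    fun m n => b.hom_tmul D.1 m n
  have hT : Tp g b.hom D e'' = Tp g φ D a ⊓ Tp g φ' D a' := by
    ext y
    show y ∈ genOpen _ _ ↔ y ∈ genOpen _ _ ∧ y ∈ genOpen _ _
    rw [mem_genOpen, mem_genOpen, mem_genOpen, ← genAt_tm hL hL', ← hb]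
  have hxa : x ∈ Tp g φ D a := by rw [Tp_rE g φ hDU e]; exact ⟨hx, hxD⟩
  have hxa' : x ∈ Tp g φ' D a' := by rw [Tp_rE g φ' hDU' e']; exact ⟨hx', hxD⟩
  refine ⟨D, e'', hT.ge ⟨hxa, hxa'⟩, ?_⟩
  have hle : Tp g b.hom D e'' ≤ Tp g φ U e := hT.le.trans (inf_le_left.trans ((Tp_rE g φ hDU e).le.trans inf_le_left))
  have hle' : Tp g b.hom D e'' ≤ Tp g φ D a := hT.le.trans inf_le_left
  have hrat : ∀ m : Γ(E, U.1), rat g b.hom D e'' (tm (rE hDU m) a') = fres X hle (rat g φ U e m) := fun m => by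
    refine rat_eq ?_
    have h1 := congrArg (mres L hle) (rat_spec g φ U e m)
    rw [InvExt.mres_smul] at h1
    have h2 : ∀ k : Γ(E, U.1), mres L hle (gp g φ U e k) = mres L hle' (gp g φ D a (rE hDU k)) := fun k =>
      (gp_rE g φ hDU e k hle' hle).symm
    rw [h2, h2, InvExt.mres_mres, InvExt.mres_mres] at h1
    show mres _ (Tp_le g b.hom D e'') (show Γ(CohB1.tensorMod L L', g ⁻¹ᵁ D.1) from b.hom.app D.1 _) =
      _ • mres _ (Tp_le g b.hom D e'') (show Γ(CohB1.tensorMod L L', g ⁻¹ᵁ D.1) from b.hom.app D.1 _)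
    rw [hb, hb, mres_tm, mres_tm, ← tm_smul_left, h1]
  refine pieceImm_of_le hle (RS g φ U e).subtype hpi fun c =>
    map_mem_of_RS (X.presheaf.map (homOfLE hle).op).hom (RS g b.hom D e'') (fun r => ?_) (fun m => ?_) c.2
  · show fres X hle (fres X (Tp_le g φ U e) (g.app U.1 r)) ∈ _
    have h1 := base_mem_RS g b.hom D e'' (fres Y (Scheme.AffineZariskiSite.toOpens_mono hDU) r)
    rw [app_fres, InvExt.fres_fres] at h1
    rw [InvExt.fres_fres]
    exact h1
  · show fres X hle (rat g φ U e m) ∈ _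
    rw [← hrat m]
    exact rat_mem_RS g b.hom D e'' _

theorem isGenBy_of_epi (hL' : PicF.IsInvertible L') (φ : (Scheme.Modules.pullback g).obj E' ⟶ L') [Epi φ] :
    IsGenBy g ((Scheme.Modules.pullbackPushforwardAdjunction g).homEquiv E' L' φ) :=
  (isGenBy_iff_epi g hL' _).mpr (by rw [Equiv.symm_apply_apply]; infer_instance)

theorem isRelVeryAmple_tensor_of_isRelVeryAmple (hL : PicF.IsInvertible L) (hL' : PicF.IsInvertible L')
    (hva : RelProj.IsRelVeryAmple g L) (hva' : RelProj.IsRelVeryAmple g L') :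
    RelProj.IsRelVeryAmple g (CohB1.tensorMod L L') := by
  obtain ⟨E', φ', hE', hφ'⟩ := isGenBy_of_isRelVeryAmple hva'
  exact isRelVeryAmple_tensor hL hL' hE' φ' hφ' hva

theorem isRelVeryAmple_of_iso (e : L ≅ L') (hva : RelProj.IsRelVeryAmple g L) : RelProj.IsRelVeryAmple g L' := by
  obtain ⟨E, hE, 𝒮, j, hj, P, p, chart, hP, O1, lam, hO1, i, hi, hip, ⟨e'⟩⟩ := hva
  exact ⟨E, hE, 𝒮, j, hj, P, p, chart, hP, O1, lam, hO1, i, hi, hip, ⟨e.symm ≪≫ e'⟩⟩

end GrothLib.VA
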