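import Groth.Agent.Lib.Ample.PullLift
import Groth.Agent.Lib.Ample.Frame
import Groth.Agent.Lib.OX.Stalk

/-!
# Invertible modules generated by sections, and homomorphisms out of them
-/

set_option autoImplicit false
set_option backward.isDefEq.respectTransparency false

universe u

open CategoryTheory CategoryTheory.Limits AlgebraicGeometry TopologicalSpace Opposite
open GrothLib.InvExt (mres fres IsGen)

noncomputable section

namespace GrothLib.VA

variable {X : Scheme.{u}} {L : X.Modules}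

/-- A section generates near a point. -/
def GenAt (L : X.Modules) {V : X.Opens} (t : Γ(L, V)) (x : X) : Prop :=
  ∃ (W : X.Opens) (h : W ≤ V), x ∈ W ∧ IsGen L W (mres L h t)

/-- The open set where a section generates. -/
def genOpen (L : X.Modules) {V : X.Opens} (t : Γ(L, V)) : X.Opens :=
  ⨆ (W : { W : X.Opens // ∃ h : W ≤ V, IsGen L W (mres L h t) }), W.1

theorem mem_genOpen {V : X.Opens} {t : Γ(L, V)} {x : X} : x ∈ genOpen L t ↔ GenAt L t x := by
  rw [genOpen, Opens.mem_iSup]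
  exact ⟨fun ⟨⟨W, h, hW⟩, hx⟩ => ⟨W, h, hx, hW⟩, fun ⟨W, h, hx, hW⟩ => ⟨⟨W, h, hW⟩, hx⟩⟩

theorem genOpen_le {V : X.Opens} (t : Γ(L, V)) : genOpen L t ≤ V := iSup_le fun W => W.2.1

theorem isGen_genOpen {V : X.Opens} (t : Γ(L, V)) : IsGen L (genOpen L t) (mres L (genOpen_le t) t) := by
  refine InvExt.isGen_of_cover (fun W : { W : X.Opens // ∃ h : W ≤ V, IsGen L W (mres L h t) } => W.1)
    (fun W => le_iSup (fun W : { W : X.Opens // ∃ h : W ≤ V, IsGen L W (mres L h t) } => W.1) W) le_rfl fun W => ?_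
  rw [InvExt.mres_mres]
  exact W.2.2

theorem isGen_of_le_genOpen {V W : X.Opens} {t : Γ(L, V)} (h : W ≤ genOpen L t) :
    IsGen L W (mres L (h.trans (genOpen_le t)) t) := by
  have := (isGen_genOpen t).restrict h
  rwa [InvExt.mres_mres] at this

theorem genAt_mres {V W : X.Opens} (h : W ≤ V) (t : Γ(L, V)) {x : X} :
    GenAt L (mres L h t) x ↔ x ∈ W ∧ GenAt L t x := by
  constructor
  · rintro ⟨T, hT, hxT, hgen⟩
    rw [InvExt.mres_mres] at hgen
    exact ⟨hT hxT, T, hT.trans h, hxT, hgen⟩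
  · rintro ⟨hxW, T, hT, hxT, hgen⟩
    refine ⟨T ⊓ W, inf_le_right, ⟨hxT, hxW⟩, ?_⟩
    have := hgen.restrict (inf_le_left : T ⊓ W ≤ T)
    rw [InvExt.mres_mres] at this ⊢
    exact this

theorem genAt_iff_mem_basicOpen {V : X.Opens} {t : Γ(L, V)} {T : X.Opens} (hT : T ≤ V) {ε : Γ(L, T)}
    (hε : IsGen L T ε) {c : Γ(X, T)} (hc : mres L hT t = c • ε) {x : X} (hx : x ∈ T) :
    GenAt L t x ↔ x ∈ X.basicOpen c := by
  constructor
  · rintro ⟨W, hW, hxW, hgen⟩
    let I := W ⊓ T
    have h1 := hgen.restrict (inf_le_left : I ≤ W)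
    rw [InvExt.mres_mres] at h1
    obtain ⟨d, hd⟩ := h1.exists_smul_eq le_rfl (mres L (inf_le_right : I ≤ T) ε)
    rw [InvExt.mres_self] at hd
    have h2 : mres L (inf_le_right.trans hT : I ≤ V) t =
        fres X (inf_le_right : I ≤ T) c • mres L (inf_le_right : I ≤ T) ε := by
      rw [← InvExt.mres_mres L hT (inf_le_right : I ≤ T), hc, InvExt.mres_smul]
    rw [show mres L (inf_le_left.trans hW : I ≤ V) t = mres L (inf_le_right.trans hT : I ≤ V) t from rfl, h2,
      smul_smul] at hd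
    have h3 : d * fres X (inf_le_right : I ≤ T) c = 1 :=
      hε.smul_left_injective (inf_le_right : I ≤ T) (hd.symm.trans (one_smul _ _).symm)
    have h4 : IsUnit (fres X (inf_le_right : I ≤ T) c) := IsUnit.of_mul_eq_one _ (mul_comm d _ ▸ h3)
    have h5 : x ∈ X.basicOpen (fres X (inf_le_right : I ≤ T) c) := by
      rw [Scheme.basicOpen_of_isUnit _ h4]; exact ⟨hxW, hx⟩
    rw [Scheme.basicOpen_res] at h5
    exact h5.2
  · intro hx'
    refine ⟨X.basicOpen c, (X.basicOpen_le c).trans hT, hx', ?_⟩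
    rw [← InvExt.mres_mres L hT (X.basicOpen_le c), hc, InvExt.mres_smul]
    exact (hε.restrict (X.basicOpen_le c)).smul_unit (RingedSpace.isUnit_res_basicOpen _ c)

theorem genAt_add {V : X.Opens} (hL : PicF.IsInvertible L) {t t' : Γ(L, V)} {x : X} (h : GenAt L (t + t') x) :
    GenAt L t x ∨ GenAt L t' x := by
  obtain ⟨T, ε, hxT, hε⟩ := InvExt.exists_gen_nhd hL x
  have hxV : x ∈ V := let ⟨W, hW, hxW, _⟩ := h; hW hxW
  obtain ⟨c, hc⟩ := (hε.restrict (inf_le_right : V ⊓ T ≤ T)).exists_smul_eq le_rfl (mres L inf_le_left t)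
  obtain ⟨c', hc'⟩ := (hε.restrict (inf_le_right : V ⊓ T ≤ T)).exists_smul_eq le_rfl (mres L inf_le_left t')
  rw [InvExt.mres_self] at hc hc'
  have hε' := hε.restrict (inf_le_right : V ⊓ T ≤ T)
  have hsum : mres L (inf_le_left : V ⊓ T ≤ V) (t + t') = (c + c') • mres L (inf_le_right : V ⊓ T ≤ T) ε := by
    rw [add_smul, ← hc, ← hc']; exact map_add _ _ _
  rw [genAt_iff_mem_basicOpen inf_le_left hε' hc ⟨hxV, hxT⟩,
    genAt_iff_mem_basicOpen inf_le_left hε' hc' ⟨hxV, hxT⟩]
  exact X.basicOpen_add_le c c' ((genAt_iff_mem_basicOpen inf_le_left hε' hsum ⟨hxV, hxT⟩).mp h)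

/-- Maps out of a module with a cover by generators are determined by their values on the generators. -/
theorem hom_ext_of_gens {N : X.Modules} {ι : Type*} (D : ι → X.Opens) (hD : ⨆ i, D i = ⊤) (t : ∀ i, Γ(L, D i))
    (ht : ∀ i, IsGen L (D i) (t i)) {f f' : L ⟶ N} (h : ∀ i, f.app (D i) (t i) = f'.app (D i) (t i)) : f = f' := by
  refine Scheme.Modules.hom_ext _ _ fun V => ConcreteCategory.hom_ext _ _ fun m => ?_
  refine Ample.meq_of_cover N (fun i => V ⊓ D i) (fun _ => inf_le_left)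
    (by rw [← inf_iSup_eq, hD, inf_top_eq]) fun i => ?_
  obtain ⟨c, hc⟩ := (ht i).exists_smul_eq (inf_le_right : V ⊓ D i ≤ D i) (mres L inf_le_left m)
  rw [← Ample.app_mres, ← Ample.app_mres, hc, Ample.app_smul, Ample.app_smul, Ample.app_mres, Ample.app_mres, h]

/-- Maps out of a module with a cover by generators can be given on the generators. -/
theorem exists_hom_of_gens {N : X.Modules} {ι : Type u} (D : ι → X.Opens) (hD : ⨆ i, D i = ⊤) (t : ∀ i, Γ(L, D i))
    (ht : ∀ i, IsGen L (D i) (t i)) (n : ∀ i, Γ(N, D i))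
    (hn : ∀ (i k : ι) (W : X.Opens) (hi : W ≤ D i) (hk : W ≤ D k) (a : Γ(X, W)),
      mres L hk (t k) = a • mres L hi (t i) → mres N hk (n k) = a • mres N hi (n i)) :
    ∃ f : L ⟶ N, ∀ i, f.app (D i) (t i) = n i := by
  choose g hg using fun i k : ι => (ht i).exists_smul_eq (inf_le_left : D i ⊓ D k ≤ D i)
    (mres L inf_le_right (t k))
  have hres : ∀ (i k : ι) (W : X.Opens) (hi : W ≤ D i) (hk : W ≤ D k),
      mres L hk (t k) = Ample.res (le_inf hi hk) (g i k) • mres L hi (t i) := by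
    intro i k W hi hk
    have := congrArg (mres L (le_inf hi hk)) (hg i k)
    rwa [InvExt.mres_mres, Ample.mres_smul', InvExt.mres_mres] at this
  let c : Ample.Cocycle X :=
    { ι := ι
      D := D
      g := g
      cover := hD
      self := fun i W h => (ht i).smul_left_injective h (by rw [← hres i i W h h, one_smul])
      change := fun i j k W hi hj hk => (ht i).smul_left_injective hi (by
        rw [← hres i k W hi hk, hres j k W hj hk, hres i j W hi hj, smul_smul, mul_comm]) }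
  have hm : c.IsFamily 1 (M := L) t := fun i j W hi hj => by
    rw [pow_one]; exact hres i j W hi hj
  have hn' : c.IsFamily 1 (M := N) n := fun i j W hi hj => by
    rw [pow_one]; exact hn i j W hi hj _ (hres i j W hi hj)
  haveI := c.isIso_homOfFamily hm ht
  refine ⟨inv (c.homOfFamily hm) ≫ c.homOfFamily hn', fun i => ?_⟩
  have h1 : (c.homOfFamily hm).app (D i) (c.base 1 i le_rfl) = t i :=
    (c.homOfFamily_base hm i le_rfl).trans (InvExt.mres_self L _)
  have h2 : (inv (c.homOfFamily hm)).app (D i) (t i) = c.base 1 i le_rfl := by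
    rw [← h1]
    exact congrArg (fun φ : c.twist 1 ⟶ c.twist 1 => φ.app (D i) (c.base 1 i le_rfl)) (IsIso.hom_inv_id (c.homOfFamily hm))
  show (c.homOfFamily hn').app (D i) ((inv (c.homOfFamily hm)).app (D i) (t i)) = n i
  rw [h2]
  exact (c.homOfFamily_base hn' i le_rfl).trans (InvExt.mres_self N _)

/-- The adjoint of a map sending generators to generators is an isomorphism. -/
theorem isIso_symm_of_gens {P : Scheme.{u}} (r : X ⟶ P) {M : P.Modules} {ι : Type u} (D : ι → P.Opens)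
    (hD : ⨆ i, D i = ⊤) (t : ∀ i, Γ(M, D i)) (ht : ∀ i, IsGen M (D i) (t i))
    (θ : M ⟶ (Scheme.Modules.pushforward r).obj L)
    (hθ : ∀ i, IsGen L (r ⁻¹ᵁ D i) (θ.app (D i) (t i))) :
    IsIso (((Scheme.Modules.pullbackPushforwardAdjunction r).homEquiv M L).symm θ) := by
  choose g hg using fun i k : ι => (ht i).exists_smul_eq (inf_le_left : D i ⊓ D k ≤ D i)
    (mres M inf_le_right (t k))
  have hres : ∀ (i k : ι) (W : P.Opens) (hi : W ≤ D i) (hk : W ≤ D k),
      mres M hk (t k) = Ample.res (le_inf hi hk) (g i k) • mres M hi (t i) := by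
    intro i k W hi hk
    have := congrArg (mres M (le_inf hi hk)) (hg i k)
    rwa [InvExt.mres_mres, Ample.mres_smul', InvExt.mres_mres] at this
  let c : Ample.Cocycle P :=
    { ι := ι
      D := D
      g := g
      cover := hD
      self := fun i W h => (ht i).smul_left_injective h (by rw [← hres i i W h h, one_smul])
      change := fun i j k W hi hj hk => (ht i).smul_left_injective hi (by
        rw [← hres i k W hi hk, hres j k W hj hk, hres i j W hi hj, smul_smul, mul_comm]) }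
  have hm : c.IsFamily 1 (M := M) t := fun i j W hi hj => by
    rw [pow_one]; exact hres i j W hi hj
  haveI := c.isIso_homOfFamily hm ht
  have h1 : IsIso (((Scheme.Modules.pullbackPushforwardAdjunction r).homEquiv (c.twist 1) L).symm
      (c.homOfFamily hm ≫ θ)) := c.isIso_of_isGen r _ fun i => by
    have h1 : (c.homOfFamily hm).app (D i) (c.base 1 i le_rfl) = t i :=
      (c.homOfFamily_base hm i le_rfl).trans (InvExt.mres_self M _)
    show IsGen L _ (θ.app (D i) ((c.homOfFamily hm).app (D i) (c.base 1 i le_rfl)))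
    rw [h1]
    exact hθ i
  rw [Adjunction.homEquiv_naturality_left_symm] at h1
  exact IsIso.of_isIso_comp_left ((Scheme.Modules.pullback r).map (c.homOfFamily hm)) _

section epi

variable {Y : Scheme.{u}} (g : X ⟶ Y) {E : Y.Modules}

/-- The images of the sections of `E` over affine opens generate `L` everywhere. -/
def IsGenBy (φ : E ⟶ (Scheme.Modules.pushforward g).obj L) : Prop :=
  ∀ x : X, ∃ (U : Y.Opens) (_ : IsAffineOpen U) (e : Γ(E, U)),
    GenAt L (V := g ⁻¹ᵁ U) (φ.app U e) x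

theorem exists_genAt_of_epi (hL : PicF.IsInvertible L) (φ : E ⟶ (Scheme.Modules.pushforward g).obj L)
    [Epi (((Scheme.Modules.pullbackPushforwardAdjunction g).homEquiv E L).symm φ)] : IsGenBy g φ := by
  intro x
  by_contra hc
  simp only [not_exists] at hc
  let St := OX.stalkObj x (DCoh.toP.obj L)
  let N : ModuleCat.{u} (X.presheaf.stalk x) := ModuleCat.of _
    (St ⧸ ((IsLocalRing.maximalIdeal (X.presheaf.stalk x)) • (⊤ : Submodule (X.presheaf.stalk x) St)))
  let π : L ⟶ OX.skyObj x N := ⟨OX.stalkHomEquiv x (DCoh.toP.obj L) N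
    (ModuleCat.ofHom (Submodule.mkQ _))⟩
  have hπ : ∀ (V : X.Opens) (hV : x ∈ V) (m : Γ(L, V)),
      (π.app V m : OX.SkySec x N (op V)) ⟨hV⟩ = Submodule.Quotient.mk (OX.germ (DCoh.toP.obj L) V hV m) :=
    fun V hV m => rfl
  obtain ⟨T, ε, hxT, hε⟩ := InvExt.exists_gen_nhd hL x
  -- a section not generating at `x` dies
  have hzero : ∀ (U : Y.Opens), IsAffineOpen U → ∀ (hxU : x ∈ g ⁻¹ᵁ U) (e : Γ(E, U)),
      OX.germ (DCoh.toP.obj L) (g ⁻¹ᵁ U) hxU (φ.app U e) ∈
        (IsLocalRing.maximalIdeal (X.presheaf.stalk x)) • (⊤ : Submodule (X.presheaf.stalk x) St) := by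
    intro U hU hxU e
    let I := g ⁻¹ᵁ U ⊓ T
    obtain ⟨c, hcc⟩ := (hε.restrict (inf_le_right : I ≤ T)).exists_smul_eq le_rfl
      (mres L (inf_le_left : I ≤ g ⁻¹ᵁ U) (φ.app U e))
    rw [InvExt.mres_self] at hcc
    have hn : x ∉ X.basicOpen c := fun h => hc U hU e
      ((genAt_iff_mem_basicOpen inf_le_left (hε.restrict inf_le_right) hcc ⟨hxU, hxT⟩).mpr h)
    rw [← OX.germ_map (DCoh.toP.obj L) (homOfLE (inf_le_left : I ≤ g ⁻¹ᵁ U)) ⟨hxU, hxT⟩ (φ.app U e)]
    refine (congrArg (OX.germ (DCoh.toP.obj L) I ⟨hxU, hxT⟩) hcc).symm ▸ ?_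
    refine (OX.germ_smul' (DCoh.toP.obj L) I ⟨hxU, hxT⟩ c _).symm ▸ ?_
    refine Submodule.smul_mem_smul ?_ trivial
    rw [IsLocalRing.mem_maximalIdeal]
    exact fun hu => hn ((X.mem_basicOpen c x ⟨hxU, hxT⟩).mpr hu)
  have h0 : φ ≫ (Scheme.Modules.pushforward g).map π = 0 := by
    refine Scheme.Modules.hom_ext _ _ fun V => ConcreteCategory.hom_ext _ _ fun m => funext fun hxV => ?_
    obtain ⟨_, ⟨U, hU, rfl⟩, hxU, hUV⟩ :=
      Y.isBasis_affineOpens.exists_subset_of_mem_open (show g x ∈ V from hxV.down) V.2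
    show (π.app (g ⁻¹ᵁ V) (φ.app V m) : OX.SkySec x N (op (g ⁻¹ᵁ V))) ⟨hxV.down⟩ = 0
    rw [hπ, ← OX.germ_map (DCoh.toP.obj L) (homOfLE (g.preimage_mono (show U ≤ V from hUV))) hxU,
      Submodule.Quotient.mk_eq_zero]
    have hnat : mres L (g.preimage_mono (show U ≤ V from hUV)) (φ.app V m) = φ.app U (mres E (show U ≤ V from hUV) m) :=
      (Ample.app_mres φ (show U ≤ V from hUV) m).symm
    exact (congrArg (OX.germ (DCoh.toP.obj L) (g ⁻¹ᵁ U) hxU) hnat).symm ▸ hzero U hU hxU _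
  have h1 : ((Scheme.Modules.pullbackPushforwardAdjunction g).homEquiv E L).symm φ ≫ π = 0 := by
    rw [← Adjunction.homEquiv_naturality_right_symm, h0, Adjunction.homEquiv_symm_apply, Functor.map_zero, zero_comp]
  have h2 : π = 0 := zero_of_epi_comp _ h1
  have h3 : OX.germ (DCoh.toP.obj L) T hxT ε ∈
      (IsLocalRing.maximalIdeal (X.presheaf.stalk x)) • (⊤ : Submodule (X.presheaf.stalk x) St) := by
    rw [← Submodule.Quotient.mk_eq_zero, ← hπ T hxT ε, h2]
    rfl
  have hspan : (⊤ : Submodule (X.presheaf.stalk x) St) ≤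
      Submodule.span (X.presheaf.stalk x) {OX.germ (DCoh.toP.obj L) T hxT ε} := by
    intro z _
    obtain ⟨W, hxW, m, rfl⟩ := OX.germ_exists (DCoh.toP.obj L) z
    obtain ⟨c, hcm⟩ := hε.exists_smul_eq (inf_le_right : W ⊓ T ≤ T) (mres L (inf_le_left : W ⊓ T ≤ W) m)
    rw [← OX.germ_map (DCoh.toP.obj L) (homOfLE (inf_le_left : W ⊓ T ≤ W)) ⟨hxW, hxT⟩ m]
    refine (congrArg (OX.germ (DCoh.toP.obj L) (W ⊓ T) ⟨hxW, hxT⟩) hcm).symm ▸ ?_
    refine (OX.germ_smul' (DCoh.toP.obj L) (W ⊓ T) ⟨hxW, hxT⟩ c _).symm ▸ ?_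
    refine Submodule.smul_mem _ _ (Submodule.mem_span_singleton.mpr ⟨1, ?_⟩)
    rw [one_smul]
    exact (OX.germ_map (DCoh.toP.obj L) (homOfLE (inf_le_right : W ⊓ T ≤ T)) ⟨hxW, hxT⟩ ε).symm
  obtain ⟨a, ha, hae⟩ := Submodule.mem_smul_span_singleton.mp (Submodule.smul_mono le_rfl hspan h3)
  obtain ⟨u, hu⟩ := IsLocalRing.isUnit_one_sub_self_of_mem_nonunits a ha
  have h4 : OX.germ (DCoh.toP.obj L) T hxT ε = 0 := by
    refine (IsUnit.smul_eq_zero ⟨u, rfl⟩).mp ?_
    rw [hu, sub_smul, one_smul, hae, sub_self]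
  obtain ⟨W, hxW, i₁, i₂, hW⟩ := TopCat.Presheaf.germ_eq (OX.prs (DCoh.toP.obj L)) x hxT hxT ε 0
    (by exact h4.trans (map_zero _).symm)
  have h5 : (1 : Γ(X, W)) = 0 := hε.smul_left_injective i₁.le (by
    rw [one_smul, zero_smul]
    exact hW.trans (map_zero _))
  exact one_ne_zero (α := X.presheaf.stalk x) (by
    rw [← map_one (X.presheaf.germ W x hxW).hom, ← map_zero (X.presheaf.germ W x hxW).hom, h5])

theorem epi_symm_of_isGenBy (φ : E ⟶ (Scheme.Modules.pushforward g).obj L) (hφ : IsGenBy g φ) :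
    Epi (((Scheme.Modules.pullbackPushforwardAdjunction g).homEquiv E L).symm φ) := by
  refine ⟨fun {N} f f' h => ?_⟩
  have h' : φ ≫ (Scheme.Modules.pushforward g).map f = φ ≫ (Scheme.Modules.pushforward g).map f' := by
    apply ((Scheme.Modules.pullbackPushforwardAdjunction g).homEquiv E N).symm.injective
    rw [Adjunction.homEquiv_naturality_right_symm, Adjunction.homEquiv_naturality_right_symm, h]
  choose U hU e W hW hxW hgen using hφ
  refine hom_ext_of_gens W (eq_top_iff.mpr fun x _ => Opens.mem_iSup.mpr ⟨x, hxW x⟩) _ hgen fun x => ?_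
  rw [Ample.app_mres, Ample.app_mres]
  exact congrArg (mres N (hW x)) (congrArg (fun k : E ⟶ (Scheme.Modules.pushforward g).obj N => k.app (U x) (e x)) h')

theorem isGenBy_iff_epi (hL : PicF.IsInvertible L) (φ : E ⟶ (Scheme.Modules.pushforward g).obj L) :
    IsGenBy g φ ↔ Epi (((Scheme.Modules.pullbackPushforwardAdjunction g).homEquiv E L).symm φ) :=
  ⟨epi_symm_of_isGenBy g φ, fun h => exists_genAt_of_epi g hL φ⟩

theorem epi_counit_of_isGenBy {φ : E ⟶ (Scheme.Modules.pushforward g).obj L} (hφ : IsGenBy g φ) :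
    Epi ((Scheme.Modules.pullbackPushforwardAdjunction g).counit.app L) := by
  have := epi_symm_of_isGenBy g φ hφ
  have : Epi ((Scheme.Modules.pullback g).map φ ≫ (Scheme.Modules.pullbackPushforwardAdjunction g).counit.app L) := by
    simp only [Adjunction.homEquiv_counit] at this; infer_instance
  exact epi_of_epi ((Scheme.Modules.pullback g).map φ) _

end epi

end GrothLib.VA
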