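import Groth.Agent.Lib.VA.CritOps
import Groth.Agent.Lib.InvExt.Transfer
import Groth.Agent.Lib.Cohom.Serre

/-!
# Very ampleness on disjoint unions
-/

set_option autoImplicit false
set_option backward.isDefEq.respectTransparency false

universe u

open CategoryTheory CategoryTheory.Limits AlgebraicGeometry TopologicalSpace Opposite
open GrothLib.InvExt (mres fres IsGen)

noncomputable section

namespace GrothLib.VA

variable {X Y X₁ : Scheme.{u}}

theorem isGen_of_restrict {L : X.Modules} (j : X₁ ⟶ X) [IsOpenImmersion j] {W : X₁.Opens} (e : Γ(L, j ''ᵁ W))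
    (he : IsGen (L.restrict j) W (show Γ(L.restrict j, W) from e)) : IsGen L (j ''ᵁ W) e := by
  intro T hT
  have hTr : T ≤ j.opensRange := hT.trans (j.image_le_opensRange W)
  obtain ⟨T', rfl⟩ : ∃ T', T = j ''ᵁ T' :=
    ⟨j ⁻¹ᵁ T, by rw [Scheme.Hom.image_preimage_eq_opensRange_inf, inf_eq_right.2 hTr]⟩
  have hT' : T' ≤ W := fun y hy => by
    obtain ⟨z, hz, hzy⟩ := hT ⟨y, hy, rfl⟩
    rwa [j.isOpenEmbedding.injective hzy] at hz
  exact (Function.Bijective.of_comp_iff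
    (fun c : Γ(X, j ''ᵁ T') => c • mres L hT e) ((j.appIso T').symm.commRingCatIsoToRingEquiv.bijective)).mp (he T' hT')

theorem genAt_restrict {L : X.Modules} (j : X₁ ⟶ X) [IsOpenImmersion j] {V : X₁.Opens} (t : Γ(L, j ''ᵁ V)) (x : X₁) :
    GenAt (L.restrict j) (show Γ(L.restrict j, V) from t) x ↔ GenAt L t (j x) := by
  constructor
  · rintro ⟨W, hW, hxW, hgen⟩
    exact ⟨j ''ᵁ W, Scheme.Hom.image_mono j hW, ⟨x, hxW, rfl⟩, isGen_of_restrict j _ hgen⟩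
  · rintro ⟨W, hW, hxW, hgen⟩
    have h : j ''ᵁ (j ⁻¹ᵁ W) ≤ W := j.image_preimage_le W
    have hle : j ⁻¹ᵁ W ≤ V := (j.preimage_mono hW).trans (j.preimage_image_eq V).le
    refine ⟨j ⁻¹ᵁ W, hle, hxW, ?_⟩
    have := InvExt.isGen_restrict j L (hgen.restrict h)
    rw [InvExt.mres_mres] at this
    exact this

variable {L : X.Modules} (j : X₁ ⟶ X) [IsOpenImmersion j] (C : X.Opens) (g : X ⟶ Y) {E : Y.Modules}

theorem appIso_inv_app_comp (U : Y.Opens) {W : X₁.Opens} (h : W ≤ (j ≫ g) ⁻¹ᵁ U) (h' : j ''ᵁ W ≤ g ⁻¹ᵁ U)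
    (r : Γ(Y, U)) : (j.appIso W).inv (fres X₁ h ((j ≫ g).app U r)) = fres X h' (g.app U r) := by
  refine (ConcreteCategory.bijective_of_isIso (j.appIso W).hom).1 ?_
  rw [Iso.inv_hom_id_apply, Scheme.Hom.appIso_hom']
  show ((j ≫ g).app U ≫ X₁.presheaf.map _).hom r = (g.app U ≫ X.presheaf.map _ ≫ j.appLE _ _ _).hom r
  rw [Scheme.Hom.map_appLE, Scheme.Hom.comp_app, Category.assoc]
  rfl

theorem mres_zero {V W : X.Opens} (h : W ≤ V) : mres L h (0 : Γ(L, V)) = 0 := map_zero _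

theorem mres_add {V W : X.Opens} (h : W ≤ V) (a b : Γ(L, V)) : mres L h (a + b) = mres L h a + mres L h b :=
  map_add _ a b

theorem eq_of_empty {V : X.Opens} (hV : ∀ x, x ∉ V) (s s' : Γ(L, V)) : s = s' :=
  Ample.meq_of_cover L (fun i : PEmpty.{u + 1} => i.elim) (fun i => i.elim) (fun x hx => (hV x hx).elim) fun i => i.elim

theorem image_preimage_comp (U : Y.Opens) : j ''ᵁ ((j ≫ g) ⁻¹ᵁ U) ≤ g ⁻¹ᵁ U := j.image_preimage_le (g ⁻¹ᵁ U)

variable {j C g}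

theorem ext_disjoint (hcov : j.opensRange ⊔ C = ⊤) {U : Y.Opens} {s s' : Γ(L, g ⁻¹ᵁ U)}
    (h : mres L (image_preimage_comp j g U) s = mres L (image_preimage_comp j g U) s')
    (h' : mres L (inf_le_left : g ⁻¹ᵁ U ⊓ C ≤ g ⁻¹ᵁ U) s = mres L inf_le_left s') : s = s' := by
  refine Ample.meq_of_cover L (fun b : Bool => bif b then j ''ᵁ ((j ≫ g) ⁻¹ᵁ U) else g ⁻¹ᵁ U ⊓ C)
    (fun b => by cases b; exacts [inf_le_left, image_preimage_comp j g U]) ?_ fun b => by cases b; exacts [h', h]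
  intro x hx
  rcases (show x ∈ j.opensRange ∨ x ∈ C from hcov.ge (Opens.mem_top x)) with ⟨y, rfl⟩ | hC
  · exact Opens.mem_iSup.mpr ⟨true, ⟨y, hx, rfl⟩⟩
  · exact Opens.mem_iSup.mpr ⟨false, hx, hC⟩

variable (j C g)

/-- Extending a map of sections by zero to the complement. -/
theorem exists_extend (hdisj : ∀ x, x ∈ j.opensRange → x ∉ C) (hcov : j.opensRange ⊔ C = ⊤)
    (φ : E ⟶ (Scheme.Modules.pushforward (j ≫ g)).obj (L.restrict j)) :
    ∃ ψ : E ⟶ (Scheme.Modules.pushforward g).obj L, ∀ (U : Y.Opens) (_ : IsAffineOpen U) (e : Γ(E, U)),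
      mres L (image_preimage_comp j g U) (ψ.app U e) = (show Γ(L, j ''ᵁ ((j ≫ g) ⁻¹ᵁ U)) from φ.app U e) ∧
        mres L (inf_le_left : g ⁻¹ᵁ U ⊓ C ≤ g ⁻¹ᵁ U) (ψ.app U e) = 0 := by
  have hex : ∀ (U : Y.Opens) (e : Γ(E, U)), ∃ s : Γ(L, g ⁻¹ᵁ U),
      mres L (image_preimage_comp j g U) s = (show Γ(L, j ''ᵁ ((j ≫ g) ⁻¹ᵁ U)) from φ.app U e) ∧
        mres L (inf_le_left : g ⁻¹ᵁ U ⊓ C ≤ g ⁻¹ᵁ U) s = 0 := by
    intro U e
    let W : Bool → X.Opens := fun b => bif b then j ''ᵁ ((j ≫ g) ⁻¹ᵁ U) else g ⁻¹ᵁ U ⊓ C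
    let sec : ∀ b, Γ(L, W b) := fun b => Bool.rec (0 : Γ(L, g ⁻¹ᵁ U ⊓ C)) (φ.app U e) b
    have hcompat : ∀ a b, mres L (inf_le_left : W a ⊓ W b ≤ W a) (sec a) = mres L (inf_le_right : W a ⊓ W b ≤ W b) (sec b) := by
      intro a b
      cases a <;> cases b
      · rfl
      · exact eq_of_empty (fun x (hx : x ∈ (g ⁻¹ᵁ U ⊓ C) ⊓ j ''ᵁ ((j ≫ g) ⁻¹ᵁ U)) =>
          hdisj x (j.image_le_opensRange _ hx.2) hx.1.2) _ _
      · exact eq_of_empty (fun x (hx : x ∈ j ''ᵁ ((j ≫ g) ⁻¹ᵁ U) ⊓ (g ⁻¹ᵁ U ⊓ C)) =>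
          hdisj x (j.image_le_opensRange _ hx.1) hx.2.2) _ _
      · rfl
    obtain ⟨s, hs, -⟩ := TopCat.Sheaf.existsUnique_gluing' ⟨L.presheaf, L.isSheaf⟩ W (g ⁻¹ᵁ U)
      (fun b => homOfLE (by cases b; exacts [inf_le_left, image_preimage_comp j g U])) (by
        intro x hx
        rcases (show x ∈ j.opensRange ∨ x ∈ C from hcov.ge (Opens.mem_top x)) with ⟨y, rfl⟩ | hC
        · exact Opens.mem_iSup.mpr ⟨true, ⟨y, hx, rfl⟩⟩
        · exact Opens.mem_iSup.mpr ⟨false, hx, hC⟩) sec hcompat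
    exact ⟨s, hs true, hs false⟩
  choose s hs hs' using hex
  obtain ⟨ψ, hψ⟩ := RelSpec.exists_modHom (M := E) (N := (Scheme.Modules.pushforward g).obj L)
    (fun U _ => AddMonoidHom.mk' (s U) fun a b => ext_disjoint hcov
      (by rw [mres_add, hs]; exact (map_add _ a b).trans (congrArg₂ (· + ·) (hs U a).symm (hs U b).symm))
      (by rw [mres_add, hs']; exact ((congrArg₂ (· + ·) (hs' U a) (hs' U b)).trans (add_zero _)).symm))
    (fun U hU r x => ext_disjoint hcov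
      (by
        refine (hs U (r • x)).trans ?_
        refine Eq.trans ?_ (InvExt.mres_smul L _ (g.app U r) (s U x)).symm
        rw [hs, Ample.app_smul]
        have key := appIso_inv_app_comp (j := j) (g := g) U le_rfl (image_preimage_comp j g U) r
        rw [InvExt.fres_self] at key
        rw [← key]
        rfl)
      (by
        refine (hs' U (r • x)).trans ?_
        refine Eq.trans ?_ (InvExt.mres_smul L _ (g.app U r) (s U x)).symm
        rw [hs', smul_zero]))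
    (fun U V hU hV h x => ext_disjoint hcov
      (by
        refine (hs V _).trans ?_
        refine Eq.trans ?_ (InvExt.mres_mres L (g.preimage_mono h) _ (s U x)).symm
        refine Eq.trans ?_ (InvExt.mres_mres L (image_preimage_comp j g U)
          (Scheme.Hom.image_mono j ((j ≫ g).preimage_mono h)) (s U x))
        rw [hs]
        exact Ample.app_mres φ h x)
      (by
        refine (hs' V _).trans ?_
        refine Eq.trans ?_ (InvExt.mres_mres L (g.preimage_mono h) _ (s U x)).symm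
        refine Eq.trans ?_ (InvExt.mres_mres L (inf_le_left : g ⁻¹ᵁ U ⊓ C ≤ g ⁻¹ᵁ U)
          (inf_le_inf_right _ (g.preimage_mono h)) (s U x))
        rw [hs', mres_zero]))
  exact ⟨ψ, fun U hU e => by rw [hψ U hU e]; exact ⟨hs U e, hs' U e⟩⟩

variable {j C g}

/-- The pieces of the open part are pieces of the extension. -/
theorem exists_piece_extend {F : Y.Modules} {Ψ : F ⟶ (Scheme.Modules.pushforward g).obj L}
    (hdisj : ∀ x, x ∈ j.opensRange → x ∉ C) (hcov : j.opensRange ⊔ C = ⊤)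
    {φ : E ⟶ (Scheme.Modules.pushforward (j ≫ g)).obj (L.restrict j)} {U : Y.AffineZariskiSite} {e : Γ(E, U.1)}
    (ι : Γ(E, U.1) → Γ(F, U.1))
    (hι : ∀ b, mres L (image_preimage_comp j g U.1) (Ψ.app U.1 (ι b)) =
        (show Γ(L, j ''ᵁ ((j ≫ g) ⁻¹ᵁ U.1)) from φ.app U.1 b) ∧
      mres L (inf_le_left : g ⁻¹ᵁ U.1 ⊓ C ≤ g ⁻¹ᵁ U.1) (Ψ.app U.1 (ι b)) = 0)
    (hp : PieceImm (j ≫ g) φ U e) :
    j ''ᵁ Tp (j ≫ g) φ U e = Tp g Ψ U (ι e) ∧ PieceImm g Ψ U (ι e) := by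
  have hT : j ''ᵁ Tp (j ≫ g) φ U e = Tp g Ψ U (ι e) := by
    ext z
    show z ∈ j ''ᵁ Tp (j ≫ g) φ U e ↔ z ∈ genOpen L _
    rw [mem_genOpen]
    constructor
    · rintro ⟨y, hy, rfl⟩
      have h1 := (genAt_restrict (L := L) j (V := (j ≫ g) ⁻¹ᵁ U.1) (φ.app U.1 e) y).mp (mem_genOpen.mp hy)
      have h2 : GenAt L (mres L (image_preimage_comp j g U.1) (Ψ.app U.1 (ι e))) (j y) :=
        (congrArg (fun t => GenAt L t (j y)) (hι e).1).mpr h1
      exact ((genAt_mres _ _).mp h2).2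
    · intro hz
      rcases (show z ∈ j.opensRange ∨ z ∈ C from hcov.ge (Opens.mem_top z)) with ⟨y, rfl⟩ | hC
      · have hyU : j y ∈ g ⁻¹ᵁ U.1 := let ⟨W, hW, hxW, _⟩ := hz; hW hxW
        refine ⟨y, mem_genOpen.mpr ((genAt_restrict (L := L) j (V := (j ≫ g) ⁻¹ᵁ U.1) (φ.app U.1 e) y).mpr ?_), rfl⟩
        exact (congrArg (fun t => GenAt L t (j y)) (hι e).1).mp ((genAt_mres _ _).mpr ⟨⟨y, hyU, rfl⟩, hz⟩)
      · exfalso
        have hzU : z ∈ g ⁻¹ᵁ U.1 := let ⟨W, hW, hxW, _⟩ := hz; hW hxW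
        have h0 : GenAt L (mres L (inf_le_left : g ⁻¹ᵁ U.1 ⊓ C ≤ g ⁻¹ᵁ U.1) (Ψ.app U.1 (ι e))) z :=
          (genAt_mres _ _).mpr ⟨⟨hzU, hC⟩, hz⟩
        rw [(hι e).2] at h0
        obtain ⟨W, hW, hzW, hgen⟩ := h0
        have : (1 : Γ(X, W)) = 0 := (hgen W le_rfl).1 (by simp [InvExt.mres])
        exact one_ne_zero (α := X.presheaf.stalk z) (by
          rw [← map_one (X.presheaf.germ W z hzW).hom, ← map_zero (X.presheaf.germ W z hzW).hom, this])
  refine ⟨hT, ?_⟩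
  let T₁ := Tp (j ≫ g) φ U e
  refine pieceImm_of_le (W := j ''ᵁ T₁) hT.ge ((j.appIso T₁).inv.hom.comp (RS (j ≫ g) φ U e).subtype) ?_ fun a => ?_
  · haveI : IsImmersion (toAff (T₁.topIso.inv.hom.comp (RS (j ≫ g) φ U e).subtype)) := hp
    have h1 : toAff ((j ''ᵁ T₁).topIso.inv.hom.comp ((j.appIso T₁).inv.hom.comp (RS (j ≫ g) φ U e).subtype)) =
        (j.isoImage T₁).inv ≫ toAff (T₁.topIso.inv.hom.comp (RS (j ≫ g) φ U e).subtype) := by
      rw [Iso.eq_inv_comp, comp_toAff]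
      refine congrArg toAff (RingHom.ext fun a => ?_)
      have hk : j ''ᵁ T₁ ≤ j ''ᵁ T₁ := le_rfl
      show (j.isoImage T₁).hom.appTop ((j ''ᵁ T₁).topIso.inv ((j.appIso T₁).inv a.1)) = T₁.topIso.inv a.1
      have hres : (j.isoImage T₁).hom = j.resLE (j ''ᵁ T₁) T₁ (j.preimage_image_eq T₁).ge := by
        rw [← cancel_mono (j ''ᵁ T₁).ι, Scheme.Hom.isoImage_hom_ι, Scheme.Hom.resLE_comp_ι]
      show ((j.isoImage T₁).hom.app ⊤).hom _ = _
      rw [hres, Scheme.Hom.resLE_app_top, CommRingCat.comp_apply, CommRingCat.comp_apply, Iso.inv_hom_id_apply,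
        ← Scheme.Hom.appIso_hom', Iso.inv_hom_id_apply]
      rfl
    rw [h1]
    infer_instance
  · have hgp : ∀ b, gp g Ψ U (ι e) (ι b) =
        mres L hT.ge (show Γ(L, j ''ᵁ T₁) from gp (j ≫ g) φ U e b) := fun b => by
      show mres L _ _ = mres L hT.ge (mres L (Scheme.Hom.image_mono j (Tp_le (j ≫ g) φ U e))
        (show Γ(L, j ''ᵁ ((j ≫ g) ⁻¹ᵁ U.1)) from φ.app U.1 b))
      rw [← (hι b).1, InvExt.mres_mres, InvExt.mres_mres]
    refine map_mem_of_RS ((X.presheaf.map (homOfLE hT.ge).op).hom.comp (j.appIso T₁).inv.hom) (RS g Ψ U (ι e))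
      (fun r => ?_) (fun b => ?_) a.2
    · have h1 := base_mem_RS g Ψ U (ι e) r
      show fres X hT.ge ((j.appIso T₁).inv (fres X₁ (Tp_le (j ≫ g) φ U e) ((j ≫ g).app U.1 r))) ∈ _
      rw [appIso_inv_app_comp (j := j) (g := g) U.1 (Tp_le (j ≫ g) φ U e)
        ((Scheme.Hom.image_mono j (Tp_le (j ≫ g) φ U e)).trans (image_preimage_comp j g U.1)) r, InvExt.fres_fres]
      exact h1
    · show fres X hT.ge ((j.appIso T₁).inv (rat (j ≫ g) φ U e b)) ∈ _
      have hr : rat g Ψ U (ι e) (ι b) = fres X hT.ge ((j.appIso T₁).inv (rat (j ≫ g) φ U e b)) := by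
        refine rat_eq ?_
        rw [hgp, hgp, rat_spec (j ≫ g) φ U e b]
        exact InvExt.mres_smul L hT.ge _ _
      rw [← hr]
      exact rat_mem_RS g Ψ U (ι e) (ι b)

theorem isRelVeryAmple_precomp {X' : Scheme.{u}} (m : X' ⟶ X) [IsImmersion m]
    (h : RelProj.IsRelVeryAmple g L) : RelProj.IsRelVeryAmple (m ≫ g) ((Scheme.Modules.pullback m).obj L) := by
  obtain ⟨E, hE, 𝒮, i', hj, P, p, chart, hP, O1, lam, hO1, i, hi, hip, ⟨e⟩⟩ := h
  haveI := hi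
  exact ⟨E, hE, 𝒮, i', hj, P, p, chart, hP, O1, lam, hO1, m ≫ i, inferInstance, by rw [Category.assoc, hip],
    ⟨(Scheme.Modules.pullback m).mapIso e ≪≫ (Scheme.Modules.pullbackComp m i).app O1⟩⟩

end GrothLib.VA
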