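import Groth.Agent.Lib.VA.Tensor
import Groth.Agent.Lib.Cube.Pic

/-!
# Very ampleness of powers and twists
-/

set_option autoImplicit false
set_option backward.isDefEq.respectTransparency false

universe u

open CategoryTheory CategoryTheory.Limits AlgebraicGeometry TopologicalSpace Opposite

noncomputable section

namespace GrothLib.VA

variable {X Y : Scheme.{u}} {g : X ⟶ Y} {L : X.Modules}

theorem isRelVeryAmple_of_cls {L L' : X.Modules} (hL : PicF.IsInvertible L) (hL' : PicF.IsInvertible L')
    (h : Cube.clsMod hL = Cube.clsMod hL') (hva : RelProj.IsRelVeryAmple g L) : RelProj.IsRelVeryAmple g L' :=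
  isRelVeryAmple_of_iso ((Cube.clsMod_eq_iff hL hL').mp h).some hva

theorem isRelVeryAmple_tensorPow (hL : PicF.IsInvertible L) (hva : RelProj.IsRelVeryAmple g L) {n : ℕ} (hn : 0 < n) :
    RelProj.IsRelVeryAmple g (CohB1.tensorPow L n) := by
  induction n with
  | zero => omega
  | succ n ih =>
    rcases Nat.eq_zero_or_pos n with rfl | h
    · exact isRelVeryAmple_of_cls hL (Ample.isInvertible_tensorPow hL 1)
        (by rw [Cube.clsMod_tensorPow, pow_one]) hva
    · exact isRelVeryAmple_tensor_of_isRelVeryAmple (Ample.isInvertible_tensorPow hL n) hL (ih h) hva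

theorem isRelVeryAmple_twist_base (hL : PicF.IsInvertible L) {K : Y.Modules} (hK : PicF.IsInvertible K)
    (hqK : Coh.IsQCoh K) (hva : RelProj.IsRelVeryAmple g L) :
    RelProj.IsRelVeryAmple g (CohB1.tensorMod L ((Scheme.Modules.pullback g).obj K)) :=
  isRelVeryAmple_tensor hL (Ample.isInvertible_pullback g hK) hqK _
    (isGenBy_of_epi (Ample.isInvertible_pullback g hK) (𝟙 _)) hva

theorem exists_inverse {K : Y.Modules} (hK : PicF.IsInvertible K) :
    ∃ (K' : Y.Modules) (hK' : PicF.IsInvertible K'), Cube.clsMod hK' = (Cube.clsMod hK)⁻¹ := by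
  obtain ⟨c, ⟨e⟩⟩ := Ample.exists_cocycle hK
  let d := Cube.inv c
  have hd : PicF.IsInvertible (d.twist 1) := d.isInvertible_of_iso (Iso.refl _)
  refine ⟨d.twist 1, hd, eq_inv_of_mul_eq_one_left ?_⟩
  rw [Cube.clsMod_eq hd (Iso.refl _), Cube.clsMod_eq hK e, ← Cube.cls_prod]
  exact Quotient.sound (Cube.eqv_prod_inv c)

theorem isRelVeryAmple_twist_base_iff (hL : PicF.IsInvertible L) {K : Y.Modules} (hK : PicF.IsInvertible K)
    (hq : ∀ M : Y.Modules, PicF.IsInvertible M → Coh.IsQCoh M) :
    RelProj.IsRelVeryAmple g L ↔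
      RelProj.IsRelVeryAmple g (CohB1.tensorMod L ((Scheme.Modules.pullback g).obj K)) := by
  refine ⟨isRelVeryAmple_twist_base hL hK (hq K hK), fun h => ?_⟩
  obtain ⟨K', hK', e⟩ := exists_inverse hK
  have hK1 := Ample.isInvertible_pullback g hK
  have hK1' := Ample.isInvertible_pullback g hK'
  have hT := Ample.isInvertible_tensorMod hL hK1
  refine isRelVeryAmple_of_cls (Ample.isInvertible_tensorMod hT hK1') hL ?_ (isRelVeryAmple_twist_base hT hK' (hq K' hK') h)
  rw [Cube.clsMod_tensorMod hT hK1', Cube.clsMod_tensorMod hL hK1, Cube.clsMod_pullback g hK, Cube.clsMod_pullback g hK', e, map_inv,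
    mul_inv_cancel_right]

end GrothLib.VA
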