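import Groth.Agent.Lib.VA.BaseChange
import Groth.Agent.Lib.VA.Disjoint
import Groth.Agent.Lib.VA.Tensor
import Groth.Agent.Lib.QCoh.Qcqs
import Groth.Agent.Lib.Euler.Coh
import Groth.Agent.Lib.Ample.ProjExt
import Groth.Prelude.Def_LCI2

/-!
# `O(1)` of projective space is very ample
-/

set_option autoImplicit false
set_option backward.isDefEq.respectTransparency false

universe u

open CategoryTheory CategoryTheory.Limits AlgebraicGeometry TopologicalSpace Opposite HomogeneousLocalization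
open GrothLib.InvExt (mres fres IsGen)

noncomputable section

namespace GrothLib.VA

variable {X Y : Scheme.{u}}

theorem toAff_topIso_inv (W : X.Opens) : toAff W.topIso.inv.hom = W.toSpecΓ := rfl

/-- A piece is embedded when it is affine and all its functions are generated by the ratios. -/
theorem pieceImm_of_affine {E : Y.Modules} {L : X.Modules} {g : X ⟶ Y} {φ : E ⟶ (Scheme.Modules.pushforward g).obj L}
    {U : Y.AffineZariskiSite} {e : Γ(E, U.1)} {W : X.Opens} (hle : Tp g φ U e ≤ W) (hW : IsAffineOpen W)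
    (h : ∀ a : Γ(X, W), fres X hle a ∈ RS g φ U e) : PieceImm g φ U e := by
  refine pieceImm_of_le hle (RingHom.id _) ?_ h
  rw [RingHom.comp_id, toAff_topIso_inv, ← IsAffineOpen.isoSpec_hom hW]
  infer_instance

/-- Very ampleness from global sections with affine loci and generating ratios, over an affine base. -/
theorem isRelVeryAmple_of_affine_loci [IsAffine Y] (g : X ⟶ Y) [QuasiCompact g] [IsSeparated g] (L : X.Modules)
    [L.IsQuasicoherent]
    (h : ∀ x : X, ∃ (W : X.Opens) (s : Γ(L, ⊤)), x ∈ W ∧ IsAffineOpen W ∧ genOpen L s = W ∧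
      ∀ a : Γ(X, W), a ∈ Subring.closure (Set.range (g.appLE ⊤ W le_top).hom ∪
        {c | ∃ t : Γ(L, ⊤), mres L (le_top : W ≤ ⊤) t = c • mres L (le_top : W ≤ ⊤) s})) :
    RelProj.IsRelVeryAmple g L := by
  refine isRelVeryAmple_iff.mpr ⟨_, 𝟙 _, QCoh.isQuasicoherent_pushforward g L, fun x => ?_⟩
  obtain ⟨W, s, hx, hW, hs, hgen⟩ := h x
  let Uz : Y.AffineZariskiSite := ⟨⊤, isAffineOpen_top Y⟩
  subst hs
  refine ⟨Uz, s, hx, pieceImm_of_affine le_rfl hW fun a => ?_⟩
  have key : Subring.closure (Set.range (g.appLE ⊤ (genOpen L s) le_top).hom ∪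
      {c | ∃ t : Γ(L, ⊤), mres L (le_top : genOpen L s ≤ ⊤) t = c • mres L (le_top : genOpen L s ≤ ⊤) s}) ≤
      RS g (𝟙 ((Scheme.Modules.pushforward g).obj L)) Uz s := by
    rw [Subring.closure_le]
    rintro _ (⟨r, rfl⟩ | ⟨t, ht⟩)
    · exact base_mem_RS g (𝟙 ((Scheme.Modules.pushforward g).obj L)) Uz s r
    · have hr : rat g (𝟙 ((Scheme.Modules.pushforward g).obj L)) Uz s t = _ := rat_eq ht
      exact hr ▸ rat_mem_RS g (𝟙 ((Scheme.Modules.pushforward g).obj L)) Uz s t
  exact Eq.mpr (congrArg (· ∈ RS g (𝟙 ((Scheme.Modules.pushforward g).obj L)) Uz s) (InvExt.fres_self a))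
    (key (hgen a))

section away

variable {A : Type u} [CommRing A] {σ : Type u} [SetLike σ A] [AddSubgroupClass σ A] {𝒜 : ℕ → σ} [GradedRing 𝒜]

theorem away_mem_of_generators {f : A} (hf : f ∈ 𝒜 1) (G : Set A) (hG : Subring.closure ((𝒜 0 : Set A) ∪ G) = ⊤)
    (hG1 : ∀ x ∈ G, x ∈ 𝒜 1) (C : Subring (Away 𝒜 f)) (h0 : ∀ a, fromZeroRingHom 𝒜 _ a ∈ C)
    (h1 : ∀ x (hx : x ∈ G), Away.mk 𝒜 hf 1 x (by simpa using hG1 x hx) ∈ C) (z : Away 𝒜 f) : z ∈ C := by
  classical
  let Q : ℕ → A → Prop := fun m a => ∃ w ∈ C, w.val * algebraMap A (Localization.Away f) f ^ m =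
    algebraMap A (Localization.Away f) a
  have single : ∀ {m : ℕ} {a : A}, a ∈ 𝒜 m → Q m a → ∀ n, Q n (DirectSum.decompose 𝒜 a n : A) := by
    intro m a ha h n
    rcases eq_or_ne m n with rfl | hne
    · rwa [DirectSum.decompose_of_mem_same 𝒜 ha]
    · rw [DirectSum.decompose_of_mem_ne 𝒜 ha hne]
      exact ⟨0, zero_mem _, by rw [HomogeneousLocalization.val_zero, zero_mul, map_zero]⟩
  have hadd : ∀ {n : ℕ} {a b : A}, Q n a → Q n b → Q n (a + b) := by
    rintro n a b ⟨w, hw, e⟩ ⟨v, hv, e'⟩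
    exact ⟨w + v, add_mem hw hv, by rw [HomogeneousLocalization.val_add, add_mul, e, e', map_add]⟩
  have H : ∀ a ∈ Subring.closure ((𝒜 0 : Set A) ∪ G), ∀ n, Q n (DirectSum.decompose 𝒜 a n : A) := by
    intro a ha
    induction ha using Subring.closure_induction with
    | mem x hx =>
      rcases hx with hx | hx
      · refine single hx ⟨fromZeroRingHom 𝒜 _ ⟨x, hx⟩, h0 _, ?_⟩
        rw [pow_zero, mul_one, ← Localization.mk_one_eq_algebraMap]
        rfl
      · refine single (hG1 x hx) ⟨Away.mk 𝒜 hf 1 x (by simpa using hG1 x hx), h1 x hx, ?_⟩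
        rw [Away.val_mk, Localization.mk_eq_mk']
        simpa [pow_one] using IsLocalization.mk'_spec (Localization.Away f) x
          (⟨f ^ 1, 1, rfl⟩ : Submonoid.powers f)
    | zero => exact single (zero_mem (𝒜 0)) ⟨0, zero_mem _, by rw [HomogeneousLocalization.val_zero, zero_mul, map_zero]⟩
    | one =>
      refine single (SetLike.GradedOne.one_mem (A := 𝒜)) ⟨1, one_mem _, ?_⟩
      rw [HomogeneousLocalization.val_one, pow_zero, mul_one, map_one]
    | add x y _ _ hx hy =>
      intro n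
      rw [DirectSum.decompose_add, DirectSum.add_apply, AddMemClass.coe_add]
      exact hadd (hx n) (hy n)
    | neg x _ hx =>
      intro n
      obtain ⟨w, hw, e⟩ := hx n
      refine ⟨-w, neg_mem hw, ?_⟩
      rw [DirectSum.decompose_neg, DFinsupp.neg_apply, NegMemClass.coe_neg, HomogeneousLocalization.val_neg, neg_mul, e,
        map_neg]
    | mul x y _ _ hx hy =>
      intro n
      rw [DirectSum.decompose_mul, DirectSum.coe_mul_apply]
      refine Finset.sum_induction _ (Q n) (fun a b => hadd)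
        ⟨0, zero_mem _, by rw [HomogeneousLocalization.val_zero, zero_mul, map_zero]⟩ fun ij hij => ?_
      obtain rfl : ij.1 + ij.2 = n := (Finset.mem_filter.mp hij).2
      obtain ⟨w, hw, e⟩ := hx ij.1
      obtain ⟨v, hv, e'⟩ := hy ij.2
      exact ⟨w * v, mul_mem hw hv, by rw [HomogeneousLocalization.val_mul, map_mul, ← e, ← e', pow_add]; ring⟩
  obtain ⟨m, a, ha, rfl⟩ := Away.mk_surjective 𝒜 hf z
  obtain ⟨w, hw, e⟩ := H a (hG.ge (Subring.mem_top a)) m
  rw [DirectSum.decompose_of_mem_same 𝒜 (by simpa using ha)] at e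
  have hwz : w = Away.mk 𝒜 hf m a ha := by
    refine HomogeneousLocalization.val_injective _ ?_
    rw [Away.val_mk, Localization.mk_eq_mk', IsLocalization.eq_mk'_iff_mul_eq, map_pow]
    exact e
  exact hwz ▸ hw

end away

open MvPolynomial (X) in
theorem isRelVeryAmple_projSpace (n : ℕ) (R : Type u) [CommRing R] :
    RelProj.IsRelVeryAmple (CohB1.ProjSpace.toSpec n R) (Twist.twistProjSpace n R 1) := by
  let P := CohB1.ProjSpace n R
  let L := (Scheme.Modules.pullback (𝟙 P)).obj (Twist.twistProjSpace n R 1)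
  refine isRelVeryAmple_of_iso ((Scheme.Modules.pullbackId P).app _) ?_
  have hinv : PicF.IsInvertible L := InvExt.isInvertible_of_gens fun x => by
    obtain ⟨k, hk⟩ := (Ample.ProjMap.pcoc n R).exists_mem x
    exact ⟨_, _, hk, Ample.ProjMap.isGen_pullCoord (𝟙 P) k⟩
  haveI : L.IsQuasicoherent := Euler.isQuasicoherent_of_isFinLocFree (Euler.isFinLocFree_of_isInvertible hinv)
  haveI : CompactSpace P := by
    refine ⟨?_⟩
    rw [← Opens.coe_top, ← Ample.ProjMap.iSup_basicOpen_X n R, Opens.coe_iSup]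
    exact isCompact_iUnion fun i =>
      (Proj.isAffineOpen_basicOpen (CohB1.polyGrading n R) (X i) (Ample.ProjMap.X_mem i) one_pos).isCompact
  haveI : QuasiCompact (CohB1.ProjSpace.toSpec n R) := quasiCompact_of_compactSpace _
  haveI : IsSeparated (CohB1.ProjSpace.toSpec n R) := by
    delta CohB1.ProjSpace.toSpec
    infer_instance
  refine isRelVeryAmple_of_affine_loci (CohB1.ProjSpace.toSpec n R) L fun x => ?_
  obtain ⟨k, hk⟩ := (Ample.ProjMap.pcoc n R).exists_mem x
  let W : P.Opens := (𝟙 P) ⁻¹ᵁ (Ample.ProjMap.pcoc n R).D k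
  have hgenW := Ample.ProjMap.isGen_pullCoord (𝟙 P) k
  refine ⟨W, Ample.ProjMap.pullCoord (𝟙 P) k.down, hk,
    Proj.isAffineOpen_basicOpen (CohB1.polyGrading n R) _ (Ample.ProjMap.X_mem k.down) one_pos, ?_, fun a => ?_⟩
  · refine le_antisymm (fun y hy => ?_) fun y hy => mem_genOpen.mpr ⟨W, le_top, hy, hgenW⟩
    obtain ⟨i, hi⟩ := (Ample.ProjMap.pcoc n R).exists_mem y
    have hb := (genAt_iff_mem_basicOpen (le_top : (𝟙 P) ⁻¹ᵁ (Ample.ProjMap.pcoc n R).D i ≤ ⊤)
      (Ample.ProjMap.isGen_pullCoord (𝟙 P) i) (Ample.ProjMap.mres_pullCoord (𝟙 P) i k.down) (x := y) hi).mp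
      (mem_genOpen.mp hy)
    exact Ample.ProjMap.basicOpen_pullRatio_le (𝟙 P) i.down k.down hb
  · let f : MvPolynomial (Fin (n + 1)) R := X k.down
    let ψ : Away (CohB1.polyGrading n R) f →+* Γ(P, W) := (Proj.awayToSection (CohB1.polyGrading n R) f).hom
    have hsurj : Function.Surjective ψ := by
      have h1 := (ConcreteCategory.bijective_of_isIso (Proj.basicOpenIsoAway (CohB1.polyGrading n R) f
        (Ample.ProjMap.X_mem k.down) one_pos).hom).2
      exact h1
    obtain ⟨z, rfl⟩ := hsurj a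
    refine away_mem_of_generators (𝒜 := CohB1.polyGrading n R) (f := f) (Ample.ProjMap.X_mem k.down)
      (Set.range X) ?_ ?_ ((Subring.closure _).comap ψ) (fun r => ?_) (fun p hp => ?_) z
    · refine eq_top_iff.mpr fun p _ => ?_
      induction p using MvPolynomial.induction_on with
      | C r => exact Subring.subset_closure (Or.inl (MvPolynomial.isHomogeneous_C _ r))
      | add p q hp hq => exact add_mem (hp trivial) (hq trivial)
      | mul_X p i hp => exact mul_mem (hp trivial) (Subring.subset_closure (Or.inr ⟨i, rfl⟩))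
    · rintro _ ⟨i, rfl⟩; exact Ample.ProjMap.X_mem i
    · refine Subring.subset_closure (Or.inl ?_)
      obtain ⟨r₀, rfl⟩ : ∃ r₀, algebraMap R (CohB1.polyGrading n R 0) r₀ = r := by
        refine ⟨MvPolynomial.coeff 0 r.1, Subtype.ext ?_⟩
        show MvPolynomial.C (MvPolynomial.coeff 0 r.1) = r.1
        exact ((MvPolynomial.totalDegree_eq_zero_iff_eq_C (p := r.1)).mp
          (Nat.le_zero.mp (MvPolynomial.IsHomogeneous.totalDegree_le r.2))).symm
      refine ⟨(Scheme.ΓSpecIso (CommRingCat.of R)).inv r₀, ?_⟩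
      show ((Proj.toSpecZero (CohB1.polyGrading n R) ≫
        Spec.map (CommRingCat.ofHom (algebraMap R (CohB1.polyGrading n R 0)))).appLE ⊤ W le_top).hom _ = _
      refine Eq.trans ?_ (constSec_res (CohB1.polyGrading n R) (Ample.ProjMap.X_mem k.down) one_pos
        (algebraMap R (CohB1.polyGrading n R 0) r₀))
      show (P.presheaf.map _).hom ((Proj.toSpecZero (CohB1.polyGrading n R)).appTop
        ((Spec.map (CommRingCat.ofHom (algebraMap R (CohB1.polyGrading n R 0)))).appTop _)) = _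
      rw [← CommRingCat.comp_apply (Scheme.ΓSpecIso (CommRingCat.of R)).inv, ← Scheme.ΓSpecIso_inv_naturality]
      rfl
    · obtain ⟨i, rfl⟩ := hp
      refine Subring.subset_closure (Or.inr ⟨Ample.ProjMap.pullCoord (𝟙 P) i, ?_⟩)
      refine (Ample.ProjMap.mres_pullCoord (𝟙 P) k i).trans ?_
      congr 1

theorem isRelVeryAmple_of_pn {f : X ⟶ Y} {L : X.Modules} (h : RelAmple.IsRelVeryAmplePn f L) :
    RelProj.IsRelVeryAmple f L := by
  obtain ⟨n, i, hi, hif, ⟨e⟩⟩ := h
  haveI := hi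
  have hinv : PicF.IsInvertible (Twist.twistProjSpace n (ULift.{u} ℤ) 1) :=
    (Ample.ProjMap.pcoc n (ULift.{u} ℤ)).isInvertible_of_iso (Ample.ProjMap.pcocIso n (ULift.{u} ℤ))
  have hsq : IsPullback (pullback.fst (CohB1.ProjSpace.toSpec n (ULift.{u} ℤ)) (specULiftZIsTerminal.from Y))
      (CohB1.ProjSpaceOver.toBase n Y) (CohB1.ProjSpace.toSpec n (ULift.{u} ℤ)) (specULiftZIsTerminal.from Y) :=
    IsPullback.of_hasPullback _ _
  have h1 := isRelVeryAmple_baseChange hsq hinv (isRelVeryAmple_projSpace n _)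
  exact isRelVeryAmple_of_iso e.symm (hif ▸ isRelVeryAmple_precomp i h1)

end GrothLib.VA
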