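import Groth.Agent.Lib.VA.Crit
import Groth.Agent.Lib.Ample.Immersion
import Mathlib.AlgebraicGeometry.AffineSpace

/-!
# Embeddings into affine spaces given by finitely many functions
-/

set_option autoImplicit false
set_option backward.isDefEq.respectTransparency false

universe u

open CategoryTheory CategoryTheory.Limits AlgebraicGeometry TopologicalSpace Opposite
open AlgebraicGeometry.AffineSpace

noncomputable section

namespace GrothLib.VA

theorem toAff_appTop {T : Scheme.{u}} {A : Type u} [CommRing A] (h : A →+* Γ(T, ⊤)) (a : A) :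
    (toAff h).appTop ((Scheme.ΓSpecIso (CommRingCat.of A)).inv a) = h a := by
  show (toAff h).appTop.hom _ = _
  simp only [toAff, Scheme.Hom.comp_appTop, Scheme.toSpecΓ_appTop]
  rw [Scheme.ΓSpecIso_naturality]
  simp

theorem toAff_appTop_hom {T S : Scheme.{u}} [IsAffine S] (i : T ⟶ S) :
    toAff i.appTop.hom = i ≫ S.isoSpec.hom := by
  rw [toAff, CommRingCat.ofHom_hom, ← Scheme.toSpecΓ_naturality]
  rfl

variable {T S : Scheme.{u}}

theorem mem_of_homOfVector [IsAffine S] {J : Type u} (p : T ⟶ S) (v : J → Γ(T, ⊤)) (R : Subring Γ(T, ⊤))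
    (hp : ∀ s, p.appTop s ∈ R) (hv : ∀ j, v j ∈ R) (a : Γ(𝔸(J; S), ⊤)) : (homOfVector p v).appTop a ∈ R := by
  have hsurj := (ConcreteCategory.bijective_of_isIso (AffineSpace.isoOfIsAffine J S).hom.appTop).2
  obtain ⟨b, rfl⟩ := hsurj a
  obtain ⟨P, rfl⟩ := (ConcreteCategory.bijective_of_isIso
    (Scheme.ΓSpecIso (CommRingCat.of (MvPolynomial J Γ(S, ⊤)))).inv).2 b
  rw [AffineSpace.isoOfIsAffine_hom_appTop]
  simp only [CommRingCat.comp_apply, Iso.inv_hom_id_apply, CommRingCat.hom_ofHom]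
  induction P using MvPolynomial.induction_on with
  | C s =>
    rw [MvPolynomial.eval₂Hom_C]
    have := congrArg (fun k : T ⟶ S => k.appTop s) (homOfVector_over p v)
    simp only [Scheme.Hom.comp_appTop, CommRingCat.comp_apply] at this
    rw [this]
    exact hp s
  | add P Q hP hQ => rw [map_add, map_add]; exact add_mem hP hQ
  | mul_X P j hP =>
    rw [map_mul, map_mul, MvPolynomial.eval₂Hom_X', homOfVector_appTop_coord]
    exact mul_mem hP (hv j)

/-- An embedding into affine space gives an embedding through any ring containing the coordinates. -/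
theorem isImmersion_toAff_of_homOfVector [IsAffine S] {J : Type u} (p : T ⟶ S) (v : J → Γ(T, ⊤))
    [IsImmersion (homOfVector p v)] (R : Subring Γ(T, ⊤)) (hp : ∀ s, p.appTop s ∈ R) (hv : ∀ j, v j ∈ R) :
    IsImmersion (toAff R.subtype) := by
  refine isImmersion_toAff_of_range_le _ R.subtype ?_
    (show IsImmersion (toAff (homOfVector p v).appTop.hom) by rw [toAff_appTop_hom]; infer_instance)
  rintro _ ⟨a, rfl⟩
  exact ⟨⟨_, mem_of_homOfVector p v R hp hv a⟩, rfl⟩

theorem isImmersion_homOfVector_of_toAff [IsAffine S] {J : Type u} (p : T ⟶ S) (v : J → Γ(T, ⊤)) {A : Type u}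
    [CommRing A] (h : A →+* Γ(T, ⊤)) (hi : IsImmersion (toAff h))
    (hh : ∀ a, h a ∈ Subring.closure (Set.range p.appTop.hom ∪ Set.range v)) : IsImmersion (homOfVector p v) := by
  haveI : IsImmersion (homOfVector p v ≫ (Scheme.isoSpec 𝔸(J; S)).hom) := by
    rw [← toAff_appTop_hom]
    refine isImmersion_toAff_of_range_le _ _ ?_ hi
    rintro _ ⟨a, rfl⟩
    refine (Subring.closure_le.mpr ?_) (hh a)
    rintro _ (⟨s, rfl⟩ | ⟨j, rfl⟩)
    · exact ⟨(𝔸(J; S) ↘ S).appTop s,
        congrArg (fun k : T ⟶ S => k.appTop s) (homOfVector_over p v)⟩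
    · exact ⟨coord S j, homOfVector_appTop_coord p v j⟩
  exact IsImmersion.of_comp (homOfVector p v) (Scheme.isoSpec 𝔸(J; S)).hom

/-- Restricting an embedding into affine space and changing the base along an immersion. -/
theorem isImmersion_homOfVector_of_restrict {T' S' S₁ : Scheme.{u}} {J : Type u} (p : T ⟶ S) (v : J → Γ(T, ⊤))
    [IsImmersion (homOfVector p v)] (m : T' ⟶ T) [IsImmersion m] (p' : T' ⟶ S') (l : S' ⟶ S) (k : S' ⟶ S₁)
    [IsImmersion k] (h : p' ≫ l = m ≫ p) :
    IsImmersion (homOfVector (p' ≫ k) fun j => m.appTop (v j)) := by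
  let v' : J → Γ(T', ⊤) := fun j => m.appTop (v j)
  have h1 : homOfVector p' v' ≫ AffineSpace.map J l = m ≫ homOfVector p v := by
    refine AffineSpace.hom_ext (by simp [h]) fun j => ?_
    simp only [Scheme.Hom.comp_appTop, CommRingCat.comp_apply, map_appTop_coord, homOfVector_appTop_coord, v']
  haveI : IsImmersion (homOfVector p' v' ≫ AffineSpace.map J l) := by rw [h1]; infer_instance
  haveI := IsImmersion.of_comp (homOfVector p' v') (AffineSpace.map J l)
  haveI : IsImmersion (AffineSpace.map J k) :=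
    MorphismProperty.of_isPullback (P := @IsImmersion) (AffineSpace.isPullback_map k).flip inferInstance
  have h2 : homOfVector (p' ≫ k) v' = homOfVector p' v' ≫ AffineSpace.map J k := by
    refine AffineSpace.hom_ext (by simp) fun j => ?_
    simp only [Scheme.Hom.comp_appTop, CommRingCat.comp_apply, map_appTop_coord, homOfVector_appTop_coord]
  show IsImmersion (homOfVector (p' ≫ k) v')
  rw [h2]
  infer_instance

theorem exists_finset_mem_closure {R ι : Type*} [CommRing R] (s : Set R) (ρ : ι → R) {x : R}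
    (hx : x ∈ Subring.closure (s ∪ Set.range ρ)) : ∃ J : Finset ι, x ∈ Subring.closure (s ∪ ρ '' ↑J) := by
  classical
  have mono : ∀ {J J' : Finset ι}, J ⊆ J' → Subring.closure (s ∪ ρ '' ↑J) ≤ Subring.closure (s ∪ ρ '' ↑J') :=
    fun h => Subring.closure_mono (Set.union_subset_union_right s (Set.image_mono (Finset.coe_subset.mpr h)))
  induction hx using Subring.closure_induction with
  | mem y hy =>
    rcases hy with hy | ⟨i, rfl⟩
    · exact ⟨∅, Subring.subset_closure (Or.inl hy)⟩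
    · exact ⟨{i}, Subring.subset_closure (Or.inr ⟨i, Finset.mem_coe.mpr (Finset.mem_singleton_self i), rfl⟩)⟩
  | zero => exact ⟨∅, zero_mem _⟩
  | one => exact ⟨∅, one_mem _⟩
  | add a b _ _ ha hb =>
    obtain ⟨J, hJ⟩ := ha
    obtain ⟨J', hJ'⟩ := hb
    exact ⟨J ∪ J', add_mem (mono Finset.subset_union_left hJ) (mono Finset.subset_union_right hJ')⟩
  | neg a _ ha =>
    obtain ⟨J, hJ⟩ := ha
    exact ⟨J, neg_mem hJ⟩
  | mul a b _ _ ha hb =>
    obtain ⟨J, hJ⟩ := ha
    obtain ⟨J', hJ'⟩ := hb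
    exact ⟨J ∪ J', mul_mem (mono Finset.subset_union_left hJ) (mono Finset.subset_union_right hJ')⟩

/-- On an affine piece where an immersion is closed, fractions of the given functions are all functions. -/
theorem exists_piece {A : Type u} [CommRing A] (h : A →+* Γ(T, ⊤)) [IsImmersion (toAff h)] (t : T) :
    ∃ r : A, t ∈ T.basicOpen (h r) ∧ IsAffineOpen (T.basicOpen (h r)) ∧
      ∀ g : Γ(T, T.basicOpen (h r)), ∃ (a : A) (n : ℕ),
        g * Ample.res (T.basicOpen_le (h r)) (h r) ^ n = Ample.res (T.basicOpen_le (h r)) (h a) := by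
  let i := toAff h
  have ht : i t ∈ i.coborderRange := subset_coborder ⟨t, rfl⟩
  obtain ⟨f, hfle, hft⟩ := (isAffineOpen_top (Spec (CommRingCat.of A))).exists_basicOpen_le (V := i.coborderRange)
    ⟨i t, ht⟩ (Opens.mem_top _)
  obtain ⟨r, rfl⟩ := (ConcreteCategory.bijective_of_isIso (Scheme.ΓSpecIso (CommRingCat.of A)).inv).2 f
  let F := (Scheme.ΓSpecIso (CommRingCat.of A)).inv r
  let O := (Spec (CommRingCat.of A)).basicOpen F
  have hpre : i ⁻¹ᵁ O = T.basicOpen (h r) := by
    rw [Scheme.preimage_basicOpen]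
    exact congrArg T.basicOpen (toAff_appTop h r)
  let O' := i.coborderRange.ι ⁻¹ᵁ O
  have hO' : i.coborderRange.ι ''ᵁ O' = O := by
    rw [Scheme.Hom.image_preimage_eq_opensRange_inf, Scheme.Opens.opensRange_ι]
    exact inf_eq_right.mpr hfle
  have hOa : IsAffineOpen O := (isAffineOpen_top _).basicOpen F
  have hOa' : IsAffineOpen O' := by
    rwa [← Scheme.Hom.isAffineOpen_iff_of_isOpenImmersion i.coborderRange.ι, hO']
  have hpre' : i.liftCoborder ⁻¹ᵁ O' = i ⁻¹ᵁ O := by rw [Scheme.Hom.liftCoborder_preimage, hO']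
  refine ⟨r, hpre ▸ hft, hpre ▸ hpre' ▸ hOa'.preimage i.liftCoborder, fun g => ?_⟩
  have hsurj : Function.Surjective (i.appLE O (T.basicOpen (h r)) hpre.ge).hom := by
    have key : ∀ (U : (Spec (CommRingCat.of A)).Opens) (V : T.Opens) (e : V ≤ i ⁻¹ᵁ U),
        U = i.coborderRange.ι ''ᵁ O' → V = i.liftCoborder ⁻¹ᵁ O' → Function.Surjective (i.appLE U V e).hom := by
      rintro U V e rfl rfl
      have hs := i.liftCoborder.app_surjective O' hOa'
      have heq : i.liftCoborder.app O' = i.appLE (i.coborderRange.ι ''ᵁ O') (i.liftCoborder ⁻¹ᵁ O') e := by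
        rw [liftCoborder_app]
        simp only [Scheme.Hom.appLE]
        congr 1
      rwa [heq] at hs
    exact key _ _ _ hO'.symm (hpre'.trans hpre).symm
  obtain ⟨g', rfl⟩ := hsurj g
  haveI := (isAffineOpen_top (Spec (CommRingCat.of A))).isLocalization_basicOpen F
  obtain ⟨n, b, hb⟩ := IsLocalization.Away.surj F g'
  obtain ⟨a, rfl⟩ := (ConcreteCategory.bijective_of_isIso (Scheme.ΓSpecIso (CommRingCat.of A)).inv).2 b
  refine ⟨a, n, ?_⟩
  have hres : ∀ c : A, (i.appLE O (T.basicOpen (h r)) hpre.ge).hom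
      (algebraMap Γ(Spec (CommRingCat.of A), ⊤) Γ(Spec (CommRingCat.of A), O)
        ((Scheme.ΓSpecIso (CommRingCat.of A)).inv c)) = Ample.res (T.basicOpen_le (h r)) (h c) := fun c => by
    rw [← toAff_appTop h c]
    show ((Spec (CommRingCat.of A)).presheaf.map (homOfLE le_top).op ≫ i.appLE O (T.basicOpen (h r)) hpre.ge).hom _ =
      (i.appTop ≫ T.presheaf.map (homOfLE (T.basicOpen_le (h r))).op).hom _
    rw [Scheme.Hom.map_appLE]
    rfl
  have h2 := congrArg (i.appLE O (T.basicOpen (h r)) hpre.ge).hom hb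
  rw [map_mul, map_pow, hres, hres] at h2
  exact h2

/-- Finitely many coordinates suffice. -/
theorem exists_finset_vector [IsAffine S] [CompactSpace T] (p : T ⟶ S) [LocallyOfFiniteType p] {ι : Type u}
    (ρ : ι → Γ(T, ⊤)) {A : Type u} [CommRing A] (h : A →+* Γ(T, ⊤)) [IsImmersion (toAff h)]
    (hh : ∀ a, h a ∈ Subring.closure (Set.range p.appTop.hom ∪ Set.range ρ)) :
    ∃ J : Finset ι, IsImmersion (homOfVector p fun j : J => ρ j) := by
  classical
  choose r hrt hraff hfrac using exists_piece h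
  obtain ⟨s, hs⟩ := isCompact_univ.elim_finite_subcover (fun t => (T.basicOpen (h (r t)) : Set T))
    (fun t => (T.basicOpen (h (r t))).2) (fun t _ => Set.mem_iUnion.mpr ⟨t, hrt t⟩)
  have hfin : ∀ t, ∃ G : Finset Γ(T, T.basicOpen (h (r t))), ∀ b, b ∈ Subring.closure
      (Set.range (p.appLE ⊤ (T.basicOpen (h (r t))) le_top).hom ∪ ↑G) := fun t => by
    have hft := p.finiteType_appLE (isAffineOpen_top S) (hraff t) (V := T.basicOpen (h (r t))) le_top
    algebraize [(p.appLE ⊤ (T.basicOpen (h (r t))) le_top).hom]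
    obtain ⟨G, hG⟩ := (‹Algebra.FiniteType Γ(S, ⊤) Γ(T, T.basicOpen (h (r t)))›).out
    refine ⟨G, fun b => ?_⟩
    have hb : b ∈ (Algebra.adjoin Γ(S, ⊤) (↑G : Set Γ(T, T.basicOpen (h (r t))))).toSubring := by
      rw [hG]; trivial
    rw [Algebra.adjoin_eq_ring_closure] at hb
    exact hb
  choose G hG using hfin
  choose num ex hnum using fun t (g : Γ(T, T.basicOpen (h (r t)))) => hfrac t g
  choose Jf hJf using fun a => exists_finset_mem_closure (Set.range p.appTop.hom) ρ (hh a)
  let J : Finset ι := s.biUnion fun t => Jf (r t) ∪ (G t).biUnion fun g => Jf (num t g)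
  let R : Subring Γ(T, ⊤) := Subring.closure (Set.range p.appTop.hom ∪ ρ '' ↑J)
  have hmem : ∀ a, Jf a ⊆ J → h a ∈ R := fun a ha =>
    Subring.closure_mono (Set.union_subset_union_right _ (Set.image_mono (Finset.coe_subset.mpr ha))) (hJf a)
  have hrR : ∀ t ∈ s, h (r t) ∈ R := fun t ht =>
    hmem _ fun i hi => Finset.mem_biUnion.mpr ⟨t, ht, Finset.mem_union_left _ hi⟩
  have hnR : ∀ t ∈ s, ∀ g ∈ G t, h (num t g) ∈ R := fun t ht g hg =>
    hmem _ fun i hi => Finset.mem_biUnion.mpr ⟨t, ht, Finset.mem_union_right _ (Finset.mem_biUnion.mpr ⟨g, hg, hi⟩)⟩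
  refine ⟨J, isImmersion_homOfVector_of_toAff p _ R.subtype ?_ fun a => ?_⟩
  swap
  · refine Subring.closure_mono ?_ a.2
    rintro _ (hs | ⟨i, hi, rfl⟩)
    · exact Or.inl hs
    · exact Or.inr ⟨⟨i, hi⟩, rfl⟩
  let i := toAff R.subtype
  let F : s → Γ(Spec (CommRingCat.of R), ⊤) := fun t =>
    (Scheme.ΓSpecIso (CommRingCat.of R)).inv ⟨h (r t.1), hrR t.1 t.2⟩
  have hpre : ∀ t : s, i ⁻¹ᵁ (Spec (CommRingCat.of R)).basicOpen (F t) = T.basicOpen (h (r t.1)) := fun t => by
    rw [Scheme.preimage_basicOpen]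
    exact congrArg T.basicOpen (toAff_appTop R.subtype _)
  refine Ample.isImmersion_of_affine_pieces i (fun t : s => (Spec (CommRingCat.of R)).basicOpen (F t))
    (fun t => (isAffineOpen_top _).basicOpen _) (fun x => ?_) (fun t => hpre t ▸ hraff t.1) fun t => ?_
  · obtain ⟨t, ht, hx⟩ := Set.mem_iUnion₂.mp (hs (Set.mem_univ x))
    exact ⟨⟨t, ht⟩, (hpre ⟨t, ht⟩).ge hx⟩
  have key : ∀ (V : T.Opens) (e : V ≤ i ⁻¹ᵁ (Spec (CommRingCat.of R)).basicOpen (F t)),
      V = T.basicOpen (h (r t.1)) → Function.Surjective (i.appLE _ V e).hom := by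
    rintro _ e rfl
    let O := (Spec (CommRingCat.of R)).basicOpen (F t)
    let ρR : Γ(Spec (CommRingCat.of R), O) →+* Γ(T, T.basicOpen (h (r t.1))) :=
      (i.appLE O (T.basicOpen (h (r t.1))) e).hom
    suffices ∀ g, g ∈ ρR.range from this
    have hres : ∀ c : R, Ample.res (T.basicOpen_le (h (r t.1))) c.1 ∈ ρR.range := fun c => by
      refine ⟨Ample.res le_top ((Scheme.ΓSpecIso (CommRingCat.of R)).inv c), ?_⟩
      rw [show c.1 = i.appTop ((Scheme.ΓSpecIso (CommRingCat.of R)).inv c) from (toAff_appTop R.subtype c).symm]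
      show ((Spec (CommRingCat.of R)).presheaf.map (homOfLE le_top).op ≫
          i.appLE O (T.basicOpen (h (r t.1))) e).hom _ =
        (i.appTop ≫ T.presheaf.map (homOfLE (T.basicOpen_le (h (r t.1)))).op).hom _
      rw [Scheme.Hom.map_appLE]
      rfl
    have hinv : ∀ n : ℕ, ∃ u ∈ ρR.range, Ample.res (T.basicOpen_le (h (r t.1))) (h (r t.1)) ^ n * u = 1 := fun n => by
      have hu : IsUnit (Ample.res (le_top : O ≤ ⊤) (F t)) :=
        RingedSpace.isUnit_res_basicOpen (Spec (CommRingCat.of R)).toRingedSpace (F t)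
      obtain ⟨w, hw⟩ := (hu.pow n).exists_right_inv
      refine ⟨ρR w, ⟨w, rfl⟩, ?_⟩
      have h1 := congrArg ρR hw
      rw [map_mul, map_pow, map_one] at h1
      rw [← h1]
      congr 2
      refine (congrArg (Ample.res (T.basicOpen_le (h (r t.1)))) (toAff_appTop R.subtype ⟨h (r t.1), hrR t.1 t.2⟩).symm).trans ?_
      show (i.appTop ≫ T.presheaf.map (homOfLE (T.basicOpen_le _)).op).hom _ =
        ((Spec (CommRingCat.of R)).presheaf.map (homOfLE le_top).op ≫ i.appLE O (T.basicOpen (h (r t.1))) e).hom _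
      rw [Scheme.Hom.map_appLE]
      rfl
    intro g
    refine (Subring.closure_le.mpr ?_) (hG t.1 g)
    rintro g' (⟨s', rfl⟩ | hg)
    · exact hres ⟨p.appTop s', Subring.subset_closure (Or.inl ⟨s', rfl⟩)⟩
    · obtain ⟨u, hu, hu1⟩ := hinv (ex t.1 g')
      have h1 : g' = Ample.res (T.basicOpen_le (h (r t.1))) (h (num t.1 g')) * u := by
        rw [← hnum t.1 g', mul_assoc, hu1, mul_one]
      rw [h1]
      exact mul_mem (hres ⟨_, hnR t.1 t.2 g' (Finset.mem_coe.mp hg)⟩) hu
  exact key _ le_rfl (hpre t)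

end GrothLib.VA
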