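import Groth.Agent.Lib.VA.CritOps

/-!
# Very ampleness is stable under base change
-/

set_option autoImplicit false
set_option backward.isDefEq.respectTransparency false

universe u

open CategoryTheory CategoryTheory.Limits AlgebraicGeometry TopologicalSpace Opposite
open GrothLib.InvExt (mres fres IsGen)

noncomputable section

namespace GrothLib.VA

theorem appTop_resLE_topIso {A B : Scheme.{u}} (f : A ⟶ B) {U : B.Opens} {V : A.Opens} (e : V ≤ f ⁻¹ᵁ U)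
    (a : Γ(B, U)) : (f.resLE U V e).appTop (U.topIso.inv a) = V.topIso.inv (f.appLE U V e a) := by
  show ((f.resLE U V e).app ⊤).hom (U.topIso.inv a) = _
  rw [Scheme.Hom.resLE_app_top, CommRingCat.comp_apply, CommRingCat.comp_apply, Iso.inv_hom_id_apply]
  rfl

theorem genAt_unit_iff {X' X : Scheme.{u}} (h : X' ⟶ X) {L : X.Modules} (hL : PicF.IsInvertible L) {V : X.Opens}
    (t : Γ(L, V)) {x : X'} :
    GenAt ((Scheme.Modules.pullback h).obj L) (V := h ⁻¹ᵁ V)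
      (((Scheme.Modules.pullbackPushforwardAdjunction h).unit.app L).app V t) x ↔ GenAt L t (h x) := by
  let u := (Scheme.Modules.pullbackPushforwardAdjunction h).unit.app L
  by_cases hxV : h x ∈ V
  swap
  · exact iff_of_false (fun ⟨W, hW, hxW, _⟩ => hxV (hW hxW)) (fun ⟨W, hW, hxW, _⟩ => hxV (hW hxW))
  obtain ⟨T, ε, hxT, hε⟩ := InvExt.exists_gen_nhd hL (h x)
  have hε' := hε.restrict (inf_le_right : V ⊓ T ≤ T)
  obtain ⟨c, hc⟩ := hε'.exists_smul_eq le_rfl (mres L (inf_le_left : V ⊓ T ≤ V) t)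
  rw [InvExt.mres_self] at hc
  have hgen := isGen_unit h hL hε'
  have h1 : mres ((Scheme.Modules.pullback h).obj L) (h.preimage_mono (inf_le_left : V ⊓ T ≤ V)) (u.app V t) =
      h.app (V ⊓ T) c • (show Γ((Scheme.Modules.pullback h).obj L, h ⁻¹ᵁ (V ⊓ T)) from
        u.app (V ⊓ T) (mres L inf_le_right ε)) := by
    refine (Ample.app_mres u (inf_le_left : V ⊓ T ≤ V) t).symm.trans ?_
    exact (congrArg (u.app (V ⊓ T)) hc).trans (Ample.app_smul u c _)
  rw [genAt_iff_mem_basicOpen inf_le_left hε' hc (x := h x) ⟨hxV, hxT⟩,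
    genAt_iff_mem_basicOpen (h.preimage_mono inf_le_left) hgen h1 (x := x) ⟨hxV, hxT⟩,
    ← Scheme.preimage_basicOpen]
  exact Iff.rfl

/-- The pieces base change to pieces, through the pullback of the module. -/
theorem exists_pieces_baseChange {X Y X' Y' : Scheme.{u}} {f : X ⟶ Y} {g : Y' ⟶ Y} {g' : X' ⟶ X} {f' : X' ⟶ Y'}
    (hsq : IsPullback g' f' f g) {L : X.Modules} (hL : PicF.IsInvertible L) {F : Y.Modules}
    (φ : F ⟶ (Scheme.Modules.pushforward f).obj L) (hp : ∀ x, ∃ (U : Y.AffineZariskiSite) (e : Γ(F, U.1)), x ∈ Tp f φ U e ∧ PieceImm f φ U e) :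
    ∃ φ' : (Scheme.Modules.pullback g).obj F ⟶
        (Scheme.Modules.pushforward f').obj ((Scheme.Modules.pullback g').obj L),
      ∀ x, ∃ (U : Y'.AffineZariskiSite) (e : Γ((Scheme.Modules.pullback g).obj F, U.1)), x ∈ Tp f' φ' U e ∧ PieceImm f' φ' U e := by
  let L' := (Scheme.Modules.pullback g').obj L
  let u := (Scheme.Modules.pullbackPushforwardAdjunction g').unit.app L
  let φ0 : F ⟶ (Scheme.Modules.pushforward (f' ≫ g)).obj L' :=
    φ ≫ (Scheme.Modules.pushforward f).map u ≫ (Scheme.Modules.pushforwardComp g' f).hom.app L' ≫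
      (Scheme.Modules.pushforwardCongr hsq.w).hom.app L'
  obtain ⟨φ', hφ'⟩ := exists_factor f' g φ0
  have hφ0 : ∀ (U : Y.Opens) (b : Γ(F, U)) (hU : f' ⁻¹ᵁ (g ⁻¹ᵁ U) ≤ g' ⁻¹ᵁ (f ⁻¹ᵁ U)),
      (show Γ(L', f' ⁻¹ᵁ (g ⁻¹ᵁ U)) from φ0.app U b) =
        mres L' hU (show Γ(L', g' ⁻¹ᵁ (f ⁻¹ᵁ U)) from u.app (f ⁻¹ᵁ U) (φ.app U b)) := fun U b hU => rfl
  refine ⟨φ', fun x => ?_⟩
  obtain ⟨U, e, hx, hpi⟩ := hp (g' x)
  have hpre : ∀ W : Y.Opens, f' ⁻¹ᵁ (g ⁻¹ᵁ W) = g' ⁻¹ᵁ (f ⁻¹ᵁ W) := fun W =>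
    show (f' ≫ g) ⁻¹ᵁ W = (g' ≫ f) ⁻¹ᵁ W by rw [hsq.w]
  obtain ⟨V, hV, hxV, hVU⟩ := exists_isAffineOpen_mem_and_subset
    (show f' x ∈ g ⁻¹ᵁ U.1 from (hpre U.1).ge (Tp_le f φ U e hx))
  have hVU' : V ≤ g ⁻¹ᵁ U.1 := hVU
  let Vz : Y'.AffineZariskiSite := ⟨V, hV⟩
  let un : Γ(F, U.1) → Γ((Scheme.Modules.pullback g).obj F, V) := fun b =>
    mres _ hVU' (((Scheme.Modules.pullbackPushforwardAdjunction g).unit.app F).app U.1 b)
  have hle' : f' ⁻¹ᵁ V ≤ g' ⁻¹ᵁ (f ⁻¹ᵁ U.1) := (f'.preimage_mono hVU').trans (hpre U.1).le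
  have hun : ∀ b, φ'.app V (un b) =
      mres L' hle' (show Γ(L', g' ⁻¹ᵁ (f ⁻¹ᵁ U.1)) from u.app (f ⁻¹ᵁ U.1) (φ.app U.1 b)) := fun b => by
    refine (Ample.app_mres φ' hVU' _).trans ?_
    refine (congrArg (mres L' (f'.preimage_mono hVU')) ((hφ' U.1 b).trans (hφ0 U.1 b (hpre U.1).le))).trans ?_
    exact InvExt.mres_mres L' _ _ _
  let T := Tp f φ U e
  let T' := Tp f' φ' Vz (un e)
  have hT : T' = g' ⁻¹ᵁ T ⊓ f' ⁻¹ᵁ V := by
    ext y
    show y ∈ genOpen L' _ ↔ g' y ∈ genOpen L _ ∧ f' y ∈ V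
    rw [mem_genOpen, mem_genOpen]
    show GenAt L' (φ'.app V (un e)) y ↔ _
    rw [hun, genAt_mres]
    exact ⟨fun a => ⟨(genAt_unit_iff g' hL _).mp a.2, a.1⟩, fun a => ⟨a.2, (genAt_unit_iff g' hL _).mpr a.1⟩⟩
  have hTg : T' ≤ g' ⁻¹ᵁ T := hT.le.trans inf_le_left
  have hTf : T' ≤ f' ⁻¹ᵁ V := hT.le.trans inf_le_right
  refine ⟨Vz, un e, hT.ge ⟨hx, hxV⟩, ?_⟩
  have hgp : ∀ b, gp f' φ' Vz (un e) (un b) =
      mres L' hTg (show Γ(L', g' ⁻¹ᵁ T) from u.app T (gp f φ U e b)) := fun b => by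
    show mres L' (Tp_le f' φ' Vz (un e)) (φ'.app V (un b)) = _
    rw [hun, InvExt.mres_mres]
    refine Eq.trans ?_ (congrArg (mres L' hTg) (Ample.app_mres u (Tp_le f φ U e) (φ.app U.1 b))).symm
    exact (InvExt.mres_mres L' _ _ _).symm
  let ρ : Γ(X, T) →+* Γ(X', T') := (g'.appLE T T' hTg).hom
  have hρb : ∀ r, ρ (fres X (Tp_le f φ U e) (f.app U.1 r)) =
      fres X' (Tp_le f' φ' Vz (un e)) (f'.app V (g.appLE U.1 V hVU' r)) := fun r => by
    show (f.app U.1 ≫ X.presheaf.map _ ≫ g'.appLE T T' hTg).hom r =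
      (g.appLE U.1 V hVU' ≫ f'.app V ≫ X'.presheaf.map _).hom r
    rw [← Category.assoc, ← Scheme.Hom.appLE, ← Scheme.Hom.appLE, Scheme.Hom.appLE_comp_appLE,
      Scheme.Hom.appLE_comp_appLE]
    have : ∀ (k : X' ⟶ Y) (hk : k = g' ≫ f) (h1 : T' ≤ k ⁻¹ᵁ U.1) (h2),
        (g' ≫ f).appLE U.1 T' h2 = k.appLE U.1 T' h1 := by rintro k rfl h1 h2; rfl
    rw [this (f' ≫ g) hsq.w.symm]
  have hρr : ∀ b, rat f' φ' Vz (un e) (un b) = ρ (rat f φ U e b) := fun b => by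
    refine rat_eq ?_
    rw [hgp, hgp, rat_spec f φ U e b]
    refine (congrArg (mres L' hTg) (Ample.app_smul u (rat f φ U e b) _)).trans ?_
    exact InvExt.mres_smul L' hTg _ _
  have hρ : ∀ a : RS f φ U e, ρ a.1 ∈ RS f' φ' Vz (un e) := fun a =>
    map_mem_of_RS ρ _ (fun r => hρb r ▸ base_mem_RS f' φ' Vz (un e) _)
      (fun b => hρr b ▸ rat_mem_RS f' φ' Vz (un e) (un b)) a.2
  let c := toAff (T'.topIso.inv.hom.comp (RS f' φ' Vz (un e)).subtype)
  let hA : RS f φ U e →+* Γ(T, ⊤) := T.topIso.inv.hom.comp (RS f φ U e).subtype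
  let kA : RS f φ U e →+* RS f' φ' Vz (un e) := (ρ.comp (RS f φ U e).subtype).codRestrict _ hρ
  let bV : Γ(Y', V) →+* RS f' φ' Vz (un e) :=
    (((X'.presheaf.map (homOfLE (Tp_le f' φ' Vz (un e))).op).hom.comp (f'.app V).hom)).codRestrict _
      (fun r => base_mem_RS f' φ' Vz (un e) r)
  let bA : Γ(Y, U.1) →+* RS f φ U e :=
    (((X.presheaf.map (homOfLE (Tp_le f φ U e)).op).hom.comp (f.app U.1).hom)).codRestrict _
      (fun r => base_mem_RS f φ U e r)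
  let πA : Spec (CommRingCat.of (RS f φ U e)) ⟶ Y := Spec.map (CommRingCat.ofHom bA) ≫ U.2.fromSpec
  let πV : Spec Γ(Y', V) ⟶ Y := hV.fromSpec ≫ g
  let α := Spec.map (CommRingCat.ofHom kA)
  let β := Spec.map (CommRingCat.ofHom bV)
  have hαβ : α ≫ πA = β ≫ πV := by
    show Spec.map (CommRingCat.ofHom kA) ≫ Spec.map (CommRingCat.ofHom bA) ≫ U.2.fromSpec =
      Spec.map (CommRingCat.ofHom bV) ≫ hV.fromSpec ≫ g
    rw [← U.2.SpecMap_appLE_fromSpec g hV hVU', ← Spec.map_comp_assoc, ← Spec.map_comp_assoc]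
    congr 2
    exact CommRingCat.hom_ext (RingHom.ext fun r => Subtype.ext (hρb r))
  have hTU : T ≤ f ⁻¹ᵁ U.1 := Tp_le f φ U e
  have e1 : T.ι ≫ f = toAff hA ≫ πA := by
    rw [eq_toSpecΓ_fromSpec U.2 (T.ι ≫ f) (fun y _ => hTU y.2), toAff, Category.assoc, ← Spec.map_comp_assoc]
    congr 3
    refine CommRingCat.hom_ext (RingHom.ext fun r => ?_)
    rw [← Scheme.Hom.appLE_comp_appLE T.ι f U.1 T ⊤ hTU T.ι_preimage_self.ge, Scheme.Opens.ι_appLE]
    rfl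
  have e2 : V.ι ≫ g = hV.isoSpec.hom ≫ πV := by
    show _ = hV.isoSpec.hom ≫ hV.fromSpec ≫ g
    rw [IsAffineOpen.isoSpec_hom_fromSpec_assoc]
  haveI : IsImmersion (toAff hA) := hpi
  have hmap : IsImmersion (pullback.map (T.ι ≫ f) (V.ι ≫ g) πA πV (toAff hA) hV.isoSpec.hom (𝟙 _)
      ((Category.comp_id _).trans e1) ((Category.comp_id _).trans e2)) :=
    MorphismProperty.pullbackMap (P := @IsImmersion) inferInstance inferInstance e1 e2
  let j : (T' : Scheme.{u}) ⟶ pullback (T.ι ≫ f) (V.ι ≫ g) :=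
    pullback.lift (g'.resLE T T' hTg) (f'.resLE V T' hTf) (by
      rw [Scheme.Hom.resLE_comp_ι_assoc, Scheme.Hom.resLE_comp_ι_assoc, hsq.w])
  have hj : IsImmersion j := by
    haveI : IsImmersion (pullback.map (T.ι ≫ f) (V.ι ≫ g) f g T.ι V.ι (𝟙 _) (by simp) (by simp)) :=
      MorphismProperty.pullbackMap (P := @IsImmersion) inferInstance inferInstance rfl rfl
    haveI : IsImmersion (j ≫ pullback.map (T.ι ≫ f) (V.ι ≫ g) f g T.ι V.ι (𝟙 _) (by simp) (by simp)) := by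
      have : j ≫ pullback.map (T.ι ≫ f) (V.ι ≫ g) f g T.ι V.ι (𝟙 _) (by simp) (by simp) =
          T'.ι ≫ hsq.isoPullback.hom := by
        apply pullback.hom_ext
        · simp [j]
        · simp [j]
      rw [this]
      infer_instance
    exact IsImmersion.of_comp j (pullback.map (T.ι ≫ f) (V.ι ≫ g) f g T.ι V.ι (𝟙 _) (Category.comp_id _) (Category.comp_id _))
  haveI := hmap
  haveI := hj
  have key : c ≫ pullback.lift α β hαβ = j ≫ pullback.map (T.ι ≫ f) (V.ι ≫ g) πA πV (toAff hA) hV.isoSpec.hom (𝟙 _)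
      ((Category.comp_id _).trans e1) ((Category.comp_id _).trans e2) := by
    apply pullback.hom_ext
    · rw [Category.assoc, Category.assoc, pullback.lift_fst, pullback.lift_fst, pullback.lift_fst_assoc]
      show toAff _ ≫ Spec.map _ = _
      rw [toAff_comp, comp_toAff]
      refine congrArg toAff (RingHom.ext fun a => ?_)
      exact (appTop_resLE_topIso g' hTg a.1).symm
    · rw [Category.assoc, Category.assoc, pullback.lift_snd, pullback.lift_snd, pullback.lift_snd_assoc]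
      show toAff _ ≫ Spec.map _ = _
      have : hV.isoSpec.hom = toAff (V.topIso.inv.hom) := by
        rw [← cancel_mono hV.fromSpec, hV.isoSpec_hom_fromSpec, ← hV.toSpecΓ_fromSpec]
        rfl
      rw [toAff_comp, this]
      refine Eq.trans ?_ (comp_toAff (f'.resLE V T' hTf) V.topIso.inv.hom).symm
      refine congrArg toAff (RingHom.ext fun a => ?_)
      refine Eq.trans ?_ (appTop_resLE_topIso f' hTf a).symm
      rw [Scheme.Hom.appLE]
      rfl
  haveI : IsImmersion (c ≫ pullback.lift α β hαβ) := by rw [key]; infer_instance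
  exact IsImmersion.of_comp c (pullback.lift α β hαβ)

theorem isRelVeryAmple_baseChange {X Y X' Y' : Scheme.{u}} {f : X ⟶ Y} {g : Y' ⟶ Y} {g' : X' ⟶ X} {f' : X' ⟶ Y'}
    (hsq : IsPullback g' f' f g) {L : X.Modules} (hL : PicF.IsInvertible L) (hva : RelProj.IsRelVeryAmple f L) :
    RelProj.IsRelVeryAmple f' ((Scheme.Modules.pullback g').obj L) := by
  obtain ⟨F, φ, hF, hp⟩ := isRelVeryAmple_iff.mp hva
  obtain ⟨φ', hp'⟩ := exists_pieces_baseChange hsq hL φ hp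
  exact isRelVeryAmple_iff.mpr ⟨_, φ', isQCoh_pullback g hF, hp'⟩

end GrothLib.VA
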