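import Groth.Agent.Lib.VA.Disjoint
import Groth.Agent.Lib.VA.BaseChange
import Groth.Agent.Lib.VA.Tensor
import Groth.Agent.Lib.QCoh.Qcqs
import Groth.Agent.Lib.RelProjK.ProjProps

/-!
# Very ampleness is local on the base
-/

set_option autoImplicit false
set_option backward.isDefEq.respectTransparency false

universe u

open CategoryTheory CategoryTheory.Limits AlgebraicGeometry TopologicalSpace Opposite
open GrothLib.InvExt (mres fres IsGen)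

noncomputable section

namespace GrothLib.VA

variable {X Y : Scheme.{u}}

theorem isSeparated_of_isRelVeryAmple {g : X ⟶ Y} {L : X.Modules} (h : RelProj.IsRelVeryAmple g L) :
    IsSeparated g := by
  obtain ⟨E, hE, 𝒮, j, hj, P, p, chart, hP, O1, lam, hO1, i, hi, rfl, -⟩ := h
  haveI := hi
  haveI := RelProjK.isSeparated_of_isRelProj hP
  infer_instance

/-- An embedded piece of an open part over an open of the base, seen on the whole. -/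
theorem pieceImm_of_openPart {X₁ Y₁ : Scheme.{u}} {L : X.Modules} {g : X ⟶ Y} {E₁ : Y₁.Modules} {F : Y.Modules}
    {Ψ : F ⟶ (Scheme.Modules.pushforward g).obj L} (j : X₁ ⟶ X) [IsOpenImmersion j] (κ : Y₁ ⟶ Y) [IsOpenImmersion κ]
    {g₁ : X₁ ⟶ Y₁} (hw : g₁ ≫ κ = j ≫ g) {φ₁ : E₁ ⟶ (Scheme.Modules.pushforward g₁).obj (L.restrict j)}
    {U₁ : Y₁.AffineZariskiSite} {e₁ : Γ(E₁, U₁.1)} {U : Y.AffineZariskiSite} {e : Γ(F, U.1)} (hU : U.1 = κ ''ᵁ U₁.1)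
    (hT : Tp g Ψ U e ≤ j ''ᵁ Tp g₁ φ₁ U₁ e₁)
    (he : gp g Ψ U e e = mres L hT (show Γ(L, j ''ᵁ Tp g₁ φ₁ U₁ e₁) from gp g₁ φ₁ U₁ e₁ e₁))
    (hsec : ∀ b₁, ∃ b, gp g Ψ U e b = mres L hT (show Γ(L, j ''ᵁ Tp g₁ φ₁ U₁ e₁) from gp g₁ φ₁ U₁ e₁ b₁))
    (hp : PieceImm g₁ φ₁ U₁ e₁) : PieceImm g Ψ U e := by
  let T₁ := Tp g₁ φ₁ U₁ e₁
  refine pieceImm_of_le (W := j ''ᵁ T₁) hT ((j.appIso T₁).inv.hom.comp (RS g₁ φ₁ U₁ e₁).subtype) ?_ fun a => ?_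
  · haveI : IsImmersion (toAff (T₁.topIso.inv.hom.comp (RS g₁ φ₁ U₁ e₁).subtype)) := hp
    have h1 : toAff ((j ''ᵁ T₁).topIso.inv.hom.comp ((j.appIso T₁).inv.hom.comp (RS g₁ φ₁ U₁ e₁).subtype)) =
        (j.isoImage T₁).inv ≫ toAff (T₁.topIso.inv.hom.comp (RS g₁ φ₁ U₁ e₁).subtype) := by
      rw [Iso.eq_inv_comp, comp_toAff]
      refine congrArg toAff (RingHom.ext fun a => ?_)
      have hres : (j.isoImage T₁).hom = j.resLE (j ''ᵁ T₁) T₁ (j.preimage_image_eq T₁).ge := by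
        rw [← cancel_mono (j ''ᵁ T₁).ι, Scheme.Hom.isoImage_hom_ι, Scheme.Hom.resLE_comp_ι]
      show ((j.isoImage T₁).hom.app ⊤).hom ((j ''ᵁ T₁).topIso.inv ((j.appIso T₁).inv a.1)) = T₁.topIso.inv a.1
      rw [hres, Scheme.Hom.resLE_app_top, CommRingCat.comp_apply, CommRingCat.comp_apply, Iso.inv_hom_id_apply,
        ← Scheme.Hom.appIso_hom', Iso.inv_hom_id_apply]
      rfl
    rw [h1]
    infer_instance
  · refine map_mem_of_RS ((X.presheaf.map (homOfLE hT).op).hom.comp (j.appIso T₁).inv.hom) (RS g Ψ U e)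
      (fun r₁ => ?_) (fun b => ?_) a.2
    · let r : Γ(Y, U.1) := fres Y hU.le ((κ.appIso U₁.1).inv r₁)
      have hU1 : U₁.1 ≤ κ ⁻¹ᵁ U.1 := by rw [hU, κ.preimage_image_eq]
      have hr : (κ.appLE U.1 U₁.1 hU1).hom r = r₁ := by
        show ((κ.appIso U₁.1).inv ≫ Y.presheaf.map _ ≫ κ.appLE U.1 U₁.1 hU1).hom r₁ = r₁
        rw [Scheme.Hom.map_appLE, ← Scheme.Hom.appIso_hom', Iso.inv_hom_id]
        rfl
      have h1 := base_mem_RS g Ψ U e r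
      have hle : T₁ ≤ (j ≫ g) ⁻¹ᵁ U.1 := fun y hy => by
        show (j ≫ g) y ∈ U.1
        rw [← hw]
        exact hU1 (Tp_le g₁ φ₁ U₁ e₁ hy)
      show fres X hT ((j.appIso T₁).inv (fres X₁ (Tp_le g₁ φ₁ U₁ e₁) (g₁.app U₁.1 r₁))) ∈ _
      have h2 : fres X₁ (Tp_le g₁ φ₁ U₁ e₁) (g₁.app U₁.1 r₁) = fres X₁ hle ((j ≫ g).app U.1 r) := by
        rw [← hr]
        show (κ.appLE U.1 U₁.1 hU1 ≫ g₁.app U₁.1 ≫ X₁.presheaf.map _).hom r =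
          ((j ≫ g).app U.1 ≫ X₁.presheaf.map _).hom r
        rw [← Scheme.Hom.appLE, ← Scheme.Hom.appLE, Scheme.Hom.appLE_comp_appLE]
        have : ∀ (k : X₁ ⟶ Y) (hk : k = g₁ ≫ κ) (h₁ : T₁ ≤ k ⁻¹ᵁ U.1) (h₂),
            (g₁ ≫ κ).appLE U.1 T₁ h₂ = k.appLE U.1 T₁ h₁ := by rintro k rfl h₁ h₂; rfl
        rw [this (j ≫ g) hw.symm hle]
      rw [h2, appIso_inv_app_comp (j := j) (g := g) U.1 hle
        ((Scheme.Hom.image_mono j hle).trans (image_preimage_comp j g U.1)) r, InvExt.fres_fres]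
      exact h1
    · show fres X hT ((j.appIso T₁).inv (rat g₁ φ₁ U₁ e₁ b)) ∈ _
      obtain ⟨b', hb⟩ := hsec b
      have hr : rat g Ψ U e b' = fres X hT ((j.appIso T₁).inv (rat g₁ φ₁ U₁ e₁ b)) := by
        refine rat_eq ?_
        rw [hb, he, rat_spec g₁ φ₁ U₁ e₁ b]
        exact InvExt.mres_smul L hT _ _
      rw [← hr]
      exact rat_mem_RS g Ψ U e b'

theorem isRelVeryAmple_iff_local (q : X ⟶ Y) [QuasiCompact q] (L : X.Modules) (hL : PicF.IsInvertible L)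
    [L.IsQuasicoherent] {ι : Type u} (U : ι → Y.Opens) (hU : ⨆ i, U i = ⊤) :
    RelProj.IsRelVeryAmple q L ↔
      ∀ i, RelProj.IsRelVeryAmple (q ∣_ (U i)) (L.restrict (q ⁻¹ᵁ (U i)).ι) := by
  constructor
  · intro h i
    exact isRelVeryAmple_of_iso ((Scheme.Modules.restrictFunctorIsoPullback _).app L).symm
      (isRelVeryAmple_baseChange (isPullback_morphismRestrict q (U i)).flip hL h)
  · intro h
    haveI : IsSeparated q := (IsZariskiLocalAtTarget.iff_of_iSup_eq_top (P := @IsSeparated) U hU).mpr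
      fun i => isSeparated_of_isRelVeryAmple (h i)
    refine isRelVeryAmple_iff.mpr ⟨_, 𝟙 _, QCoh.isQuasicoherent_pushforward q L, fun x => ?_⟩
    obtain ⟨i, hi⟩ := Opens.mem_iSup.mp (hU.ge (Opens.mem_top (q x)))
    obtain ⟨E₁, φ₁, -, hp⟩ := isRelVeryAmple_iff.mp (h i)
    obtain ⟨U₁, e₁, hx₁, hp₁⟩ := hp ⟨x, hi⟩
    let j := (q ⁻¹ᵁ (U i)).ι
    let κ := (U i).ι
    have hw : (q ∣_ (U i)) ≫ κ = j ≫ q := morphismRestrict_ι q (U i)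
    let Uz : Y.AffineZariskiSite := ⟨κ ''ᵁ U₁.1, U₁.2.image_of_isOpenImmersion κ⟩
    have hle : j ''ᵁ ((q ∣_ (U i)) ⁻¹ᵁ U₁.1) = q ⁻¹ᵁ (κ ''ᵁ U₁.1) := image_morphismRestrict_preimage q (U i) U₁.1
    let sec : Γ(E₁, U₁.1) → Γ((Scheme.Modules.pushforward q).obj L, Uz.1) := fun b =>
      mres L hle.ge (show Γ(L, j ''ᵁ ((q ∣_ (U i)) ⁻¹ᵁ U₁.1)) from φ₁.app U₁.1 b)
    have hT : Tp q (𝟙 ((Scheme.Modules.pushforward q).obj L)) Uz (sec e₁) = j ''ᵁ Tp (q ∣_ (U i)) φ₁ U₁ e₁ := by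
      ext z
      show z ∈ genOpen L (mres L hle.ge (show Γ(L, j ''ᵁ ((q ∣_ (U i)) ⁻¹ᵁ U₁.1)) from φ₁.app U₁.1 e₁)) ↔ _
      rw [mem_genOpen, genAt_mres, ← hle]
      constructor
      · rintro ⟨⟨y, hy, rfl⟩, hz⟩
        exact ⟨y, mem_genOpen.mpr ((genAt_restrict (L := L) j (V := (q ∣_ (U i)) ⁻¹ᵁ U₁.1) (φ₁.app U₁.1 e₁) y).mpr hz), rfl⟩
      · rintro ⟨y, hy, rfl⟩
        exact ⟨⟨y, Tp_le (q ∣_ (U i)) φ₁ U₁ e₁ hy, rfl⟩,
          (genAt_restrict (L := L) j (V := (q ∣_ (U i)) ⁻¹ᵁ U₁.1) (φ₁.app U₁.1 e₁) y).mp (mem_genOpen.mp hy)⟩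
    have hgp : ∀ b, gp q (𝟙 ((Scheme.Modules.pushforward q).obj L)) Uz (sec e₁) (sec b) =
        mres L hT.le (show Γ(L, j ''ᵁ Tp (q ∣_ (U i)) φ₁ U₁ e₁) from gp (q ∣_ (U i)) φ₁ U₁ e₁ b) := fun b => by
      show mres L _ (mres L hle.ge _) = mres L hT.le (mres L (Scheme.Hom.image_mono j (Tp_le (q ∣_ (U i)) φ₁ U₁ e₁))
        (show Γ(L, j ''ᵁ ((q ∣_ (U i)) ⁻¹ᵁ U₁.1)) from φ₁.app U₁.1 b))
      rw [InvExt.mres_mres, InvExt.mres_mres]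
    exact ⟨Uz, sec e₁, hT.ge ⟨⟨x, hi⟩, hx₁, rfl⟩,
      pieceImm_of_openPart j κ hw rfl hT.le (hgp e₁) (fun b => ⟨sec b, hgp b⟩) hp₁⟩

end GrothLib.VA
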