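import Groth.Agent.Lib.VA.UP

/-!
# Very ampleness through the universal property of projective bundles
-/

set_option autoImplicit false
set_option backward.isDefEq.respectTransparency false

universe u

open CategoryTheory CategoryTheory.Limits AlgebraicGeometry TopologicalSpace Opposite
open GrothLib.InvExt (mres fres IsGen)

noncomputable section

namespace GrothLib.VA

variable {X Y : Scheme.{u}}

theorem hom_ext_affine {M N : Y.Modules} {f f' : M ⟶ N}
    (h : ∀ (U : Y.AffineZariskiSite) (e : Γ(M, U.1)), f.app U.1 e = f'.app U.1 e) : f = f' := by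
  refine Scheme.Modules.hom_ext _ _ fun V => ConcreteCategory.hom_ext _ _ fun m => ?_
  refine Ample.meq_of_cover N (fun U : { U : Y.AffineZariskiSite // U.1 ≤ V } => U.1.1) (fun U => U.2) ?_ fun U => ?_
  · intro y hy
    obtain ⟨W, hW, hyW, hWV⟩ := exists_isAffineOpen_mem_and_subset hy
    exact Opens.mem_iSup.mpr ⟨⟨⟨W, hW⟩, hWV⟩, hyW⟩
  · rw [← Ample.app_mres, ← Ample.app_mres, h]

theorem homEquiv_pullbackComp {Z : Scheme.{u}} (r : X ⟶ Z) (p : Z ⟶ Y) {E : Y.Modules} {L : X.Modules}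
    (k : (Scheme.Modules.pullback r).obj ((Scheme.Modules.pullback p).obj E) ⟶ L) :
    (Scheme.Modules.pullbackPushforwardAdjunction (r ≫ p)).homEquiv E L
        ((Scheme.Modules.pullbackComp r p).inv.app E ≫ k) =
      (Scheme.Modules.pullbackPushforwardAdjunction p).homEquiv E _
          ((Scheme.Modules.pullbackPushforwardAdjunction r).homEquiv _ L k) ≫
        (Scheme.Modules.pushforwardComp r p).hom.app L := by
  have h := unit_conjugateEquiv
    ((Scheme.Modules.pullbackPushforwardAdjunction p).comp (Scheme.Modules.pullbackPushforwardAdjunction r))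
    (Scheme.Modules.pullbackPushforwardAdjunction (r ≫ p)) (Scheme.Modules.pullbackComp r p).inv E
  rw [Scheme.Modules.conjugateEquiv_pullbackComp_inv] at h
  rw [Adjunction.homEquiv_unit, Adjunction.homEquiv_unit, Adjunction.homEquiv_unit, Functor.map_comp,
    ← Category.assoc, ← h]
  simp only [Adjunction.comp_unit_app, Functor.map_comp, Category.assoc]
  congr 2

namespace Bdl

variable (B : Bdl Y) (g : X ⟶ Y) {L : X.Modules}

/-- The map of sections induced by a lift. -/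
def induced {r : X ⟶ B.P} (hr : r ≫ B.p = g) (θ : B.O ⟶ (Scheme.Modules.pushforward r).obj L) :
    B.E ⟶ (Scheme.Modules.pushforward g).obj L :=
  B.can ≫ (Scheme.Modules.pushforward B.p).map θ ≫ (Scheme.Modules.pushforwardComp r B.p).hom.app L ≫
    (Scheme.Modules.pushforwardCongr hr).hom.app L

variable {B g}

theorem induced_app {r : X ⟶ B.P} (hr : r ≫ B.p = g) (θ : B.O ⟶ (Scheme.Modules.pushforward r).obj L)
    (U : Y.AffineZariskiSite) (e : Γ(B.E, U.1)) (h : g ⁻¹ᵁ U.1 ≤ r ⁻¹ᵁ (B.p ⁻¹ᵁ U.1)) :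
    mres L h (B.up θ (show Γ(B.O, B.p ⁻¹ᵁ U.1) from B.can.app U.1 e)) = (B.induced g hr θ).app U.1 e := by
  subst hr
  rfl

theorem eq_induced_iff {r : X ⟶ B.P} (hr : r ≫ B.p = g) (θ : B.O ⟶ (Scheme.Modules.pushforward r).obj L)
    (φ : B.E ⟶ (Scheme.Modules.pushforward g).obj L) :
    B.induced g hr θ = φ ↔ ∀ (U : Y.AffineZariskiSite) (e : Γ(B.E, U.1)) (h : g ⁻¹ᵁ U.1 ≤ r ⁻¹ᵁ (B.p ⁻¹ᵁ U.1)),
      mres L h (B.up θ (show Γ(B.O, B.p ⁻¹ᵁ U.1) from B.can.app U.1 e)) = φ.app U.1 e :=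
  ⟨fun h U e hU => h ▸ induced_app hr θ U e hU,
    fun h => hom_ext_affine fun U e => (induced_app hr θ U e (comp_le hr _)).symm.trans (h U e _)⟩

theorem isLift_induced {r : X ⟶ B.P} (hr : r ≫ B.p = g) (θ : B.O ⟶ (Scheme.Modules.pushforward r).obj L)
    (hgen : ∀ {D : B.P.Opens} (t : Γ(B.O, D)), IsGen B.O D t → IsGen L (r ⁻¹ᵁ D) (B.up θ t)) :
    B.IsLift g (B.induced g hr θ) r θ :=
  ⟨hr, fun U e h => induced_app hr θ U e h, hgen⟩

theorem IsLift.eq_induced {φ : B.E ⟶ (Scheme.Modules.pushforward g).obj L} {r : X ⟶ B.P}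
    {θ : B.O ⟶ (Scheme.Modules.pushforward r).obj L} (h : B.IsLift g φ r θ) : B.induced g h.comp θ = φ :=
  (eq_induced_iff h.comp θ φ).mpr h.compat

theorem IsLift.isGenBy {φ : B.E ⟶ (Scheme.Modules.pushforward g).obj L} {r : X ⟶ B.P}
    {θ : B.O ⟶ (Scheme.Modules.pushforward r).obj L} (h : B.IsLift g φ r θ) : IsGenBy g φ := by
  intro x
  obtain ⟨U, hU, hx, -⟩ := exists_isAffineOpen_mem_and_subset (Opens.mem_top (g x))
  obtain ⟨e, he⟩ := exists_pc (chart := B.chart) B.isQCoh B.isSym ⟨U, hU⟩ (z := r x) (comp_le h.comp U hx)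
  exact ⟨U, hU, e, mem_genOpen.mp ((h.preimage_piece ⟨U, hU⟩ e).le he)⟩

theorem isGen_homEquiv {r : X ⟶ B.P} (τ : (Scheme.Modules.pullback r).obj B.O ⟶ L) [IsIso τ]
    {D : B.P.Opens} (t : Γ(B.O, D)) (ht : IsGen B.O D t) :
    IsGen L (r ⁻¹ᵁ D) (B.up ((Scheme.Modules.pullbackPushforwardAdjunction r).homEquiv B.O L τ) t) :=
  isGen_homEquiv_iso r B.isInvertible τ ht

theorem IsLift.isIso_symm {φ : B.E ⟶ (Scheme.Modules.pushforward g).obj L} {r : X ⟶ B.P}
    {θ : B.O ⟶ (Scheme.Modules.pushforward r).obj L} (h : B.IsLift g φ r θ) :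
    IsIso (((Scheme.Modules.pullbackPushforwardAdjunction r).homEquiv B.O L).symm θ) :=
  isIso_symm_of_gens r (fun i : Σ U : Y.AffineZariskiSite, Γ(B.E, U.1) => B.piece i.1 i.2)
    (iSup_pc B.isQCoh B.isSym) (fun i => B.img i.1 i.2 i.2) (fun i => B.isGen_img i.1 i.2) θ
    fun i => h.gen _ (B.isGen_img i.1 i.2)

theorem IsLift.isRelVeryAmple {φ : B.E ⟶ (Scheme.Modules.pushforward g).obj L} {r : X ⟶ B.P}
    {θ : B.O ⟶ (Scheme.Modules.pushforward r).obj L} (h : B.IsLift g φ r θ) (hi : IsImmersion r) :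
    RelProj.IsRelVeryAmple g L := by
  haveI := h.isIso_symm
  exact ⟨B.E, B.isQCoh, B.S, B.j, B.isSym, B.P, B.p, B.chart, B.isProj, B.O, B.lam, B.isTwist, r, hi, h.comp,
    ⟨(asIso (((Scheme.Modules.pullbackPushforwardAdjunction r).homEquiv B.O L).symm θ)).symm⟩⟩

end Bdl

/-- A very ample module is the pullback of `O(1)` along an immersion lifting a map of sections. -/
theorem exists_lift_of_isRelVeryAmple {g : X ⟶ Y} {L : X.Modules} (h : RelProj.IsRelVeryAmple g L) :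
    ∃ (B : Bdl Y) (φ : B.E ⟶ (Scheme.Modules.pushforward g).obj L) (r : X ⟶ B.P)
      (θ : B.O ⟶ (Scheme.Modules.pushforward r).obj L), B.IsLift g φ r θ ∧ IsImmersion r := by
  obtain ⟨E, hE, 𝒮, j, hj, P, p, chart, hP, O1, lam, hO1, i, hi, hip, ⟨e⟩⟩ := h
  obtain ⟨c, hc⟩ := exists_canon hj hP hO1
  let B : Bdl Y := ⟨E, hE, 𝒮, j, hj, P, p, chart, hP, O1, lam, hO1, c, hc⟩
  exact ⟨B, _, i, _, Bdl.isLift_induced (B := B) hip _ fun t ht => Bdl.isGen_homEquiv (B := B) e.inv t ht, hi⟩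

theorem isGenBy_of_isRelVeryAmple {g : X ⟶ Y} {L : X.Modules} (h : RelProj.IsRelVeryAmple g L) :
    ∃ (E : Y.Modules) (φ : E ⟶ (Scheme.Modules.pushforward g).obj L), Coh.IsQCoh E ∧ IsGenBy g φ := by
  obtain ⟨B, φ, r, θ, hl, -⟩ := exists_lift_of_isRelVeryAmple h
  exact ⟨B.E, φ, B.isQCoh, hl.isGenBy⟩

end GrothLib.VA
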