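import Groth.Agent.Lib.VA.Gen
import Groth.Agent.Lib.InvExt.Transfer

/-!
# The unit of pullback-pushforward sends generators to generators
-/

set_option autoImplicit false
set_option backward.isDefEq.respectTransparency false

universe u

open CategoryTheory CategoryTheory.Limits AlgebraicGeometry TopologicalSpace Opposite
open GrothLib.InvExt (mres fres IsGen)

noncomputable section

namespace GrothLib.VA

variable {X Y : Scheme.{u}} (f : X ⟶ Y)

theorem isGen_map_iso {M N : Y.Modules} (φ : M ⟶ N) [IsIso φ] {V : Y.Opens} {e : Γ(M, V)} (he : IsGen M V e) :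
    IsGen N V (φ.app V e) :=
  InvExt.IsGen.map φ he fun W _ => by
    have : IsIso (φ.app W) := ⟨(inv φ).app W, by
      rw [← Scheme.Modules.Hom.comp_app, IsIso.hom_inv_id, Scheme.Modules.Hom.id_app], by
      rw [← Scheme.Modules.Hom.comp_app, IsIso.inv_hom_id, Scheme.Modules.Hom.id_app]⟩
    exact ConcreteCategory.bijective_of_isIso (φ.app W)

theorem isGen_unit {M : Y.Modules} (hM : PicF.IsInvertible M) {D : Y.Opens} {t : Γ(M, D)} (ht : IsGen M D t) :
    IsGen ((Scheme.Modules.pullback f).obj M) (f ⁻¹ᵁ D)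
      (((Scheme.Modules.pullbackPushforwardAdjunction f).unit.app M).app D t) := by
  let ι := { a : Σ V : Y.Opens, Γ(M, V) // IsGen M a.1 a.2 }
  have hD : ⨆ a : ι, a.1.1 = ⊤ := eq_top_iff.mpr fun y _ => by
    obtain ⟨V, e, hy, he⟩ := InvExt.exists_gen_nhd hM y
    exact Opens.mem_iSup.mpr ⟨⟨⟨V, e⟩, he⟩, hy⟩
  choose g hg using fun i k : ι => i.2.exists_smul_eq (inf_le_left : i.1.1 ⊓ k.1.1 ≤ i.1.1)
    (mres M inf_le_right k.1.2)
  have hres : ∀ (i k : ι) (W : Y.Opens) (hi : W ≤ i.1.1) (hk : W ≤ k.1.1),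
      mres M hk k.1.2 = Ample.res (le_inf hi hk) (g i k) • mres M hi i.1.2 := by
    intro i k W hi hk
    have := congrArg (mres M (le_inf hi hk)) (hg i k)
    rwa [InvExt.mres_mres, Ample.mres_smul', InvExt.mres_mres] at this
  let c : Ample.Cocycle Y :=
    { ι := ι
      D := fun a => a.1.1
      g := g
      cover := hD
      self := fun i W h => i.2.smul_left_injective h (by rw [← hres i i W h h, one_smul])
      change := fun i j k W hi hj hk => i.2.smul_left_injective hi (by
        rw [← hres i k W hi hk, hres j k W hj hk, hres i j W hi hj, smul_smul, mul_comm]) }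
  have hm : c.IsFamily 1 (M := M) (fun a => a.1.2) := fun i j W hi hj => by
    rw [pow_one]; exact hres i j W hi hj
  haveI := c.isIso_homOfFamily hm fun a => a.2
  let i₀ : ι := ⟨⟨D, t⟩, ht⟩
  haveI := c.isIso_pullHom f 1
  have h1 : (c.homOfFamily hm).app D (c.base 1 (V := D) i₀ le_rfl) = t :=
    (c.homOfFamily_base hm i₀ le_rfl).trans (InvExt.mres_self M _)
  have h2 := isGen_map_iso (c.pullHom f 1) ((c.comap f).isGen_base 1 (V := f ⁻¹ᵁ D) i₀ le_rfl)
  rw [show (c.pullHom f 1).app (f ⁻¹ᵁ D) ((c.comap f).base 1 (V := f ⁻¹ᵁ D) i₀ le_rfl) = c.pullBase f 1 i₀ from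
    c.pullHom_base f 1 i₀] at h2
  have h3 := isGen_map_iso ((Scheme.Modules.pullback f).map (c.homOfFamily hm)) h2
  have hn := congrArg (fun k : c.twist 1 ⟶ (Scheme.Modules.pushforward f).obj ((Scheme.Modules.pullback f).obj M) =>
      k.app D (c.base 1 (V := D) i₀ le_rfl))
    ((Scheme.Modules.pullbackPushforwardAdjunction f).unit.naturality (c.homOfFamily hm))
  have : ((Scheme.Modules.pullback f).map (c.homOfFamily hm)).app (f ⁻¹ᵁ D) (c.pullBase f 1 i₀) =
      ((Scheme.Modules.pullbackPushforwardAdjunction f).unit.app M).app D t := by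
    rw [← h1]; exact hn.symm
  rwa [this] at h3

/-- The image of a generator under the adjoint of an isomorphism generates. -/
theorem isGen_homEquiv_iso {M : Y.Modules} (hM : PicF.IsInvertible M) {L : X.Modules}
    (τ : (Scheme.Modules.pullback f).obj M ⟶ L) [IsIso τ] {D : Y.Opens} {t : Γ(M, D)} (ht : IsGen M D t) :
    IsGen L (f ⁻¹ᵁ D) (((Scheme.Modules.pullbackPushforwardAdjunction f).homEquiv M L τ).app D t) := by
  rw [Adjunction.homEquiv_unit]
  exact isGen_map_iso τ (isGen_unit f hM ht)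

end GrothLib.VA
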