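import Groth.Agent.Lib.VA.Exists

/-!
# Very ampleness through the rings of ratios on pieces
-/

set_option autoImplicit false
set_option backward.isDefEq.respectTransparency false

universe u

open CategoryTheory CategoryTheory.Limits AlgebraicGeometry TopologicalSpace Opposite HomogeneousLocalization
open GrothLib.InvExt (mres fres IsGen)
open GrothLib.RelProjK (dg em)

noncomputable section

namespace GrothLib.VA

section toAff

variable {T T' : Scheme.{u}}

/-- The morphism to an affine scheme given by a ring map into the global functions. -/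
def toAff {A : Type u} [CommRing A] (h : A →+* Γ(T, ⊤)) : T ⟶ Spec (CommRingCat.of A) :=
  T.toSpecΓ ≫ Spec.map (CommRingCat.ofHom h)

theorem comp_toAff (m : T' ⟶ T) {A : Type u} [CommRing A] (h : A →+* Γ(T, ⊤)) :
    m ≫ toAff h = toAff (m.appTop.hom.comp h) := by
  rw [toAff, toAff, CommRingCat.ofHom_comp, Spec.map_comp, CommRingCat.ofHom_hom, Scheme.toSpecΓ_naturality_assoc]

theorem toAff_comp {A B : Type u} [CommRing A] [CommRing B] (k : A →+* B) (h : B →+* Γ(T, ⊤)) :
    toAff h ≫ Spec.map (CommRingCat.ofHom k) = toAff (h.comp k) := by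
  rw [toAff, toAff, Category.assoc, CommRingCat.ofHom_comp, Spec.map_comp]

theorem isImmersion_toAff_of_range_le {A A' : Type u} [CommRing A] [CommRing A'] (h : A →+* Γ(T, ⊤))
    (h' : A' →+* Γ(T, ⊤)) (hle : h.range ≤ h'.range) (hi : IsImmersion (toAff h)) : IsImmersion (toAff h') := by
  haveI := hi
  haveI h1 : IsImmersion (toAff h.range.subtype) := by
    haveI : IsImmersion (toAff h.range.subtype ≫ Spec.map (CommRingCat.ofHom h.rangeRestrict)) := by
      rw [toAff_comp]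
      exact hi
    exact IsImmersion.of_comp _ (Spec.map (CommRingCat.ofHom h.rangeRestrict))
  haveI h2 : IsImmersion (toAff h'.range.subtype) := by
    haveI : IsImmersion (toAff h'.range.subtype ≫ Spec.map (CommRingCat.ofHom (Subring.inclusion hle))) := by
      rw [toAff_comp]
      exact h1
    exact IsImmersion.of_comp _ (Spec.map (CommRingCat.ofHom (Subring.inclusion hle)))
  haveI : IsClosedImmersion (Spec.map (CommRingCat.ofHom h'.rangeRestrict)) :=
    IsClosedImmersion.spec_of_surjective _ h'.rangeRestrict_surjective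
  have : h' = h'.range.subtype.comp h'.rangeRestrict := rfl
  rw [this, ← toAff_comp]
  infer_instance

end toAff

variable {X Y : Scheme.{u}} {E : Y.Modules} {L : X.Modules} (g : X ⟶ Y)
  (φ : E ⟶ (Scheme.Modules.pushforward g).obj L)

theorem exists_rat (U : Y.AffineZariskiSite) (e e' : Γ(E, U.1)) :
    ∃ c : Γ(X, Tp g φ U e), gp g φ U e e' = c • gp g φ U e e := by
  obtain ⟨c, hc⟩ := (isGen_gp g φ U e).exists_smul_eq le_rfl (gp g φ U e e')
  exact ⟨c, by rwa [InvExt.mres_self] at hc⟩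

/-- The ratio of two images on a piece. -/
def rat (U : Y.AffineZariskiSite) (e e' : Γ(E, U.1)) : Γ(X, Tp g φ U e) := (exists_rat g φ U e e').choose

theorem rat_spec (U : Y.AffineZariskiSite) (e e' : Γ(E, U.1)) : gp g φ U e e' = rat g φ U e e' • gp g φ U e e :=
  (exists_rat g φ U e e').choose_spec

variable {g φ} in
theorem rat_eq {U : Y.AffineZariskiSite} {e e' : Γ(E, U.1)} {c : Γ(X, Tp g φ U e)}
    (h : gp g φ U e e' = c • gp g φ U e e) : rat g φ U e e' = c :=
  (isGen_gp g φ U e).smul_left_injective le_rfl (by rw [InvExt.mres_self, ← rat_spec, h])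

/-- The ring generated by the base and the ratios on a piece. -/
def RS (U : Y.AffineZariskiSite) (e : Γ(E, U.1)) : Subring Γ(X, Tp g φ U e) :=
  Subring.closure (Set.range (fun r => fres X (Tp_le g φ U e) (g.app U.1 r)) ∪ Set.range (rat g φ U e))

theorem base_mem_RS (U : Y.AffineZariskiSite) (e : Γ(E, U.1)) (r : Γ(Y, U.1)) :
    fres X (Tp_le g φ U e) (g.app U.1 r) ∈ RS g φ U e := Subring.subset_closure (Or.inl ⟨r, rfl⟩)

theorem rat_mem_RS (U : Y.AffineZariskiSite) (e e' : Γ(E, U.1)) : rat g φ U e e' ∈ RS g φ U e :=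
  Subring.subset_closure (Or.inr ⟨e', rfl⟩)

/-- The ring of ratios embeds the piece. -/
def PieceImm (U : Y.AffineZariskiSite) (e : Γ(E, U.1)) : Prop :=
  IsImmersion (toAff ((Tp g φ U e).topIso.inv.hom.comp (RS g φ U e).subtype))

variable {g φ}

/-- A piece is embedded as soon as some of its ratios embed a larger open. -/
theorem pieceImm_of_le {U : Y.AffineZariskiSite} {e : Γ(E, U.1)} {W : X.Opens} (hle : Tp g φ U e ≤ W) {A : Type u}
    [CommRing A] (h : A →+* Γ(X, W)) (hi : IsImmersion (toAff (W.topIso.inv.hom.comp h)))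
    (hr : ∀ a, fres X hle (h a) ∈ RS g φ U e) : PieceImm g φ U e := by
  haveI := hi
  have h1 : IsImmersion (toAff (((X.homOfLE hle).appTop.hom).comp (W.topIso.inv.hom.comp h))) := by
    rw [← comp_toAff]; infer_instance
  refine isImmersion_toAff_of_range_le _ _ ?_ h1
  rintro _ ⟨a, rfl⟩
  exact ⟨⟨_, hr a⟩, (oRes_topIso hle (h a)).symm⟩

namespace Bdl

variable {B : Bdl Y} {g' : X ⟶ Y} {ψ : B.E ⟶ (Scheme.Modules.pushforward g').obj L}

theorem psi_ev (U : Y.AffineZariskiSite) (e e' : Γ(B.E, U.1)) :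
    psi B.isQCoh B.isSym g' ψ U e (ev B.j U e') = rat g' ψ U e e' :=
  (rat_eq ((psi_spec B.isQCoh B.isSym g' ψ U e).2 e')).symm

theorem psi_mem_RS (U : Y.AffineZariskiSite) (e : Γ(B.E, U.1)) (a : B.S.presheaf.obj (op U.1)) :
    psi B.isQCoh B.isSym g' ψ U e a ∈ RS g' ψ U e := by
  have : Subring.closure (Set.range (B.S.str.app (op U.1)).hom ∪ Set.range (ev B.j U)) ≤
      (RS g' ψ U e).comap (psi B.isQCoh B.isSym g' ψ U e) := by
    refine Subring.closure_le.mpr ?_
    rintro _ (⟨r, rfl⟩ | ⟨b, rfl⟩)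
    · show _ ∈ RS g' ψ U e
      rw [(psi_spec B.isQCoh B.isSym g' ψ U e).1]
      exact base_mem_RS g' ψ U e r
    · show _ ∈ RS g' ψ U e
      rw [psi_ev]
      exact rat_mem_RS g' ψ U e b
  exact this ((closure_str_ev B.isQCoh B.isSym U).ge (Subring.mem_top a))

/-- The coordinates on a piece. -/
abbrev coord (U : Y.AffineZariskiSite) (e : Γ(B.E, U.1)) :
    Away (dg B.S U) (ev B.j U e) →+* Γ((Tp g' ψ U e : Scheme.{u}), ⊤) :=
  ProjPt.evalAway (dg B.S U) (psiT B.isQCoh B.isSym g' ψ U e) (ev B.j U e) (psiT_unit B.isQCoh B.isSym g' ψ U e)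

theorem qc_eq (U : Y.AffineZariskiSite) (e : Γ(B.E, U.1)) :
    qc B.isQCoh B.isSym g' ψ U e =
      toAff (coord (g' := g') (ψ := ψ) U e) ≫
        Proj.awayι (dg B.S U) (ev B.j U e) (B.isSym.2 U.1 U.2 e) one_pos := by
  rw [qc, ProjPt.pt, toAff, Category.assoc]

theorem range_coord (U : Y.AffineZariskiSite) (e : Γ(B.E, U.1)) :
    (coord (g' := g') (ψ := ψ) U e).range =
      ((Tp g' ψ U e).topIso.inv.hom.comp (RS g' ψ U e).subtype).range := by
  refine le_antisymm ?_ ?_
  · rintro _ ⟨z, rfl⟩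
    obtain ⟨n, a, ha, rfl⟩ := Away.mk_surjective (dg B.S U) (f := ev B.j U e) (B.isSym.2 U.1 U.2 e) z
    refine ⟨⟨_, psi_mem_RS U e a⟩, ?_⟩
    have h := ProjPt.evalAway_mk_spec (dg B.S U) (psiT B.isQCoh B.isSym g' ψ U e) (x := ev B.j U e)
      (B.isSym.2 U.1 U.2 e) (psiT_unit B.isQCoh B.isSym g' ψ U e) n a ha
    rw [psiT_self, one_pow, mul_one] at h
    exact h.symm
  · rintro _ ⟨⟨b, hb⟩, rfl⟩
    suffices RS g' ψ U e ≤ (coord (g' := g') (ψ := ψ) U e).range.comap (Tp g' ψ U e).topIso.inv.hom from this hb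
    refine Subring.closure_le.mpr ?_
    rintro _ (⟨r, rfl⟩ | ⟨e', rfl⟩)
    · refine ⟨fromZeroRingHom (dg B.S U) _ ((B.S.strZero U.1 U.2).hom r), ?_⟩
      rw [evalAway_fromZero (𝒜 := dg B.S U) _ (x := ev B.j U e) (B.isSym.2 U.1 U.2 e)]
      exact congrArg (Tp g' ψ U e).topIso.inv ((psi_spec B.isQCoh B.isSym g' ψ U e).1 r)
    · refine ⟨Away.mk (dg B.S U) (f := ev B.j U e) (B.isSym.2 U.1 U.2 e) 1 (ev B.j U e')
        (by simpa using B.isSym.2 U.1 U.2 e'), ?_⟩
      exact (evalAway_ratio B.isQCoh U e e').trans (congrArg (Tp g' ψ U e).topIso.inv (psi_ev U e e'))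

theorem pieceImm_iff (U : Y.AffineZariskiSite) (e : Γ(B.E, U.1)) :
    PieceImm g' ψ U e ↔ IsImmersion (qp B.p B.chart B.isQCoh B.isSym g' ψ U e) := by
  rw [qp, qc_eq, Category.assoc]
  constructor
  · intro h
    haveI : IsImmersion (toAff (coord (g' := g') (ψ := ψ) U e)) :=
      isImmersion_toAff_of_range_le _ _ (range_coord U e).ge h
    infer_instance
  · intro h
    haveI := h
    exact isImmersion_toAff_of_range_le _ _ (range_coord U e).le
      (IsImmersion.of_comp (toAff (coord (g' := g') (ψ := ψ) U e))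
        (Proj.awayι (dg B.S U) (ev B.j U e) (B.isSym.2 U.1 U.2 e) one_pos ≫ em B.p B.chart U))

theorem IsLift.pieceImm {r : X ⟶ B.P} {θ : B.O ⟶ (Scheme.Modules.pushforward r).obj L}
    (h : B.IsLift g' ψ r θ) [IsImmersion r] (U : Y.AffineZariskiSite) (e : Γ(B.E, U.1)) : PieceImm g' ψ U e := by
  rw [pieceImm_iff, ← h.ι_comp]
  infer_instance

theorem IsLift.isImmersion {r : X ⟶ B.P} {θ : B.O ⟶ (Scheme.Modules.pushforward r).obj L}
    (h : B.IsLift g' ψ r θ)
    (hp : ∀ x, ∃ (U : Y.AffineZariskiSite) (e : Γ(B.E, U.1)), x ∈ Tp g' ψ U e ∧ PieceImm g' ψ U e) :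
    IsImmersion r := by
  haveI : MorphismProperty.RespectsRight @IsImmersion.{u} @IsOpenImmersion.{u} :=
    ⟨fun i hi f hf => by haveI := hi; haveI := hf; exact inferInstance⟩
  let ι := { i : Σ U : Y.AffineZariskiSite, Γ(B.E, U.1) // PieceImm g' ψ i.1 i.2 }
  refine IsZariskiLocalAtTarget.of_range_subset_iSup (P := @IsImmersion) (fun i : ι => B.piece i.1.1 i.1.2) ?_
    fun i => ?_
  · rintro _ ⟨x, rfl⟩
    obtain ⟨U, e, hx, hpi⟩ := hp x
    exact Opens.mem_iSup.mpr ⟨⟨⟨U, e⟩, hpi⟩, (h.preimage_piece U e).ge hx⟩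
  · have heq := h.preimage_piece i.1.1 i.1.2
    have h1 : IsImmersion ((r ⁻¹ᵁ B.piece i.1.1 i.1.2).ι ≫ r) := by
      haveI := (pieceImm_iff i.1.1 i.1.2).mp i.2
      rw [heq, h.ι_comp]
      infer_instance
    rw [← morphismRestrict_ι] at h1
    exact IsImmersion.of_comp _ (B.piece i.1.1 i.1.2).ι

end Bdl

/-- Very ampleness means that some generating family of sections has embedding rings of ratios. -/
theorem isRelVeryAmple_iff {g : X ⟶ Y} {L : X.Modules} :
    RelProj.IsRelVeryAmple g L ↔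
      ∃ (E : Y.Modules) (φ : E ⟶ (Scheme.Modules.pushforward g).obj L), Coh.IsQCoh E ∧
        ∀ x, ∃ (U : Y.AffineZariskiSite) (e : Γ(E, U.1)), x ∈ Tp g φ U e ∧ PieceImm g φ U e := by
  constructor
  · intro h
    obtain ⟨B, φ, r, θ, hl, hi⟩ := exists_lift_of_isRelVeryAmple h
    haveI := hi
    refine ⟨B.E, φ, B.isQCoh, fun x => ?_⟩
    obtain ⟨U, hU, e, he⟩ := hl.isGenBy x
    exact ⟨⟨U, hU⟩, e, mem_genOpen.mpr he, hl.pieceImm _ _⟩
  · rintro ⟨E, φ, hE, hp⟩
    obtain ⟨B, rfl⟩ := exists_bdl E hE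
    obtain ⟨r, θ, h⟩ := Bdl.exists_lift (B := B) (g := g) (φ := φ) fun x => by
      obtain ⟨U, e, hx, -⟩ := hp x
      exact ⟨U.1, U.2, e, mem_genOpen.mp hx⟩
    exact h.isRelVeryAmple (h.isImmersion hp)

end GrothLib.VA
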