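import Groth.Agent.Lib.VA.ProjSpace
import Groth.Agent.Lib.VA.Local
import Groth.Agent.Lib.Ample.VeryAmple
import Groth.Agent.Lib.Ample.CocPullback

/-!
# High powers of a relatively ample module are very ample
-/

set_option autoImplicit false
set_option backward.isDefEq.respectTransparency false

universe u

open CategoryTheory CategoryTheory.Limits AlgebraicGeometry TopologicalSpace

noncomputable section

namespace GrothLib.VA

variable {X Y : Scheme.{u}}

/-- High powers of a relatively ample module, twisted by any invertible module, are very ample. -/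
theorem eventually_isRelVeryAmple [CompactSpace Y] (f : X ⟶ Y) [QuasiCompact f] [LocallyOfFiniteType f]
    {L L' : X.Modules} (hL : PicF.IsInvertible L) (hL' : PicF.IsInvertible L') (h : RelAmple.IsRelAmple f L) :
    ∃ n₀ : ℕ, ∀ n : ℕ, n₀ ≤ n → RelProj.IsRelVeryAmple f (CohB1.tensorMod (CohB1.tensorPow L n) L') := by
  classical
  obtain ⟨s, hs⟩ := isCompact_univ.elim_finite_subcover (fun V : Y.affineOpens => ((V.1 : Y.Opens) : Set Y))
    (fun V => V.1.2) (fun y _ => by
      obtain ⟨V, hV, hy, -⟩ := exists_isAffineOpen_mem_and_subset (Opens.mem_top y)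
      exact Set.mem_iUnion.mpr ⟨⟨V, hV⟩, hy⟩)
  have hex : ∀ V : s, ∃ n₀ : ℕ, ∀ n, n₀ ≤ n → RelProj.IsRelVeryAmple (f ∣_ V.1.1)
      ((CohB1.tensorMod (CohB1.tensorPow L n) L').restrict (f ⁻¹ᵁ V.1.1).ι) := fun V => by
    haveI : IsAffine V.1.1.toScheme := V.1.2
    let j := (f ⁻¹ᵁ V.1.1).ι
    have hamp := h.2 V.1
    haveI := hamp.2.1
    obtain ⟨c, ⟨e⟩⟩ := Ample.exists_cocycle hamp.1
    obtain ⟨c', ⟨e'⟩⟩ := Ample.exists_cocycle (Ample.isInvertible_pullback j hL')
    obtain ⟨n₀, hn₀⟩ := Ample.eventually_isRelVeryAmplePn (f ∣_ V.1.1) c c' ((c.isAmple_iff e).mp hamp).2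
    refine ⟨n₀, fun n hn => ?_⟩
    obtain ⟨d₁⟩ := c.nonempty_tensorPow_iso_pow (((Scheme.Modules.restrictFunctorIsoPullback j).app L).symm ≪≫ e) n
    obtain ⟨p₁⟩ := Ample.nonempty_pullback_tensorMod j (Ample.isInvertible_tensorPow hL n) hL'
    obtain ⟨p₂⟩ := Ample.nonempty_pullback_tensorPow j hL n
    obtain ⟨d₂⟩ := (c.pow n).nonempty_tensorMod_iso_prod c' (p₂ ≪≫ d₁) e'
    exact isRelVeryAmple_of_pn (hn₀ n hn ((Scheme.Modules.restrictFunctorIsoPullback j).app _ ≪≫ p₁ ≪≫ d₂))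
  choose N hN using hex
  refine ⟨Finset.univ.sup N, fun n hn => ?_⟩
  haveI := InvExt.isQuasicoherent_of_isInvertible
    (Ample.isInvertible_tensorMod (Ample.isInvertible_tensorPow hL n) hL')
  refine (isRelVeryAmple_iff_local f _ (Ample.isInvertible_tensorMod (Ample.isInvertible_tensorPow hL n) hL')
    (fun V : ULift.{u} s => V.down.1.1) ?_).mpr
    fun V => hN V.down n ((Finset.le_sup (Finset.mem_univ V.down)).trans hn)
  refine eq_top_iff.mpr fun y _ => ?_
  obtain ⟨V, hV, hy⟩ := Set.mem_iUnion₂.mp (hs (Set.mem_univ y))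
  exact Opens.mem_iSup.mpr ⟨⟨⟨V, hV⟩⟩, hy⟩

end GrothLib.VA
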