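import Groth.Agent.Lib.VA.Compose
import Groth.Agent.Lib.VA.Eventually
import Groth.Agent.Lib.VA.Powers
import Groth.Agent.Lib.RelProjK.Amp

/-!
# Very ample modules become embeddings by global sections after an ample twist
-/

set_option autoImplicit false
set_option backward.isDefEq.respectTransparency false

universe u

open CategoryTheory CategoryTheory.Limits AlgebraicGeometry TopologicalSpace Opposite
open AlgebraicGeometry.AffineSpace
open GrothLib.InvExt (mres fres IsGen)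
open GrothLib.Ample (res Cocycle)

noncomputable section

namespace GrothLib.VA

variable {X Y : Scheme.{u}}

theorem isCompact_genOpen {L : X.Modules} (hL : PicF.IsInvertible L) {V : X.Opens} (hV : IsCompact (V : Set X))
    (t : Γ(L, V)) : IsCompact (genOpen L t : Set X) := by
  classical
  have hex : ∀ p : V, ∃ W : X.Opens, p.1 ∈ W ∧ W ≤ V ∧ IsCompact ((genOpen L t ⊓ W : X.Opens) : Set X) := fun p => by
    obtain ⟨T, ε, hpT, hε⟩ := InvExt.exists_gen_nhd hL p.1
    obtain ⟨W, hW, hpW, hWle⟩ :=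
      exists_isAffineOpen_mem_and_subset (show p.1 ∈ V ⊓ T from ⟨p.2, hpT⟩)
    have hWV : W ≤ V := fun y hy => (hWle hy).1
    have hεW := hε.restrict (fun y hy => (hWle hy).2 : W ≤ T)
    obtain ⟨c, hc⟩ := hεW.exists_smul_eq le_rfl (mres L hWV t)
    rw [InvExt.mres_self] at hc
    refine ⟨W, hpW, hWV, ?_⟩
    have : genOpen L t ⊓ W = X.basicOpen c := by
      ext y
      constructor
      · rintro ⟨hy, hyW⟩
        exact (genAt_iff_mem_basicOpen hWV hεW hc hyW).mp (mem_genOpen.mp hy)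
      · intro hy
        exact ⟨mem_genOpen.mpr ((genAt_iff_mem_basicOpen hWV hεW hc (X.basicOpen_le c hy)).mpr hy),
          X.basicOpen_le c hy⟩
    rw [this]
    exact (hW.basicOpen c).isCompact
  choose W hpW hWV hWc using hex
  obtain ⟨s, hs⟩ := hV.elim_finite_subcover (fun p : V => (W p : Set X)) (fun p => (W p).2)
    fun y hy => Set.mem_iUnion.mpr ⟨⟨y, hy⟩, hpW _⟩
  have : (genOpen L t : Set X) = ⋃ p ∈ s, ((genOpen L t ⊓ W p : X.Opens) : Set X) := by
    refine Set.Subset.antisymm (fun y hy => ?_) (Set.iUnion₂_subset fun p _ => fun y hy => hy.1)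
    obtain ⟨p, hp, hy'⟩ := Set.mem_iUnion₂.mp (hs (genOpen_le t hy))
    exact Set.mem_iUnion₂.mpr ⟨p, hp, hy, hy'⟩
  rw [this]
  exact s.isCompact_biUnion fun p _ => hWc p

theorem genAt_smul_iff {L : X.Modules} (hL : PicF.IsInvertible L) {V : X.Opens} (r : Γ(X, V)) (t : Γ(L, V)) {x : X} :
    GenAt L (r • t) x ↔ x ∈ X.basicOpen r ∧ GenAt L t x := by
  by_cases hxV : x ∈ V
  swap
  · exact iff_of_false (fun ⟨W, hW, hxW, _⟩ => hxV (hW hxW)) (fun h => hxV (X.basicOpen_le r h.1))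
  obtain ⟨T, ε, hxT, hε⟩ := InvExt.exists_gen_nhd hL x
  have hεI := hε.restrict (inf_le_right : V ⊓ T ≤ T)
  obtain ⟨c, hc⟩ := hεI.exists_smul_eq le_rfl (mres L (inf_le_left : V ⊓ T ≤ V) t)
  rw [InvExt.mres_self] at hc
  have h : mres L (inf_le_left : V ⊓ T ≤ V) (r • t) =
      (fres X inf_le_left r * c) • mres L (inf_le_right : V ⊓ T ≤ T) ε := by
    rw [InvExt.mres_smul, hc, smul_smul]
  rw [genAt_iff_mem_basicOpen inf_le_left hεI hc (x := x) ⟨hxV, hxT⟩,
    genAt_iff_mem_basicOpen inf_le_left hεI h (x := x) ⟨hxV, hxT⟩, Scheme.basicOpen_mul, Scheme.basicOpen_res]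
  exact ⟨fun a => ⟨a.1.2, a.2⟩, fun a => ⟨⟨⟨hxV, hxT⟩, a.1⟩, a.2⟩⟩

section modTwist

variable (c : Cocycle X) {M : X.Modules} {n : ℕ}

theorem isInvertible_modTwist (hM : PicF.IsInvertible M) (n : ℕ) : PicF.IsInvertible (c.modTwist M n) := by
  obtain ⟨e⟩ := c.nonempty_tensor_modTwist M n
  exact ParaPair.isInvertible_of_iso e.symm
    (Ample.isInvertible_tensorMod hM (c.isInvertible_of_iso (Iso.refl (c.twist n))))

theorem isGen_mbase {V : X.Opens} (i : c.ι) (hV : V ≤ c.D i) {μ : Γ(M, V)} (hμ : IsGen M V μ) :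
    IsGen (c.modTwist M n) V (c.mbase n i hV μ) := by
  intro W hW
  have hWi : W ≤ W ⊓ c.D i := le_inf le_rfl (hW.trans hV)
  have comp : ∀ r : Γ(X, W), mres M hWi ((r • c.msectRes hW (c.mbase n i hV μ)).1 i) = r • mres M hW μ := fun r => by
    rw [c.msmul_apply, c.msectRes_apply, c.mbase_self, Ample.mres_smul', InvExt.mres_mres, InvExt.mres_mres,
      Ample.res_res, Ample.res_self]
  constructor
  · intro r r' h
    have h' := congrArg (fun a : c.msect M n W => mres M hWi (a.1 i)) h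
    exact hμ.smul_left_injective hW ((comp r).symm.trans (h'.trans (comp r')))
  · intro (a : c.msect M n W)
    obtain ⟨r, hr⟩ := hμ.exists_smul_eq hW (mres M hWi (a.1 i))
    refine ⟨r, c.msect_ext_of_le (hW.trans hV) ?_⟩
    show (r • c.msectRes hW (c.mbase n i hV μ)).1 i = a.1 i
    have h1 := congrArg (mres M (inf_le_left : W ⊓ c.D i ≤ W)) ((comp r).trans hr.symm)
    rw [InvExt.mres_mres, InvExt.mres_mres, InvExt.mres_self, InvExt.mres_self] at h1
    exact h1

theorem genAt_modTwist (hM : PicF.IsInvertible M) {V : X.Opens} (a : c.msect M n V) {i : c.ι} {x : X} (hxV : x ∈ V)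
    (hxi : x ∈ c.D i) : GenAt (c.modTwist M n) (show Γ(c.modTwist M n, V) from a) x ↔ GenAt M (a.1 i) x := by
  obtain ⟨T, ε, hxT, hε⟩ := InvExt.exists_gen_nhd hM x
  let I := (V ⊓ c.D i) ⊓ T
  have hIi : I ≤ c.D i := inf_le_left.trans inf_le_right
  have hεI := hε.restrict (inf_le_right : I ≤ T)
  obtain ⟨r, hr⟩ := hεI.exists_smul_eq le_rfl (mres M (inf_le_left : I ≤ V ⊓ c.D i) (a.1 i))
  rw [InvExt.mres_self] at hr
  have hgen : IsGen (c.modTwist M n) I (c.mbase n i hIi (mres M (inf_le_right : I ≤ T) ε)) := isGen_mbase c i hIi hεI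
  have h : mres (c.modTwist M n) (inf_le_left.trans inf_le_left : I ≤ V) a =
      r • (show Γ(c.modTwist M n, I) from c.mbase n i hIi (mres M (inf_le_right : I ≤ T) ε)) := by
    show c.msectRes (inf_le_left.trans inf_le_left : I ≤ V) a = r • c.mbase n i hIi _
    refine c.msect_ext_of_le hIi ?_
    rw [c.msectRes_apply, c.msmul_apply, c.mbase_self]
    have h1 := congrArg (mres M (inf_le_left : I ⊓ c.D i ≤ I)) hr
    rw [Ample.mres_smul', InvExt.mres_mres] at h1
    exact h1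
  rw [genAt_iff_mem_basicOpen (inf_le_left.trans inf_le_left : I ≤ V) hgen h (x := x) ⟨⟨hxV, hxi⟩, hxT⟩,
    genAt_iff_mem_basicOpen inf_le_left hεI hr (x := x) ⟨⟨hxV, hxi⟩, hxT⟩]

end modTwist

/-- Pieces embedded by finitely many sections over affine loci of an ample cocycle. -/
theorem exists_finite_pieces (f : X ⟶ Y) [QuasiCompact f] [LocallyOfFiniteType f] [CompactSpace Y] {L : X.Modules}
    (hL : PicF.IsInvertible L) (hva : RelProj.IsRelVeryAmple f L) {c : Cocycle Y} (hc : c.IsAmp) (x : X) :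
    ∃ (k : ℕ) (a : c.sect (k + 1) ⊤) (J : Type u) (_ : Finite J) (s : Option J → Γ(L, f ⁻¹ᵁ c.locus a))
      (v : J → Γ(X, genOpen L (s none))),
      x ∈ genOpen L (s none) ∧ IsAffineOpen (c.locus a) ∧
        (∀ j, mres L (genOpen_le (s none)) (s (some j)) = v j • mres L (genOpen_le (s none)) (s none)) ∧
        IsImmersion (homOfVector (f.resLE (c.locus a) (genOpen L (s none)) (genOpen_le (s none)))
          fun j => (genOpen L (s none)).topIso.inv (v j)) := by
  obtain ⟨E, φ, -, hp⟩ := isRelVeryAmple_iff.mp hva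
  obtain ⟨U₀, e, hx, hpi⟩ := hp x
  obtain ⟨k, a, hxa, haU, haff⟩ := c.exists_affine_locus_le hc (O := U₀.1) (Tp_le f φ U₀ e hx)
  let U := c.locus a
  let sec : Γ(E, U₀.1) → Γ(L, f ⁻¹ᵁ U) := fun b =>
    mres L (f.preimage_mono haU) (show Γ(L, f ⁻¹ᵁ U₀.1) from φ.app U₀.1 b)
  let T := genOpen L (sec e)
  have hT : T ≤ Tp f φ U₀ e := fun y hy => mem_genOpen.mpr ((genAt_mres _ _).mp (mem_genOpen.mp hy)).2
  have hxT : x ∈ T := mem_genOpen.mpr ((genAt_mres _ _).mpr ⟨hxa, mem_genOpen.mp hx⟩)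
  haveI : CompactSpace T.toScheme :=
    isCompact_iff_compactSpace.mp (isCompact_genOpen hL (f.isCompact_preimage haff.isCompact) (sec e))
  haveI : IsAffine U.toScheme := haff
  let p := f.resLE U T (genOpen_le (sec e))
  let ρ : Γ(E, U₀.1) → Γ(T.toScheme, ⊤) := fun b => T.topIso.inv (fres X hT (rat f φ U₀ e b))
  let h : RS f φ U₀ e →+* Γ(T.toScheme, ⊤) :=
    ((X.homOfLE hT).appTop.hom).comp ((Tp f φ U₀ e).topIso.inv.hom.comp (RS f φ U₀ e).subtype)
  haveI : IsImmersion (toAff h) := by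
    haveI : IsImmersion (toAff ((Tp f φ U₀ e).topIso.inv.hom.comp (RS f φ U₀ e).subtype)) := hpi
    rw [show toAff h = X.homOfLE hT ≫ toAff ((Tp f φ U₀ e).topIso.inv.hom.comp (RS f φ U₀ e).subtype) from
      (comp_toAff _ _).symm]
    infer_instance
  obtain ⟨J, hJ⟩ := exists_finset_vector p ρ h fun r => by
    show (X.homOfLE hT).appTop ((Tp f φ U₀ e).topIso.inv r.1) ∈ _
    refine map_mem_of_RS (g := f) (φ := φ) ((X.homOfLE hT).appTop.hom.comp (Tp f φ U₀ e).topIso.inv.hom) _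
      (fun r₀ => ?_) (fun b => ?_) r.2
    · refine Subring.subset_closure (Or.inl ⟨U.topIso.inv (fres Y haU r₀), ?_⟩)
      show p.appTop (U.topIso.inv _) = (X.homOfLE hT).appTop ((Tp f φ U₀ e).topIso.inv _)
      rw [appTop_resLE_topIso, oRes_topIso]
      refine congrArg T.topIso.inv ?_
      show (Y.presheaf.map (homOfLE haU).op ≫ f.appLE U T _).hom r₀ =
        (f.app U₀.1 ≫ X.presheaf.map _ ≫ X.presheaf.map _).hom r₀
      rw [Scheme.Hom.map_appLE, ← Functor.map_comp]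
      rfl
    · exact Subring.subset_closure (Or.inr ⟨b, (oRes_topIso hT _).symm⟩)
  refine ⟨k, a, ↥J, inferInstance, fun o => sec (o.elim e fun b => b.1),
    fun b => fres X hT (rat f φ U₀ e b.1), hxT, haff, fun b => ?_, hJ⟩
  show mres L _ (mres L _ _) = _ • mres L _ (mres L _ _)
  have h1 := congrArg (mres L hT) (rat_spec f φ U₀ e b.1)
  rw [InvExt.mres_smul] at h1
  simp only [gp, InvExt.mres_mres] at h1 ⊢
  exact h1

theorem exists_globalPieces (f : X ⟶ Y) [QuasiCompact f] [LocallyOfFiniteType f] [CompactSpace Y] {L : X.Modules}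
    (hL : PicF.IsInvertible L) (hva : RelProj.IsRelVeryAmple f L) {c : Cocycle Y} (hc : c.IsAmp) :
    ∃ n : ℕ, GlobalPieces f ((c.comap f).modTwist L n) := by
  classical
  haveI := c.quasiSeparatedSpace_of_isAmp hc
  haveI := isSeparated_of_isRelVeryAmple hva
  haveI : CompactSpace X := QuasiCompact.compactSpace_of_compactSpace f
  haveI : QuasiSeparatedSpace X := quasiSeparatedSpace_of_quasiSeparated f
  haveI : L.IsQuasicoherent := InvExt.isQuasicoherent_of_isInvertible hL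
  choose k a J hJ s v hx haff hv himm using exists_finite_pieces f hL hva hc
  obtain ⟨F, hF⟩ := isCompact_univ.elim_finite_subcover (fun x => (genOpen L (s x none) : Set X))
    (fun x => (genOpen L (s x none)).2) (fun x _ => Set.mem_iUnion.mpr ⟨x, hx x⟩)
  let d := ∏ x ∈ F, (k x + 1)
  have hd : 0 < d := Finset.prod_pos fun x _ => Nat.succ_pos _
  have hdvd : ∀ x : F, k x.1 + 1 ∣ d := fun x => Finset.dvd_prod_of_mem _ x.2
  choose p hp using hdvd
  have hp0 : ∀ x : F, 0 < p x := fun x => pos_of_mul_pos_right (hp x ▸ hd) (Nat.zero_le _)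
  let c' := c.comap f
  let A : F → c.sect d ⊤ := fun x => c.sectCast (hp x).symm (c.sectPow (a x.1) (p x))
  let A' : F → c'.sect d ⊤ := fun x => c.pullSect f (le_top : (⊤ : X.Opens) ≤ f ⁻¹ᵁ ⊤) (A x)
  have hA : ∀ x : F, c.locus (A x) = c.locus (a x.1) := fun x =>
    (c.locus_sectCast _ _).trans (c.locus_sectPow _ (hp0 x))
  have hA' : ∀ x : F, c'.locus (A' x) = f ⁻¹ᵁ c.locus (a x.1) := fun x =>
    (c.locus_pullSect f (A x)).trans (congrArg (f ⁻¹ᵁ ·) (hA x))
  let T := Σ x : F, Option (J x.1)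
  haveI : ∀ x : F, Finite (J x.1) := fun x => hJ x.1
  let β : ∀ t : T, c'.msect L 0 (c'.locus (A' t.1)) := fun t =>
    ⟨fun i => mres L ((inf_le_left : _ ⊓ c'.D i ≤ _).trans (hA' t.1).le) (s t.1.1 t.2), fun i j W hi hj => by
      rw [pow_zero, one_smul, InvExt.mres_mres, InvExt.mres_mres]⟩
  obtain ⟨m₀, hm₀⟩ := c'.exists_mextend_uniform (M := L) (fun t : T => A' t.1) β
  choose b hb using hm₀ m₀ le_rfl
  let σ : T → Γ(c'.modTwist L (0 + d * m₀ + d * 1), ⊤) := fun t => c'.mraise (A' t.1) (b t) 1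
  have hcomp : ∀ (t : T) (i : c'.ι) (W : X.Opens) (hW : W ≤ c'.locus (A' t.1) ⊓ c'.D i),
      mres L (hW.trans (inf_le_inf_right _ le_top)) ((show c'.msect L _ ⊤ from σ t).1 i) =
        (res (hW.trans (inf_le_inf_right _ le_top)) ((A' t.1).1 i)) ^ (m₀ + 1) •
          mres L ((hW.trans inf_le_left).trans (hA' t.1).le) (s t.1.1 t.2) := by
    intro t i W hW
    show mres L _ ((c'.mraise (A' t.1) (b t) 1).1 i) = _
    have h1 := congrArg (fun z : c'.msect L (0 + d * m₀) (c'.locus (A' t.1)) => mres L hW (z.1 i)) (hb t)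
    simp only [Cocycle.msectRes_apply, Cocycle.mraise_apply, β, Ample.mres_smul', InvExt.mres_mres, map_pow,
      Ample.res_res] at h1
    rw [Cocycle.mraise_apply, Ample.mres_smul', map_pow, Ample.res_res, h1, smul_smul, ← pow_add, add_comm 1 m₀]
  have hlocus : ∀ x : F, genOpen _ (σ ⟨x, none⟩) = genOpen L (s x.1 none) := fun x => by
    ext y
    show y ∈ genOpen _ _ ↔ y ∈ genOpen _ _
    obtain ⟨i, hi⟩ := c'.exists_mem y
    rw [mem_genOpen, mem_genOpen, genAt_modTwist c' hL _ (i := i) (show y ∈ (⊤ : X.Opens) from trivial) hi]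
    let W := c'.locus (A' x) ⊓ c'.D i
    have hu : ∀ z ∈ W, z ∈ X.basicOpen
        (res (inf_le_inf_right (c'.D i) le_top : W ≤ ⊤ ⊓ c'.D i) ((A' x).1 i) ^ (m₀ + 1)) := fun z hz => by
      rw [Scheme.basicOpen_pow _ _ (Nat.succ_pos _), Ample.mem_basicOpen_res]
      exact ⟨hz, (c'.mem_locus_iff (A' x) hz.2).mp hz.1⟩
    have h1 := hcomp ⟨x, none⟩ i W le_rfl
    constructor
    · intro h
      have hyl : y ∈ c'.locus (A' x) := by
        rw [c'.mem_locus_iff (A' x) hi]
        have h2 : GenAt L (res (inf_le_inf_right (c'.D i) (le_top : (⊤ : X.Opens) ≤ ⊤)) ((A' x).1 i) ^ 1 •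
            (b ⟨x, none⟩).1 i) y := h
        have h3 := ((genAt_smul_iff hL _ _).mp h2).1
        rw [pow_one, Ample.mem_basicOpen_res] at h3
        exact h3.2
      have h4 := (genAt_mres (inf_le_inf_right _ le_top) _).mpr ⟨(⟨hyl, hi⟩ : y ∈ W), h⟩
      rw [h1, genAt_smul_iff hL, genAt_mres] at h4
      exact h4.2.2
    · intro h
      have hyl : y ∈ c'.locus (A' x) := (hA' x).ge (genOpen_le _ (mem_genOpen.mpr h))
      have h4 : GenAt L (mres L (inf_le_inf_right (c'.D i) le_top : W ≤ ⊤ ⊓ c'.D i)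
          ((show c'.msect L _ ⊤ from σ ⟨x, none⟩).1 i)) y := by
        rw [h1, genAt_smul_iff hL, genAt_mres]
        exact ⟨hu y ⟨hyl, hi⟩, ⟨hyl, hi⟩, h⟩
      exact ((genAt_mres _ _).mp h4).2
  refine ⟨0 + d * m₀ + d * 1, fun y => ?_⟩
  obtain ⟨x, hxF, hy⟩ := Set.mem_iUnion₂.mp (hF (Set.mem_univ y))
  let xF : F := ⟨x, hxF⟩
  let vv : J x → Γ(X, genOpen _ (σ ⟨xF, none⟩)) := fun j => fres X (hlocus xF).le (v x j)
  refine ⟨σ ⟨xF, none⟩, c.locus (a x), J x, fun j => σ ⟨xF, some j⟩, vv, (hlocus xF).le.trans (genOpen_le _),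
    (hlocus xF).ge hy, haff x, fun j => ?_, ?_⟩
  · have hTl : genOpen _ (σ ⟨xF, none⟩) ≤ c'.locus (A' xF) :=
      (hlocus xF).le.trans ((genOpen_le _).trans (hA' xF).ge)
    show c'.msectRes le_top (show c'.msect L _ ⊤ from σ ⟨xF, some j⟩) =
      vv j • c'.msectRes le_top (show c'.msect L _ ⊤ from σ ⟨xF, none⟩)
    refine c'.msect_ext fun i => ?_
    rw [c'.msectRes_apply, c'.msmul_apply, c'.msectRes_apply, hcomp ⟨xF, some j⟩ i _ (inf_le_inf_right _ hTl),
      hcomp ⟨xF, none⟩ i _ (inf_le_inf_right _ hTl)]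
    have h2 := congrArg (mres L ((inf_le_left : _ ⊓ c'.D i ≤ _).trans (hlocus xF).le)) (hv x j)
    simp only [InvExt.mres_smul, InvExt.mres_mres] at h2
    rw [h2, smul_comm]
    simp only [vv, InvExt.fres_fres]
    rfl
  · have key : ∀ (T' : X.Opens) (hT : T' = genOpen L (s x none)) (hle : T' ≤ f ⁻¹ᵁ c.locus (a x)),
        IsImmersion (homOfVector (f.resLE (c.locus (a x)) T' hle) fun j => T'.topIso.inv (fres X hT.le (v x j))) := by
      rintro _ rfl hle
      simp only [InvExt.fres_self]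
      exact himm x
    exact key _ (hlocus xF) _

theorem eventually_isRelVeryAmple_comp_affine {Z : Scheme.{u}} [IsAffine Z] (f : X ⟶ Y) [QuasiCompact f]
    [LocallyOfFiniteType f] (g : Y ⟶ Z) [QuasiCompact g] {L : X.Modules} (hL : PicF.IsInvertible L)
    (hLva : RelProj.IsRelVeryAmple f L) {K : Y.Modules} (hK : PicF.IsInvertible K)
    (hKva : RelProj.IsRelVeryAmple g K) :
    ∃ n₀ : ℕ, 0 < n₀ ∧ ∀ n : ℕ, n₀ ≤ n → RelProj.IsRelVeryAmple (f ≫ g)
      (CohB1.tensorMod L ((Scheme.Modules.pullback f).obj (CohB1.tensorPow K n))) := by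
  haveI : CompactSpace Y := QuasiCompact.compactSpace_of_compactSpace g
  haveI := isSeparated_of_isRelVeryAmple hLva
  obtain ⟨c, ⟨e⟩⟩ := Ample.exists_cocycle hK
  have hamp : CohB1.IsAmple K := by
    have h := (RelProjK.isRelAmple_of_isRelVeryAmple g K hKva).2 ⟨⊤, isAffineOpen_top Z⟩
    have h2 := (Ample.isAmple_restrict_iff (g ⁻¹ᵁ (⊤ : Z.Opens)).ι K).mp h
    have h3 := (Ample.isAmple_pullback_iff_of_range_eq (L := K) (𝟙 Y) (g ⁻¹ᵁ (⊤ : Z.Opens)).ι (by simp)).mpr h2
    exact (Ample.isAmple_iff_of_iso ((Scheme.Modules.pullbackId Y).app K)).mp h3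
  obtain ⟨n₁, hpieces⟩ := exists_globalPieces f hL hLva ((c.isAmple_iff e).mp hamp).2
  refine ⟨n₁ + 1, n₁.succ_pos, fun n hn => ?_⟩
  obtain ⟨m, rfl⟩ : ∃ m, n = n₁ + m := ⟨n - n₁, by omega⟩
  have hm : 0 < m := by omega
  let L₁ := (c.comap f).modTwist L n₁
  have hL₁ : PicF.IsInvertible L₁ := isInvertible_modTwist (c.comap f) hL n₁
  have hKm := Ample.isInvertible_tensorPow hK m
  have hKn := Ample.isInvertible_tensorPow hK (n₁ + m)
  have h1 := isRelVeryAmple_comp_of_globalPieces f g hL₁ hKm (isRelVeryAmple_tensorPow hK hKva hm) hpieces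
  refine isRelVeryAmple_of_cls (Ample.isInvertible_tensorMod hL₁ (Ample.isInvertible_pullback f hKm))
    (Ample.isInvertible_tensorMod hL (Ample.isInvertible_pullback f hKn)) ?_ h1
  obtain ⟨d⟩ := c.nonempty_tensorPow_iso e n₁
  obtain ⟨d'⟩ := c.nonempty_pullback_iso f d
  obtain ⟨q⟩ := (c.comap f).nonempty_tensor_modTwist L n₁
  have ht : PicF.IsInvertible ((c.comap f).twist n₁) := (c.comap f).isInvertible_of_iso (Iso.refl _)
  have hK1 := Ample.isInvertible_tensorPow hK n₁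
  have e1 : Cube.clsMod hL₁ = Cube.clsMod hL * Cube.pull f (Cube.clsMod hK) ^ n₁ := by
    rw [(Cube.clsMod_eq_iff hL₁ (Ample.isInvertible_tensorMod hL ht)).mpr ⟨q.symm⟩, Cube.clsMod_tensorMod hL ht,
      (Cube.clsMod_eq_iff ht (Ample.isInvertible_pullback f hK1)).mpr ⟨d'.symm⟩, Cube.clsMod_pullback f hK1,
      Cube.clsMod_tensorPow hK, map_pow]
  rw [Cube.clsMod_tensorMod hL₁ (Ample.isInvertible_pullback f hKm),
    Cube.clsMod_tensorMod hL (Ample.isInvertible_pullback f hKn), Cube.clsMod_pullback f hKm,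
    Cube.clsMod_pullback f hKn, Cube.clsMod_tensorPow hK, Cube.clsMod_tensorPow hK, e1, map_pow, map_pow, pow_add,
    mul_assoc]

theorem eventually_isRelVeryAmple_comp {Z : Scheme.{u}} [CompactSpace Z] (f : X ⟶ Y) [QuasiCompact f]
    [LocallyOfFiniteType f] (g : Y ⟶ Z) [QuasiCompact g] {L : X.Modules} (hL : PicF.IsInvertible L)
    (hLva : RelProj.IsRelVeryAmple f L) {K : Y.Modules} (hK : PicF.IsInvertible K)
    (hKva : RelProj.IsRelVeryAmple g K) :
    ∃ n₀ : ℕ, 0 < n₀ ∧ ∀ n : ℕ, n₀ ≤ n → RelProj.IsRelVeryAmple (f ≫ g)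
      (CohB1.tensorMod L ((Scheme.Modules.pullback f).obj (CohB1.tensorPow K n))) := by
  classical
  obtain ⟨s, hs⟩ := isCompact_univ.elim_finite_subcover (fun V : Z.affineOpens => ((V.1 : Z.Opens) : Set Z))
    (fun V => V.1.2) (fun y _ => by
      obtain ⟨V, hV, hy, -⟩ := exists_isAffineOpen_mem_and_subset (Opens.mem_top y)
      exact Set.mem_iUnion.mpr ⟨⟨V, hV⟩, hy⟩)
  have hex : ∀ V : s, ∃ n₀ : ℕ, 0 < n₀ ∧ ∀ n, n₀ ≤ n → RelProj.IsRelVeryAmple ((f ≫ g) ∣_ V.1.1)
      ((CohB1.tensorMod L ((Scheme.Modules.pullback f).obj (CohB1.tensorPow K n))).restrict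
        ((f ≫ g) ⁻¹ᵁ V.1.1).ι) := fun V => by
    haveI : IsAffine V.1.1.toScheme := V.1.2
    let W := g ⁻¹ᵁ V.1.1
    let jX := (f ⁻¹ᵁ W).ι
    let jY := W.ι
    have hL' := Ample.isInvertible_pullback jX hL
    have hK' := Ample.isInvertible_pullback jY hK
    obtain ⟨n₀, h0, hn₀⟩ := eventually_isRelVeryAmple_comp_affine (f ∣_ W) (g ∣_ V.1.1) hL'
      (isRelVeryAmple_baseChange (isPullback_morphismRestrict f W).flip hL hLva) hK'
      (isRelVeryAmple_baseChange (isPullback_morphismRestrict g V.1.1).flip hK hKva)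
    refine ⟨n₀, h0, fun n hn => ?_⟩
    rw [morphismRestrict_comp]
    have hKn := Ample.isInvertible_tensorPow hK n
    have hKn' := Ample.isInvertible_tensorPow hK' n
    have hT := Ample.isInvertible_tensorMod hL (Ample.isInvertible_pullback f hKn)
    refine isRelVeryAmple_of_iso ((Scheme.Modules.restrictFunctorIsoPullback _).app _).symm ?_
    refine isRelVeryAmple_of_cls (Ample.isInvertible_tensorMod hL' (Ample.isInvertible_pullback (f ∣_ W) hKn'))
      (Ample.isInvertible_pullback jX hT) ?_ (hn₀ n hn)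
    rw [Cube.clsMod_tensorMod hL' (Ample.isInvertible_pullback (f ∣_ W) hKn'),
      Cube.clsMod_pullback jX hT, Cube.clsMod_tensorMod hL (Ample.isInvertible_pullback f hKn),
      Cube.clsMod_pullback jX hL, Cube.clsMod_pullback (f ∣_ W) hKn', Cube.clsMod_tensorPow hK',
      Cube.clsMod_pullback f hKn, Cube.clsMod_tensorPow hK, Cube.clsMod_pullback jY hK, map_mul, map_pow, map_pow,
      map_pow, Cube.pull_comp, Cube.pull_comp, morphismRestrict_ι]
  choose N hN0 hN using hex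
  refine ⟨Finset.univ.sup N + 1, Nat.succ_pos _, fun n hn => ?_⟩
  have hT := Ample.isInvertible_tensorMod hL (Ample.isInvertible_pullback f (Ample.isInvertible_tensorPow hK n))
  haveI := InvExt.isQuasicoherent_of_isInvertible hT
  refine (isRelVeryAmple_iff_local (f ≫ g) _ hT (fun V : ULift.{u} s => V.down.1.1) ?_).mpr
    fun V => hN V.down n ((Finset.le_sup (Finset.mem_univ V.down)).trans (by omega))
  refine eq_top_iff.mpr fun y _ => ?_
  obtain ⟨V, hV, hy⟩ := Set.mem_iUnion₂.mp (hs (Set.mem_univ y))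
  exact Opens.mem_iSup.mpr ⟨⟨⟨V, hV⟩⟩, hy⟩

end GrothLib.VA
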