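import Groth.Agent.Lib.VA.VeryAmple
import Groth.Agent.Lib.SymAlgX.Graded
import Groth.Agent.Lib.RelProjK.GlueProj
import Groth.Agent.Lib.RelProjK.Twist

/-!
# Existence of projective bundles; very ampleness from immersions
-/

set_option autoImplicit false
set_option backward.isDefEq.respectTransparency false

universe u

open CategoryTheory CategoryTheory.Limits AlgebraicGeometry TopologicalSpace Opposite
open GrothLib.InvExt (mres fres IsGen)

noncomputable section

namespace GrothLib.VA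

variable {X Y : Scheme.{u}}

theorem exists_bdl (E : Y.Modules) (hE : Coh.IsQCoh E) : ∃ B : Bdl Y, B.E = E := by
  obtain ⟨𝒮, j, hj⟩ := SymAlgX.exists_isGrSymAlg hE
  have hP := RelProjK.isRelProj_proj 𝒮
  obtain ⟨L, lam, hL⟩ := RelProjK.exists_isRelTwist (n := (1 : ℤ)) hP
  obtain ⟨c, hc⟩ := exists_canon hj hP hL
  exact ⟨⟨E, hE, 𝒮, j, hj, _, _, _, hP, L, lam, hL, c, hc⟩, rfl⟩

theorem exists_lift_to_bdl {g : X ⟶ Y} {L : X.Modules} {E : Y.Modules} (hE : Coh.IsQCoh E)
    (φ : E ⟶ (Scheme.Modules.pushforward g).obj L) (hφ : IsGenBy g φ) :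
    ∃ (B : Bdl Y) (hB : B.E = E) (r : X ⟶ B.P) (θ : B.O ⟶ (Scheme.Modules.pushforward r).obj L),
      B.IsLift g (eqToHom hB ≫ φ) r θ := by
  obtain ⟨B, rfl⟩ := exists_bdl E hE
  obtain ⟨r, θ, h⟩ := Bdl.exists_lift (B := B) hφ
  exact ⟨B, rfl, r, θ, by rwa [eqToHom_refl, Category.id_comp]⟩

/-- If an immersion factors through the morphism to the bundle, that morphism is an immersion. -/
theorem isRelVeryAmple_of_comp {g : X ⟶ Y} {L : X.Modules} {B : Bdl Y}
    {φ : B.E ⟶ (Scheme.Modules.pushforward g).obj L} {r : X ⟶ B.P}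
    {θ : B.O ⟶ (Scheme.Modules.pushforward r).obj L} (h : B.IsLift g φ r θ) {Z : Scheme.{u}} (k : B.P ⟶ Z)
    [IsImmersion (r ≫ k)] : RelProj.IsRelVeryAmple g L :=
  h.isRelVeryAmple (IsImmersion.of_comp r k)

theorem isRelVeryAmple_id (L : Y.Modules) (hE : Coh.IsQCoh L) (hL : PicF.IsInvertible L) :
    RelProj.IsRelVeryAmple (𝟙 Y) L := by
  have hφ : IsGenBy (𝟙 Y) ((Scheme.Modules.pushforwardId Y).inv.app L) := fun y => by
    obtain ⟨V, e, hy, he⟩ := InvExt.exists_gen_nhd hL y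
    obtain ⟨U, hU, hyU, hUV⟩ := exists_isAffineOpen_mem_and_subset hy
    refine ⟨U, hU, mres L hUV e, U, le_rfl, hyU, ?_⟩
    exact (InvExt.mres_self L (mres L (show U ≤ V from hUV) e)).symm ▸ he.restrict (show U ≤ V from hUV)
  obtain ⟨B, hB, r, θ, h⟩ := exists_lift_to_bdl hE _ hφ
  haveI : IsImmersion (r ≫ B.p) := by rw [h.comp]; infer_instance
  exact isRelVeryAmple_of_comp h B.p

end GrothLib.VA
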