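import Groth.Agent.Lib.VA.AffImm
import Groth.Agent.Lib.VA.BaseChange
import Groth.Agent.Lib.VA.Tensor

/-!
# The external product of very ample modules
-/

set_option autoImplicit false
set_option backward.isDefEq.respectTransparency false

universe u

open CategoryTheory CategoryTheory.Limits AlgebraicGeometry TopologicalSpace Opposite
open AlgebraicGeometry.AffineSpace
open GrothLib.InvExt (mres fres IsGen)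

noncomputable section

namespace GrothLib.VA

/-- The map of sections on a commutative square. -/
theorem exists_pullMap {X Y X' Y' : Scheme.{u}} {f : X ⟶ Y} {g : Y' ⟶ Y} {g' : X' ⟶ X} {f' : X' ⟶ Y'}
    (w : g' ≫ f = f' ≫ g) {L : X.Modules} {F : Y.Modules} (φ : F ⟶ (Scheme.Modules.pushforward f).obj L) :
    ∃ φ' : (Scheme.Modules.pullback g).obj F ⟶
        (Scheme.Modules.pushforward f').obj ((Scheme.Modules.pullback g').obj L),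
      ∀ (U : Y.Opens) (V : Y'.Opens) (hVU : V ≤ g ⁻¹ᵁ U) (hle : f' ⁻¹ᵁ V ≤ g' ⁻¹ᵁ (f ⁻¹ᵁ U)) (b : Γ(F, U)),
        (show Γ((Scheme.Modules.pullback g').obj L, f' ⁻¹ᵁ V) from
          φ'.app V (mres _ hVU (((Scheme.Modules.pullbackPushforwardAdjunction g).unit.app F).app U b))) =
          mres ((Scheme.Modules.pullback g').obj L) hle
            (((Scheme.Modules.pullbackPushforwardAdjunction g').unit.app L).app (f ⁻¹ᵁ U) (φ.app U b)) := by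
  let L' := (Scheme.Modules.pullback g').obj L
  let u := (Scheme.Modules.pullbackPushforwardAdjunction g').unit.app L
  let φ0 : F ⟶ (Scheme.Modules.pushforward (f' ≫ g)).obj L' :=
    φ ≫ (Scheme.Modules.pushforward f).map u ≫ (Scheme.Modules.pushforwardComp g' f).hom.app L' ≫
      (Scheme.Modules.pushforwardCongr w).hom.app L'
  obtain ⟨φ', hφ'⟩ := exists_factor f' g φ0
  refine ⟨φ', fun U V hVU hle b => ?_⟩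
  have hU : f' ⁻¹ᵁ (g ⁻¹ᵁ U) ≤ g' ⁻¹ᵁ (f ⁻¹ᵁ U) :=
    (show (f' ≫ g) ⁻¹ᵁ U = (g' ≫ f) ⁻¹ᵁ U by rw [w]).le
  have hφ0 : (show Γ(L', f' ⁻¹ᵁ (g ⁻¹ᵁ U)) from φ0.app U b) =
      mres L' hU (show Γ(L', g' ⁻¹ᵁ (f ⁻¹ᵁ U)) from u.app (f ⁻¹ᵁ U) (φ.app U b)) := rfl
  refine (Ample.app_mres φ' hVU _).trans ?_
  refine (congrArg (mres L' (f'.preimage_mono hVU)) ((hφ' U b).trans hφ0)).trans ?_
  exact InvExt.mres_mres L' _ _ _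

/-- The ratios embed a piece into an affine space. -/
theorem isImmersion_homOfVector_rat {X Y : Scheme.{u}} {g : X ⟶ Y} {E : Y.Modules} {L : X.Modules}
    {φ : E ⟶ (Scheme.Modules.pushforward g).obj L} {U : Y.AffineZariskiSite} {e : Γ(E, U.1)}
    (hp : PieceImm g φ U e) :
    IsImmersion (homOfVector (g.resLE U.1 (Tp g φ U e) (Tp_le g φ U e))
      fun b => (Tp g φ U e).topIso.inv (rat g φ U e b)) := by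
  haveI : IsAffine U.1.toScheme := U.2
  refine isImmersion_homOfVector_of_toAff _ _ ((Tp g φ U e).topIso.inv.hom.comp (RS g φ U e).subtype) hp fun a => ?_
  refine map_mem_of_RS (g := g) (φ := φ) (Tp g φ U e).topIso.inv.hom _ (fun r => ?_) (fun b => ?_) a.2
  · refine Subring.subset_closure (Or.inl ⟨U.1.topIso.inv r, ?_⟩)
    exact appTop_resLE_topIso g (Tp_le g φ U e) r
  · exact Subring.subset_closure (Or.inr ⟨b, rfl⟩)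

/-- A piece is embedded when some of its ratios give an embedding into affine space. -/
theorem pieceImm_of_homOfVector {X Y : Scheme.{u}} {g : X ⟶ Y} {E : Y.Modules} {L : X.Modules}
    {φ : E ⟶ (Scheme.Modules.pushforward g).obj L} {U : Y.AffineZariskiSite} {e : Γ(E, U.1)} {J : Type u}
    (v : J → Γ(X, Tp g φ U e)) (hv : ∀ j, v j ∈ RS g φ U e)
    (hi : IsImmersion (homOfVector (g.resLE U.1 (Tp g φ U e) (Tp_le g φ U e))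
      fun j => (Tp g φ U e).topIso.inv (v j))) : PieceImm g φ U e := by
  haveI : IsAffine U.1.toScheme := U.2
  haveI := hi
  let R := (RS g φ U e).map (Tp g φ U e).topIso.inv.hom
  have h1 : IsImmersion (toAff R.subtype) := by
    refine isImmersion_toAff_of_homOfVector (g.resLE U.1 (Tp g φ U e) (Tp_le g φ U e))
      (fun j => (Tp g φ U e).topIso.inv (v j)) R (fun s => ?_) fun j => ⟨v j, hv j, rfl⟩
    obtain ⟨r, rfl⟩ := (ConcreteCategory.bijective_of_isIso U.1.topIso.inv).2 s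
    exact ⟨_, base_mem_RS g φ U e r, (appTop_resLE_topIso g (Tp_le g φ U e) r).symm⟩
  refine isImmersion_toAff_of_range_le _ _ ?_ h1
  rintro _ ⟨⟨_, a, ha, rfl⟩, rfl⟩
  exact ⟨⟨a, ha⟩, rfl⟩

variable {S X₁ X₂ Y₁ Y₂ P Q : Scheme.{u}}

/-- The pieces of two maps give pieces of their product. -/
theorem exists_pieces_fibreProd {y₁ : Y₁ ⟶ S} {y₂ : Y₂ ⟶ S} {f₁ : X₁ ⟶ Y₁} {f₂ : X₂ ⟶ Y₂} {p₁ : P ⟶ X₁}
    {p₂ : P ⟶ X₂} (hP : IsPullback p₁ p₂ (f₁ ≫ y₁) (f₂ ≫ y₂)) {q₁ : Q ⟶ Y₁} {q₂ : Q ⟶ Y₂}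
    (hQ : q₁ ≫ y₁ = q₂ ≫ y₂) {h : P ⟶ Q} (hh₁ : h ≫ q₁ = p₁ ≫ f₁) (hh₂ : h ≫ q₂ = p₂ ≫ f₂)
    {L₁ : X₁.Modules} (hL₁ : PicF.IsInvertible L₁) {E₁ : Y₁.Modules}
    (φ₁ : E₁ ⟶ (Scheme.Modules.pushforward f₁).obj L₁) (hp₁ : ∀ x, ∃ (U : Y₁.AffineZariskiSite) (e : Γ(E₁, U.1)), x ∈ Tp f₁ φ₁ U e ∧ PieceImm f₁ φ₁ U e)
    {L₂ : X₂.Modules} (hL₂ : PicF.IsInvertible L₂) {E₂ : Y₂.Modules}
    (φ₂ : E₂ ⟶ (Scheme.Modules.pushforward f₂).obj L₂) (hp₂ : ∀ x, ∃ (U : Y₂.AffineZariskiSite) (e : Γ(E₂, U.1)), x ∈ Tp f₂ φ₂ U e ∧ PieceImm f₂ φ₂ U e) :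
    ∃ φ : CohB1.tensorMod ((Scheme.Modules.pullback q₁).obj E₁) ((Scheme.Modules.pullback q₂).obj E₂) ⟶
        (Scheme.Modules.pushforward h).obj
          (CohB1.tensorMod ((Scheme.Modules.pullback p₁).obj L₁) ((Scheme.Modules.pullback p₂).obj L₂)),
      ∀ x, ∃ (U : Q.AffineZariskiSite) (e : Γ(CohB1.tensorMod ((Scheme.Modules.pullback q₁).obj E₁) ((Scheme.Modules.pullback q₂).obj E₂), U.1)), x ∈ Tp h φ U e ∧ PieceImm h φ U e := by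
  have hL₁' := Ample.isInvertible_pullback p₁ hL₁
  have hL₂' := Ample.isInvertible_pullback p₂ hL₂
  obtain ⟨φ₁', hφ₁⟩ := exists_pullMap hh₁.symm φ₁
  obtain ⟨φ₂', hφ₂⟩ := exists_pullMap hh₂.symm φ₂
  let B := secPairing h φ₁' φ₂'
  refine ⟨B.hom, fun x => ?_⟩
  obtain ⟨U₁, e₁, hx₁, hpi₁⟩ := hp₁ (p₁ x)
  obtain ⟨U₂, e₂, hx₂, hpi₂⟩ := hp₂ (p₂ x)
  have hpre₁ : h ⁻¹ᵁ (q₁ ⁻¹ᵁ U₁.1) = p₁ ⁻¹ᵁ (f₁ ⁻¹ᵁ U₁.1) :=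
    show (h ≫ q₁) ⁻¹ᵁ U₁.1 = (p₁ ≫ f₁) ⁻¹ᵁ U₁.1 by rw [hh₁]
  have hpre₂ : h ⁻¹ᵁ (q₂ ⁻¹ᵁ U₂.1) = p₂ ⁻¹ᵁ (f₂ ⁻¹ᵁ U₂.1) :=
    show (h ≫ q₂) ⁻¹ᵁ U₂.1 = (p₂ ≫ f₂) ⁻¹ᵁ U₂.1 by rw [hh₂]
  obtain ⟨V, hV, hxV, hVle⟩ := exists_isAffineOpen_mem_and_subset
    (show h x ∈ q₁ ⁻¹ᵁ U₁.1 ⊓ q₂ ⁻¹ᵁ U₂.1 from
      ⟨hpre₁.ge (Tp_le f₁ φ₁ U₁ e₁ hx₁), hpre₂.ge (Tp_le f₂ φ₂ U₂ e₂ hx₂)⟩)
  have hV₁ : V ≤ q₁ ⁻¹ᵁ U₁.1 := fun y hy => (hVle hy).1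
  have hV₂ : V ≤ q₂ ⁻¹ᵁ U₂.1 := fun y hy => (hVle hy).2
  have hle₁ : h ⁻¹ᵁ V ≤ p₁ ⁻¹ᵁ (f₁ ⁻¹ᵁ U₁.1) := (h.preimage_mono hV₁).trans hpre₁.le
  have hle₂ : h ⁻¹ᵁ V ≤ p₂ ⁻¹ᵁ (f₂ ⁻¹ᵁ U₂.1) := (h.preimage_mono hV₂).trans hpre₂.le
  let Vz : Q.AffineZariskiSite := ⟨V, hV⟩
  let u₁ := (Scheme.Modules.pullbackPushforwardAdjunction p₁).unit.app L₁
  let u₂ := (Scheme.Modules.pullbackPushforwardAdjunction p₂).unit.app L₂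
  let n₁ : Γ(E₁, U₁.1) → Γ((Scheme.Modules.pullback q₁).obj E₁, V) := fun b =>
    mres _ hV₁ (((Scheme.Modules.pullbackPushforwardAdjunction q₁).unit.app E₁).app U₁.1 b)
  let n₂ : Γ(E₂, U₂.1) → Γ((Scheme.Modules.pullback q₂).obj E₂, V) := fun b =>
    mres _ hV₂ (((Scheme.Modules.pullbackPushforwardAdjunction q₂).unit.app E₂).app U₂.1 b)
  let s₁ : Γ(E₁, U₁.1) → Γ((Scheme.Modules.pullback p₁).obj L₁, h ⁻¹ᵁ V) := fun b =>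
    mres _ hle₁ (u₁.app (f₁ ⁻¹ᵁ U₁.1) (φ₁.app U₁.1 b))
  let s₂ : Γ(E₂, U₂.1) → Γ((Scheme.Modules.pullback p₂).obj L₂, h ⁻¹ᵁ V) := fun b =>
    mres _ hle₂ (u₂.app (f₂ ⁻¹ᵁ U₂.1) (φ₂.app U₂.1 b))
  let e'' := tm (n₁ e₁) (n₂ e₂)
  have hb : ∀ (b : Γ(E₁, U₁.1)) (b' : Γ(E₂, U₂.1)),
      (show Γ(CohB1.tensorMod ((Scheme.Modules.pullback p₁).obj L₁) ((Scheme.Modules.pullback p₂).obj L₂), h ⁻¹ᵁ V)
        from B.hom.app V (tm (n₁ b) (n₂ b'))) = tm (s₁ b) (s₂ b') := fun b b' =>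
    (B.hom_tmul V (n₁ b) (n₂ b')).trans (congrArg₂ tm (hφ₁ U₁.1 V hV₁ hle₁ b) (hφ₂ U₂.1 V hV₂ hle₂ b'))
  let T₁ := Tp f₁ φ₁ U₁ e₁
  let T₂ := Tp f₂ φ₂ U₂ e₂
  let T := Tp h B.hom Vz e''
  have hT : T = p₁ ⁻¹ᵁ T₁ ⊓ p₂ ⁻¹ᵁ T₂ ⊓ h ⁻¹ᵁ V := by
    ext y
    show y ∈ genOpen _ _ ↔ (p₁ y ∈ genOpen L₁ _ ∧ p₂ y ∈ genOpen L₂ _) ∧ h y ∈ V
    rw [mem_genOpen, mem_genOpen, mem_genOpen]
    show GenAt _ (show Γ(CohB1.tensorMod ((Scheme.Modules.pullback p₁).obj L₁) ((Scheme.Modules.pullback p₂).obj L₂),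
      h ⁻¹ᵁ V) from B.hom.app V (tm (n₁ e₁) (n₂ e₂))) y ↔ _
    rw [hb, genAt_tm hL₁' hL₂', genAt_mres, genAt_mres, genAt_unit_iff p₁ hL₁, genAt_unit_iff p₂ hL₂]
    exact ⟨fun a => ⟨⟨a.1.2, a.2.2⟩, a.1.1⟩, fun a => ⟨⟨a.2, a.1.1⟩, ⟨a.2, a.1.2⟩⟩⟩
  have hT₁ : T ≤ p₁ ⁻¹ᵁ T₁ := hT.le.trans (inf_le_left.trans inf_le_left)
  have hT₂ : T ≤ p₂ ⁻¹ᵁ T₂ := hT.le.trans (inf_le_left.trans inf_le_right)
  have hTV : T ≤ h ⁻¹ᵁ V := hT.le.trans inf_le_right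
  refine ⟨Vz, e'', hT.ge ⟨⟨hx₁, hx₂⟩, hxV⟩, ?_⟩
  have hg₁ : ∀ b, mres ((Scheme.Modules.pullback p₁).obj L₁) (Tp_le h B.hom Vz e'') (s₁ b) =
      mres ((Scheme.Modules.pullback p₁).obj L₁) hT₁
        (show Γ((Scheme.Modules.pullback p₁).obj L₁, p₁ ⁻¹ᵁ T₁) from u₁.app T₁ (gp f₁ φ₁ U₁ e₁ b)) := fun b => by
    refine ((InvExt.mres_mres _ _ _ _).trans ?_).trans
      (congrArg (mres _ hT₁) (Ample.app_mres u₁ (Tp_le f₁ φ₁ U₁ e₁) (φ₁.app U₁.1 b))).symm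
    exact (InvExt.mres_mres _ _ _ _).symm
  have hg₂ : ∀ b, mres ((Scheme.Modules.pullback p₂).obj L₂) (Tp_le h B.hom Vz e'') (s₂ b) =
      mres ((Scheme.Modules.pullback p₂).obj L₂) hT₂
        (show Γ((Scheme.Modules.pullback p₂).obj L₂, p₂ ⁻¹ᵁ T₂) from u₂.app T₂ (gp f₂ φ₂ U₂ e₂ b)) := fun b => by
    refine ((InvExt.mres_mres _ _ _ _).trans ?_).trans
      (congrArg (mres _ hT₂) (Ample.app_mres u₂ (Tp_le f₂ φ₂ U₂ e₂) (φ₂.app U₂.1 b))).symm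
    exact (InvExt.mres_mres _ _ _ _).symm
  have hr₁ : ∀ b, rat h B.hom Vz e'' (tm (n₁ b) (n₂ e₂)) = (p₁.appLE T₁ T hT₁).hom (rat f₁ φ₁ U₁ e₁ b) := fun b => by
    refine rat_eq ?_
    show mres _ (Tp_le h B.hom Vz e'') (show Γ(CohB1.tensorMod ((Scheme.Modules.pullback p₁).obj L₁)
      ((Scheme.Modules.pullback p₂).obj L₂), h ⁻¹ᵁ V) from B.hom.app V _) =
      _ • mres _ (Tp_le h B.hom Vz e'') (show Γ(CohB1.tensorMod ((Scheme.Modules.pullback p₁).obj L₁)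
      ((Scheme.Modules.pullback p₂).obj L₂), h ⁻¹ᵁ V) from B.hom.app V _)
    rw [hb, hb, mres_tm, mres_tm, ← tm_smul_left]
    refine congrArg (fun s => tm s _) ?_
    rw [hg₁, hg₁, rat_spec f₁ φ₁ U₁ e₁ b]
    refine (congrArg (mres _ hT₁) (Ample.app_smul u₁ (rat f₁ φ₁ U₁ e₁ b) _)).trans ?_
    exact InvExt.mres_smul _ hT₁ _ _
  have hr₂ : ∀ b, rat h B.hom Vz e'' (tm (n₁ e₁) (n₂ b)) = (p₂.appLE T₂ T hT₂).hom (rat f₂ φ₂ U₂ e₂ b) := fun b => by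
    refine rat_eq ?_
    show mres _ (Tp_le h B.hom Vz e'') (show Γ(CohB1.tensorMod ((Scheme.Modules.pullback p₁).obj L₁)
      ((Scheme.Modules.pullback p₂).obj L₂), h ⁻¹ᵁ V) from B.hom.app V _) =
      _ • mres _ (Tp_le h B.hom Vz e'') (show Γ(CohB1.tensorMod ((Scheme.Modules.pullback p₁).obj L₁)
      ((Scheme.Modules.pullback p₂).obj L₂), h ⁻¹ᵁ V) from B.hom.app V _)
    rw [hb, hb, mres_tm, mres_tm, ← tm_smul_right]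
    refine congrArg (tm _) ?_
    rw [hg₂, hg₂, rat_spec f₂ φ₂ U₂ e₂ b]
    refine (congrArg (mres _ hT₂) (Ample.app_smul u₂ (rat f₂ φ₂ U₂ e₂ b) _)).trans ?_
    exact InvExt.mres_smul _ hT₂ _ _
  let v : Γ(E₁, U₁.1) ⊕ Γ(E₂, U₂.1) → Γ(P, T) :=
    Sum.elim (fun b => (p₁.appLE T₁ T hT₁).hom (rat f₁ φ₁ U₁ e₁ b))
      (fun b => (p₂.appLE T₂ T hT₂).hom (rat f₂ φ₂ U₂ e₂ b))
  refine pieceImm_of_homOfVector v ?_ ?_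
  · rintro (b | b)
    · show (p₁.appLE T₁ T hT₁).hom _ ∈ _
      rw [← hr₁ b]
      exact rat_mem_RS h B.hom Vz e'' _
    · show (p₂.appLE T₂ T hT₂).hom _ ∈ _
      rw [← hr₂ b]
      exact rat_mem_RS h B.hom Vz e'' _
  -- the embedding
  let a₁ : 𝔸(Γ(E₁, U₁.1) ⊕ Γ(E₂, U₂.1); V.toScheme) ⟶ 𝔸(Γ(E₁, U₁.1); U₁.1.toScheme) :=
    homOfVector (𝔸(Γ(E₁, U₁.1) ⊕ Γ(E₂, U₂.1); V.toScheme) ↘ V.toScheme ≫ q₁.resLE U₁.1 V hV₁) fun b => coord _ (Sum.inl b)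
  let a₂ : 𝔸(Γ(E₁, U₁.1) ⊕ Γ(E₂, U₂.1); V.toScheme) ⟶ 𝔸(Γ(E₂, U₂.1); U₂.1.toScheme) :=
    homOfVector (𝔸(Γ(E₁, U₁.1) ⊕ Γ(E₂, U₂.1); V.toScheme) ↘ V.toScheme ≫ q₂.resLE U₂.1 V hV₂) fun b => coord _ (Sum.inr b)
  let π₁ : 𝔸(Γ(E₁, U₁.1); U₁.1.toScheme) ⟶ S := 𝔸(Γ(E₁, U₁.1); U₁.1.toScheme) ↘ U₁.1.toScheme ≫ U₁.1.ι ≫ y₁
  let π₂ : 𝔸(Γ(E₂, U₂.1); U₂.1.toScheme) ⟶ S := 𝔸(Γ(E₂, U₂.1); U₂.1.toScheme) ↘ U₂.1.toScheme ≫ U₂.1.ι ≫ y₂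
  have ha : a₁ ≫ π₁ = a₂ ≫ π₂ := by
    simp only [a₁, a₂, π₁, π₂, homOfVector_over_assoc, Category.assoc, Scheme.Hom.resLE_comp_ι_assoc, hQ]
  let i₁ := homOfVector (f₁.resLE U₁.1 T₁ (Tp_le f₁ φ₁ U₁ e₁)) fun b => T₁.topIso.inv (rat f₁ φ₁ U₁ e₁ b)
  let i₂ := homOfVector (f₂.resLE U₂.1 T₂ (Tp_le f₂ φ₂ U₂ e₂)) fun b => T₂.topIso.inv (rat f₂ φ₂ U₂ e₂ b)
  haveI : IsImmersion i₁ := isImmersion_homOfVector_rat hpi₁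
  haveI : IsImmersion i₂ := isImmersion_homOfVector_rat hpi₂
  have w₁ : T₁.ι ≫ f₁ ≫ y₁ = i₁ ≫ π₁ := by
    simp only [i₁, π₁, homOfVector_over_assoc, Scheme.Hom.resLE_comp_ι_assoc]
  have w₂ : T₂.ι ≫ f₂ ≫ y₂ = i₂ ≫ π₂ := by
    simp only [i₂, π₂, homOfVector_over_assoc, Scheme.Hom.resLE_comp_ι_assoc]
  have hm : p₁.resLE T₁ T hT₁ ≫ T₁.ι ≫ f₁ ≫ y₁ = p₂.resLE T₂ T hT₂ ≫ T₂.ι ≫ f₂ ≫ y₂ := by
    rw [Scheme.Hom.resLE_comp_ι_assoc, Scheme.Hom.resLE_comp_ι_assoc, hP.w]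
  let m := pullback.lift (p₁.resLE T₁ T hT₁) (p₂.resLE T₂ T hT₂) hm
  haveI hmi : IsImmersion m := by
    let M := pullback.map (T₁.ι ≫ f₁ ≫ y₁) (T₂.ι ≫ f₂ ≫ y₂) (f₁ ≫ y₁) (f₂ ≫ y₂) T₁.ι T₂.ι (𝟙 _)
      (Category.comp_id _) (Category.comp_id _)
    haveI : IsImmersion (m ≫ M) := by
      have : m ≫ M = T.ι ≫ hP.isoPullback.hom := by apply pullback.hom_ext <;> simp [m, M]
      rw [this]
      infer_instance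
    exact IsImmersion.of_comp m M
  let M' := pullback.map (T₁.ι ≫ f₁ ≫ y₁) (T₂.ι ≫ f₂ ≫ y₂) π₁ π₂ i₁ i₂ (𝟙 _)
    ((Category.comp_id _).trans w₁) ((Category.comp_id _).trans w₂)
  haveI : IsImmersion M' := MorphismProperty.pullbackMap (P := @IsImmersion) inferInstance inferInstance w₁ w₂
  let c := homOfVector (h.resLE V T hTV) fun j => T.topIso.inv (v j)
  haveI : IsImmersion (c ≫ pullback.lift a₁ a₂ ha) := by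
    have : c ≫ pullback.lift a₁ a₂ ha = m ≫ M' := by
      apply pullback.hom_ext
      · simp only [m, M', Category.assoc, pullback.lift_fst, pullback.lift_fst_assoc]
        refine AffineSpace.hom_ext ?_ fun b => ?_
        · simp only [c, a₁, i₁, Category.assoc, homOfVector_over, homOfVector_over_assoc, Scheme.Hom.resLE_comp_resLE,
            hh₁]
        · simp only [c, a₁, i₁, Scheme.Hom.comp_appTop, CommRingCat.comp_apply, homOfVector_appTop_coord]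
          exact (appTop_resLE_topIso p₁ hT₁ (rat f₁ φ₁ U₁ e₁ b)).symm
      · simp only [m, M', Category.assoc, pullback.lift_snd, pullback.lift_snd_assoc]
        refine AffineSpace.hom_ext ?_ fun b => ?_
        · simp only [c, a₂, i₂, Category.assoc, homOfVector_over, homOfVector_over_assoc, Scheme.Hom.resLE_comp_resLE,
            hh₂]
        · simp only [c, a₂, i₂, Scheme.Hom.comp_appTop, CommRingCat.comp_apply, homOfVector_appTop_coord]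
          exact (appTop_resLE_topIso p₂ hT₂ (rat f₂ φ₂ U₂ e₂ b)).symm
    rw [this]
    infer_instance
  exact IsImmersion.of_comp c (pullback.lift a₁ a₂ ha)

theorem isRelVeryAmple_fibreProd {y₁ : Y₁ ⟶ S} {y₂ : Y₂ ⟶ S} {f₁ : X₁ ⟶ Y₁} {f₂ : X₂ ⟶ Y₂} {p₁ : P ⟶ X₁}
    {p₂ : P ⟶ X₂} (hP : IsPullback p₁ p₂ (f₁ ≫ y₁) (f₂ ≫ y₂)) {q₁ : Q ⟶ Y₁} {q₂ : Q ⟶ Y₂}
    (hQ : q₁ ≫ y₁ = q₂ ≫ y₂) {h : P ⟶ Q} (hh₁ : h ≫ q₁ = p₁ ≫ f₁) (hh₂ : h ≫ q₂ = p₂ ≫ f₂)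
    {L₁ : X₁.Modules} (hL₁ : PicF.IsInvertible L₁) (hva₁ : RelProj.IsRelVeryAmple f₁ L₁)
    {L₂ : X₂.Modules} (hL₂ : PicF.IsInvertible L₂) (hva₂ : RelProj.IsRelVeryAmple f₂ L₂) :
    RelProj.IsRelVeryAmple h
      (CohB1.tensorMod ((Scheme.Modules.pullback p₁).obj L₁) ((Scheme.Modules.pullback p₂).obj L₂)) := by
  obtain ⟨E₁, φ₁, hE₁, hp₁⟩ := isRelVeryAmple_iff.mp hva₁
  obtain ⟨E₂, φ₂, hE₂, hp₂⟩ := isRelVeryAmple_iff.mp hva₂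
  obtain ⟨φ, hp⟩ := exists_pieces_fibreProd hP hQ hh₁ hh₂ hL₁ φ₁ hp₁ hL₂ φ₂ hp₂
  exact isRelVeryAmple_iff.mpr ⟨_, φ, isQCoh_tensor (isQCoh_pullback q₁ hE₁) (isQCoh_pullback q₂ hE₂), hp⟩

end GrothLib.VA
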