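import Groth.Agent.Lib.RelProjK.Tensor
import Groth.Agent.Lib.RelProjK.OpenMap

/-!
# Values of pulled back functions on a chart
-/

set_option autoImplicit false
set_option backward.isDefEq.respectTransparency false

universe u

open CategoryTheory CategoryTheory.Limits AlgebraicGeometry TopologicalSpace Opposite HomogeneousLocalization
open scoped HomogeneousIdeal
open GrothLib.RelProjK (dg em)

noncomputable section

namespace GrothLib.VA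

theorem locMap_algebraMap {A B σ τ : Type u} [CommRing A] [CommRing B] [SetLike σ A] [AddSubgroupClass σ A]
    [SetLike τ B] [AddSubgroupClass τ B] {𝒜 : ℕ → σ} {ℬ : ℕ → τ} [GradedRing 𝒜] [GradedRing ℬ] (ψ : 𝒜 →+*ᵍ ℬ)
    (hψ : ℬ₊ ≤ (𝒜₊).map ψ) (y : ProjectiveSpectrum ℬ) (a : A) :
    GrTwist.locMap ψ hψ y (algebraMap A (GrTwist.Loc 𝒜 (ProjectiveSpectrum.comap ψ hψ y)) a) =
      algebraMap B (GrTwist.Loc ℬ y) (ψ a) :=
  Localization.localRingHom_to_map _ _ _ _ a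

theorem app_res_top {A B : Scheme.{u}} (φ : A ⟶ B) (V : B.Opens) (t : Γ(B, ⊤)) (i : V ≤ ⊤) :
    φ.app V ((B.presheaf.map (homOfLE i).op).hom t) =
      (A.presheaf.map (homOfLE (le_top : φ ⁻¹ᵁ V ≤ ⊤)).op).hom (φ.appTop t) := by
  rw [← CommRingCat.comp_apply, Scheme.Hom.naturality]
  rfl

theorem app_fromSpec {X B : Scheme.{u}} {V : B.Opens} (hV : IsAffineOpen V) {S : CommRingCat.{u}}
    (π : X ⟶ Spec S) (φ : Γ(B, V) ⟶ S) (r : Γ(B, V)) :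
    (π ≫ Spec.map φ ≫ hV.fromSpec).app V r =
      (X.presheaf.map (homOfLE (le_top : (π ≫ Spec.map φ ≫ hV.fromSpec) ⁻¹ᵁ V ≤ ⊤)).op).hom
        (π.appTop ((Scheme.ΓSpecIso S).inv (φ r))) := by
  have h0 : hV.fromSpec.app V r = ((Spec Γ(B, V)).presheaf.map (homOfLE (le_top : hV.fromSpec ⁻¹ᵁ V ≤ ⊤)).op).hom
      ((Scheme.ΓSpecIso Γ(B, V)).inv r) := by
    rw [hV.fromSpec_app_self]
    rfl
  have h1 : (Spec.map φ).appTop ((Scheme.ΓSpecIso Γ(B, V)).inv r) = (Scheme.ΓSpecIso S).inv (φ r) := by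
    rw [← CommRingCat.comp_apply, ← CommRingCat.comp_apply, Scheme.ΓSpecIso_inv_naturality]
  show π.app _ ((Spec.map φ).app _ (hV.fromSpec.app V r)) = _
  rw [h0, app_res_top, h1, app_res_top]
  rfl

variable {A σ : Type u} [CommRing A] [SetLike σ A] [AddSubgroupClass σ A] (𝒜 : ℕ → σ) [GradedRing 𝒜]

/-- A constant, as a global function on `Proj`. -/
def constSec : 𝒜 0 →+* Γ(Proj 𝒜, ⊤) :=
  (Proj.toSpecZero 𝒜).appTop.hom.comp (Scheme.ΓSpecIso (CommRingCat.of (𝒜 0))).inv.hom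

theorem constSec_res {m : ℕ} {f : A} (hf : f ∈ 𝒜 m) (hm : 0 < m) (a : 𝒜 0) :
    ((Proj 𝒜).presheaf.map (homOfLE le_top).op).hom (constSec 𝒜 a) =
      Proj.awayToSection 𝒜 f (fromZeroRingHom 𝒜 _ a) := by
  have h1 : (Proj.basicOpen 𝒜 f).ι ≫ Proj.toSpecZero 𝒜 =
      Proj.basicOpenToSpec 𝒜 f ≫ Spec.map (CommRingCat.ofHom (fromZeroRingHom 𝒜 (Submonoid.powers f))) := by
    rw [← Proj.awayι_toSpecZero 𝒜 f hf hm, Proj.awayι, ← Proj.basicOpenIsoSpec_hom 𝒜 f hf hm]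
    simp
  have h2 := congrArg (fun k => k.appTop (((Scheme.ΓSpecIso (CommRingCat.of (𝒜 0))).inv) a)) h1
  simp only [Scheme.Hom.comp_appTop, CommRingCat.comp_apply] at h2
  have h3 : (Spec.map (CommRingCat.ofHom (fromZeroRingHom 𝒜 (Submonoid.powers f)))).appTop
      ((Scheme.ΓSpecIso (CommRingCat.of (𝒜 0))).inv a) =
      (Scheme.ΓSpecIso _).inv (fromZeroRingHom 𝒜 (Submonoid.powers f) a) := by
    rw [← CommRingCat.comp_apply, ← Scheme.ΓSpecIso_inv_naturality]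
    rfl
  have h3' := congrArg (fun t => (Proj.basicOpenToSpec 𝒜 f).appTop t) h3
  refine (ConcreteCategory.bijective_of_isIso (Proj.basicOpen 𝒜 f).topIso.inv).1 ?_
  refine Eq.trans ?_ ((h2.trans h3').trans ?_)
  · rw [Scheme.Opens.ι_appTop]
    show ((Proj 𝒜).presheaf.map _ ≫ (Proj 𝒜).presheaf.map _).hom (constSec 𝒜 a) =
      ((Proj 𝒜).presheaf.map _).hom (constSec 𝒜 a)
    rw [← (Proj 𝒜).presheaf.map_comp]
    rfl
  · show (Proj.basicOpenToSpec 𝒜 f).app ⊤ _ = _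
    rw [Proj.basicOpenToSpec_app_top]
    simp only [CommRingCat.comp_apply]
    rw [Iso.inv_hom_id_apply]
    rfl

theorem constSec_val (a : 𝒜 0) (y : ProjectiveSpectrum 𝒜) :
    (((show GrTwist.O (𝒜 := 𝒜) (op ⊤) from constSec 𝒜 a).1 ⟨y, trivial⟩)).val =
      algebraMap A (GrTwist.Loc 𝒜 y) (a : A) := by
  obtain ⟨m, f, hf, hm, z, hz⟩ := RelProjK.exists_awayι (𝒜 := 𝒜) y
  have hy : y ∈ Proj.basicOpen 𝒜 f := by
    rw [← Proj.opensRange_awayι 𝒜 f hf hm]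
    exact ⟨z, hz⟩
  have h := congrArg (fun t : GrTwist.O (𝒜 := 𝒜) (op (Proj.basicOpen 𝒜 f)) => (t.1 ⟨y, hy⟩).val)
    (constSec_res 𝒜 hf hm a)
  refine h.trans ?_
  refine (ProjectiveSpectrum.Proj.awayToSection_apply 𝒜 f _ ⟨y, hy⟩).trans ?_
  simp only [fromZeroRingHom, RingHom.coe_mk, MonoidHom.coe_mk, OneHom.coe_mk, HomogeneousLocalization.val_mk,
    Localization.mk_eq_mk', IsLocalization.map_mk', RingHom.id_apply]
  rw [IsLocalization.mk'_eq_iff_eq_mul]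
  simp

variable {Y P : Scheme.{u}} {𝒮 : RelProj.QCGrAlg Y} {p : P ⟶ Y}
  {chart : ∀ (U : Y.Opens) (hU : IsAffineOpen U), (((p ⁻¹ᵁ U : P.Opens) : Scheme.{u}) ≅ Proj (𝒮.deg U hU))}

theorem em_comp (hP : RelProj.IsRelProj 𝒮 p chart) (U : Y.AffineZariskiSite) :
    em p chart U ≫ p = Proj.toSpecZero (dg 𝒮 U) ≫ Spec.map (𝒮.strZero U.1 U.2) ≫ U.2.fromSpec := by
  show ((chart U.1 U.2).inv ≫ (p ⁻¹ᵁ U.1).ι) ≫ p = _
  rw [Category.assoc, ← hP.chart_over U.1 U.2, Iso.inv_hom_id_assoc]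

/-- The value of a function pulled back from the base. -/
theorem val_app_str (hP : RelProj.IsRelProj 𝒮 p chart) (U : Y.AffineZariskiSite) (r : Γ(Y, U.1))
    (y : ProjectiveSpectrum (dg 𝒮 U)) (hy : em p chart U y ∈ p ⁻¹ᵁ U.1) :
    ((show GrTwist.O (𝒜 := dg 𝒮 U) (op (em p chart U ⁻¹ᵁ (p ⁻¹ᵁ U.1)))
        from (em p chart U).app _ (p.app U.1 r)).1 ⟨y, hy⟩).val =
      algebraMap _ (GrTwist.Loc (dg 𝒮 U) y) ((𝒮.str.app (op U.1)).hom r) := by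
  have key : ∀ (k : Proj (dg 𝒮 U) ⟶ Y)
      (_ : k = Proj.toSpecZero (dg 𝒮 U) ≫ Spec.map (𝒮.strZero U.1 U.2) ≫ U.2.fromSpec) (hk : y ∈ k ⁻¹ᵁ U.1),
      ((show GrTwist.O (𝒜 := dg 𝒮 U) (op (k ⁻¹ᵁ U.1)) from k.app U.1 r).1 ⟨y, hk⟩).val =
        algebraMap _ (GrTwist.Loc (dg 𝒮 U) y) ((𝒮.str.app (op U.1)).hom r) := by
    intro k ek hk
    subst ek
    have e : (Proj.toSpecZero (dg 𝒮 U) ≫ Spec.map (𝒮.strZero U.1 U.2) ≫ U.2.fromSpec).app U.1 r =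
        ((Proj (dg 𝒮 U)).presheaf.map (homOfLE le_top).op).hom
          (constSec (dg 𝒮 U) ((𝒮.strZero U.1 U.2).hom r)) := by
      exact app_fromSpec U.2 (Proj.toSpecZero (dg 𝒮 U)) (𝒮.strZero U.1 U.2) r
    rw [e]
    exact constSec_val (dg 𝒮 U) ((𝒮.strZero U.1 U.2).hom r) y
  exact key (em p chart U ≫ p) (em_comp hP U) hy

end GrothLib.VA
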