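import Groth.Agent.Lib.VA.AffImm
import Groth.Agent.Lib.VA.BaseChange
import Groth.Agent.Lib.Ample.Immersion

/-!
# Immersions into projective space from loci with embedding rings of ratios
-/

universe u

set_option autoImplicit false
set_option linter.style.haveILetI false
set_option backward.isDefEq.respectTransparency false

open AlgebraicGeometry CategoryTheory CategoryTheory.Limits TopologicalSpace Opposite
open GrothLib.InvExt (mres IsGen)

noncomputable section

namespace GrothLib.VA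

open GrothLib.Ample

/-- Very ampleness relative to some `P^N` over an affine base from sections whose ratio rings embed their loci
(the loci need not be affine). -/
theorem isRelVeryAmplePn_of_immersion_loci {X Y : Scheme.{u}} [IsAffine Y] (f : X ⟶ Y) (c : Cocycle X)
    {L : X.Modules} (e : L ≅ c.twist 1) {N : ℕ} (a : Fin (N + 1) → c.sect 1 ⊤) (J : Set (Fin (N + 1)))
    (hcov : ∀ x : X, ∃ j ∈ J, x ∈ c.locus (a j))
    (himm : ∀ j ∈ J, IsImmersion (toAff ((c.locus (a j)).topIso.inv.hom.comp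
      (Subring.closure (Set.range (f.appLE ⊤ (c.locus (a j)) le_top).hom ∪
        {g | ∃ k, g • c.sectRes (le_top : c.locus (a j) ≤ ⊤) (a j) = c.sectRes le_top (a k)})).subtype))) :
    RelAmple.IsRelVeryAmplePn f L := by
  let s : Fin (N + 1) → ProjUP.Γm L := fun k => e.inv.app ⊤ (a k)
  have hsec : ∀ k, ProjMap.sec c e s k = a k := fun k =>
    congrArg (fun φ : c.twist 1 ⟶ c.twist 1 => φ.app ⊤ (a k)) e.inv_hom_id
  have hs : ⨆ i, c.locus (ProjMap.sec c e s i) = ⊤ := eq_top_iff.mpr fun x _ => by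
    obtain ⟨j, -, hx⟩ := hcov x
    exact Opens.mem_iSup.mpr ⟨j, by rw [hsec]; exact hx⟩
  let q : X ⟶ Spec (CommRingCat.of (ULift.{u} ℤ)) := specULiftZIsTerminal.from X
  let D := ProjMap.dataOfSections c e s hs q
  obtain ⟨τ, -⟩ := ProjMap.exists_iso_pullback_map c e s hs q
  let i : X ⟶ CohB1.ProjSpaceOver N Y := pullback.lift D.map f (specULiftZIsTerminal.hom_ext _ _)
  let p1 : CohB1.ProjSpaceOver N Y ⟶ CohB1.ProjSpace N (ULift.{u} ℤ) := pullback.fst _ _
  have hfst : i ≫ p1 = D.map := pullback.lift_fst _ _ _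
  have hsnd : i ≫ CohB1.ProjSpaceOver.toBase N Y = f := pullback.lift_snd _ _ _
  refine ⟨N, i, ?_, hsnd, ⟨τ.symm ≪≫ (Scheme.Modules.pullbackCongr hfst.symm).app _ ≪≫
    ((Scheme.Modules.pullbackComp i p1).app _).symm⟩⟩
  let P := CohB1.polyGrading N (ULift.{u} ℤ)
  let Dp : Fin (N + 1) → (CohB1.ProjSpace N (ULift.{u} ℤ)).Opens := fun k => Proj.basicOpen P (MvPolynomial.X k)
  let O : J → (CohB1.ProjSpaceOver N Y).Opens := fun j =>
    p1 ⁻¹ᵁ Dp j.1 ⊓ CohB1.ProjSpaceOver.toBase N Y ⁻¹ᵁ ⊤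
  have hOaff : ∀ j, IsAffineOpen (O j) := fun j =>
    isAffineOpen_inf_preimage _ _ (Proj.isAffineOpen_basicOpen P _ (ProjMap.X_mem j.1) one_pos) (isAffineOpen_top Y)
  have hU : ∀ k, D.U k = c.locus (a k) := fun k => congrArg c.locus (hsec k)
  have hpre : ∀ j : J, i ⁻¹ᵁ O j = c.locus (a j.1) := fun j => by
    rw [Scheme.Hom.preimage_inf, ← Scheme.Hom.comp_preimage, ← Scheme.Hom.comp_preimage, hfst, hsnd]
    exact (congrArg (· ⊓ f ⁻¹ᵁ ⊤) (D.map_preimage j.1)).trans ((inf_eq_left.mpr le_top).trans (hU j.1))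
  haveI : MorphismProperty.RespectsRight @IsImmersion.{u} @IsOpenImmersion.{u} :=
    ⟨fun i hi f hf => by haveI := hi; haveI := hf; exact inferInstance⟩
  refine IsZariskiLocalAtTarget.of_range_subset_iSup (P := @IsImmersion) O ?_ fun j => ?_
  · rintro _ ⟨x, rfl⟩
    obtain ⟨j, hj, hx⟩ := hcov x
    exact Opens.mem_iSup.mpr ⟨⟨j, hj⟩, show x ∈ i ⁻¹ᵁ O ⟨j, hj⟩ by rw [hpre]; exact hx⟩
  have hle : c.locus (a j.1) ≤ i ⁻¹ᵁ O j := (hpre j).ge
  haveI : IsAffine (O j : Scheme.{u}) := hOaff j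
  let m := i.resLE (O j) (c.locus (a j.1)) hle
  have hm : IsImmersion m := by
    haveI : IsImmersion (m ≫ (O j : Scheme.{u}).isoSpec.hom) := by
      rw [← toAff_appTop_hom]
      refine isImmersion_toAff_of_range_le _ _ ?_ (himm j.1 j.2)
      rintro _ ⟨⟨b, hb⟩, rfl⟩
      suffices hb' : b ∈ (i.appLE (O j) (c.locus (a j.1)) hle).hom.range by
        obtain ⟨y, hy⟩ := hb'
        refine ⟨(O j).topIso.inv y, ?_⟩
        rw [appTop_resLE_topIso]
        exact congrArg (c.locus (a j.1)).topIso.inv hy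
      refine (Subring.closure_le.mpr ?_) hb
      rintro g (⟨y, rfl⟩ | ⟨k, hk⟩)
      · refine ⟨((CohB1.ProjSpaceOver.toBase N Y).appLE ⊤ (O j) inf_le_right).hom y, ?_⟩
        rw [← CommRingCat.comp_apply, Scheme.Hom.appLE_comp_appLE]
        have key : ∀ (φ : X ⟶ Y) (h : c.locus (a j.1) ≤ φ ⁻¹ᵁ ⊤), φ = f →
            (φ.appLE ⊤ (c.locus (a j.1)) h).hom y = (f.appLE ⊤ (c.locus (a j.1)) le_top).hom y := by
          rintro _ h rfl; rfl
        exact key _ _ hsnd
      · refine ⟨(p1.appLE (Dp j.1) (O j) inf_le_left).hom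
          (Proj.awayToSection P (MvPolynomial.X j.1) (ProjMap.ratio j.1 k)), ?_⟩
        rw [← CommRingCat.comp_apply, Scheme.Hom.appLE_comp_appLE]
        have key : ∀ (φ : X ⟶ CohB1.ProjSpace N (ULift.{u} ℤ)) (h : c.locus (a j.1) ≤ φ ⁻¹ᵁ Dp j.1), φ = D.map →
            (φ.appLE (Dp j.1) (c.locus (a j.1)) h).hom
              (Proj.awayToSection P (MvPolynomial.X j.1) (ProjMap.ratio j.1 k)) = g := by
          rintro _ h rfl
          rw [D.map_appLE_ratio j.1 k (hU j.1).ge h]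
          refine c.smul_injective_of_le_locus (a j.1) le_rfl (Eq.trans ?_ hk.symm)
          have h0 := congrArg (c.sectRes (show c.locus (a j.1) ≤ c.locus (ProjMap.sec c e s j.1) from (hU j.1).ge))
            (c.exists_ratio (ProjMap.sec c e s j.1) (ProjMap.sec c e s k)).choose_spec.1
          rw [c.sectRes_smul, c.sectRes_sectRes, c.sectRes_sectRes] at h0
          exact (congrArg (res (hU j.1).ge (D.φ j.1 k) • ·) (congrArg (c.sectRes le_top) (hsec j.1).symm)).trans
            (h0.symm.trans (congrArg (c.sectRes le_top) (hsec k)))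
        exact key _ _ hfst
    exact IsImmersion.of_comp m (O j : Scheme.{u}).isoSpec.hom
  have h1 : IsImmersion ((i ⁻¹ᵁ O j).ι ≫ i) := by
    have key : ∀ V : X.Opens, V = c.locus (a j.1) → IsImmersion (V.ι ≫ i) := by
      rintro _ rfl
      haveI := hm
      rw [← Scheme.Hom.resLE_comp_ι i hle]
      exact inferInstanceAs (IsImmersion (m ≫ (O j).ι))
    exact key _ (hpre j)
  rw [← morphismRestrict_ι] at h1
  exact IsImmersion.of_comp _ (O j).ι

/-- The generating locus of a twist section. -/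
theorem genOpen_twist {X : Scheme.{u}} (c : Cocycle X) {n : ℕ} (a : c.sect n ⊤) :
    genOpen (c.twist n) (show Γ(c.twist n, ⊤) from a) = c.locus a := by
  ext x
  rw [SetLike.mem_coe, SetLike.mem_coe, mem_genOpen]
  obtain ⟨i, hi⟩ := c.exists_mem x
  have h0 : (⊤ : X.Opens) ⊓ c.D i ≤ c.D i := inf_le_right
  have hb := c.isGen_base n i h0
  have hc : mres (c.twist n) (inf_le_left : (⊤ : X.Opens) ⊓ c.D i ≤ ⊤) (show Γ(c.twist n, ⊤) from a) =
      a.1 i • (show Γ(c.twist n, ⊤ ⊓ c.D i) from c.base n i h0) := by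
    refine (c.mres_twist _ a).trans ?_
    refine (c.eq_smul_base i h0 (c.sectRes inf_le_left a)).trans ?_
    congr 1
    rw [c.sectRes_apply]
    exact (res_res _ _ _).trans (res_self _ _)
  rw [genAt_iff_mem_basicOpen inf_le_left hb hc ⟨trivial, hi⟩]
  rw [← c.locus_inf_D a i]
  exact ⟨fun h => h.1, fun h => ⟨h, hi⟩⟩

end GrothLib.VA
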