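import Groth.Agent.Lib.VA.CritOps
import Groth.Agent.Lib.VA.Extend
import Groth.Agent.Lib.VA.ImmLoci
import Groth.Agent.Lib.VA.Tensor
import Groth.Agent.Lib.QCoh.Affine

/-!
# Relatively very ample sheaves over an affine base embed into some projective space
-/

universe u

set_option autoImplicit false
set_option backward.isDefEq.respectTransparency false
set_option linter.style.haveILetI false

open AlgebraicGeometry CategoryTheory CategoryTheory.Limits TopologicalSpace Opposite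
open GrothLib.InvExt (mres fres IsGen)

noncomputable section

namespace GrothLib.VA

open GrothLib.Ample

variable {X S : Scheme.{u}}

/-- A piece over an affine open can be replaced by one given by a global section. -/
theorem exists_global_piece [IsAffine S] {f : X ⟶ S} {L : X.Modules} (hL : PicF.IsInvertible L) {E : S.Modules}
    (hE : Coh.IsQCoh E) (φ : E ⟶ (Scheme.Modules.pushforward f).obj L) {U : S.AffineZariskiSite}
    {e : Γ(E, U.1)} {x : X} (hx : x ∈ Tp f φ U e) (hp : PieceImm f φ U e) :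
    ∃ e₀ : Γ(E, ⊤), x ∈ Tp f φ (⟨⊤, isAffineOpen_top S⟩ : S.AffineZariskiSite) e₀ ∧
      PieceImm f φ ⟨⊤, isAffineOpen_top S⟩ e₀ := by
  haveI : E.IsQuasicoherent := hE
  obtain ⟨r, hrU, hxr⟩ :=
    (isAffineOpen_top S).exists_basicOpen_le ⟨f x, Tp_le f φ U e hx⟩ (trivial : f x ∈ (⊤ : S.Opens))
  let D : S.Opens := S.basicOpen r
  let rD : Γ(S, D) := fres S le_top r
  have hlift : ∀ b : Γ(E, U.1), ∃ (n : ℕ) (b' : Γ(E, ⊤)),
      mres E (le_top : D ≤ ⊤) b' = rD ^ n • mres E hrU b := fun b =>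
    (QCoh.smulLift_and_smulSep_of_isAffineOpen (isAffineOpen_top S) E r).1 (mres E hrU b)
  have hliftS : ∀ a : Γ(S, U.1), ∃ (n : ℕ) (a' : Γ(S, ⊤)),
      fres S (le_top : D ≤ ⊤) a' = rD ^ n * fres S hrU a := fun a => by
    haveI := (isAffineOpen_top S).isLocalization_basicOpen r
    obtain ⟨⟨a', ⟨_, n, rfl⟩⟩, h⟩ := IsLocalization.surj (Submonoid.powers r) (fres S hrU a)
    refine ⟨n, a', ?_⟩
    rw [map_pow] at h
    exact h.symm.trans (mul_comm _ _)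
  obtain ⟨k, e', he'⟩ := hlift e
  let U₀ : S.AffineZariskiSite := ⟨⊤, isAffineOpen_top S⟩
  let sec : Γ(E, ⊤) → Γ(L, f ⁻¹ᵁ ⊤) := fun b => φ.app ⊤ b
  let R₀ : Γ(X, f ⁻¹ᵁ ⊤) := f.app ⊤ r
  let e₀ : Γ(E, ⊤) := r • e'
  have hsec₀ : sec e₀ = R₀ • sec e' := Ample.app_smul φ r e'
  have hD : f ⁻¹ᵁ D = X.basicOpen R₀ := Scheme.preimage_basicOpen f r
  -- images over the basic open
  have hmap : ∀ {V : X.Opens} (hV : V ≤ f ⁻¹ᵁ D) (b : Γ(E, U.1)) (n : ℕ) (b' : Γ(E, ⊤)),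
      mres E (le_top : D ≤ ⊤) b' = rD ^ n • mres E hrU b →
      mres L (le_top : V ≤ f ⁻¹ᵁ ⊤) (sec b') = fres X (le_top : V ≤ f ⁻¹ᵁ ⊤) R₀ ^ n •
        mres L (hV.trans (f.preimage_mono hrU)) (show Γ(L, f ⁻¹ᵁ U.1) from φ.app U.1 b) := by
    intro V hV b n b' h
    have h1 : (show Γ(L, f ⁻¹ᵁ D) from φ.app D (mres E (le_top : D ≤ ⊤) b')) =
        (f.app D (rD ^ n)) • (show Γ(L, f ⁻¹ᵁ D) from φ.app D (mres E hrU b)) :=
      (congrArg (φ.app D) h).trans (Ample.app_smul φ (rD ^ n) _)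
    have h2 := congrArg (mres L hV) h1
    rw [InvExt.mres_smul, map_pow] at h2
    have h3 : fres X hV (f.app D rD) = fres X (le_top : V ≤ f ⁻¹ᵁ ⊤) R₀ := by
      show fres X hV (f.app D (fres S le_top r)) = _
      rw [app_fres, InvExt.fres_fres]
      rfl
    have h3' : fres X hV (f.app D rD ^ n) = fres X (le_top : V ≤ f ⁻¹ᵁ ⊤) R₀ ^ n :=
      (map_pow (X.presheaf.map (homOfLE hV).op).hom (f.app D rD) n).trans (congrArg (· ^ n) h3)
    rw [h3'] at h2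
    refine Eq.trans ?_ (h2.trans ?_)
    · refine Eq.trans ?_ (congrArg (mres L hV) (Ample.app_mres φ (le_top : D ≤ ⊤) b').symm)
      exact (InvExt.mres_mres _ _ _ _).symm
    · congr 1
      exact (congrArg (mres L hV) (Ample.app_mres φ hrU b)).trans (InvExt.mres_mres _ _ _ _)
  have hiff : ∀ y : X, GenAt L (sec e₀) y ↔
      f y ∈ D ∧ GenAt L (show Γ(L, f ⁻¹ᵁ U.1) from φ.app U.1 e) y := by
    intro y
    rw [hsec₀, genAt_smul_iff hL, ← hD]
    refine and_congr_right fun hy => ?_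
    have hy' : y ∈ f ⁻¹ᵁ D := hy
    have hu : y ∈ X.basicOpen ((fres X (le_top : f ⁻¹ᵁ D ≤ f ⁻¹ᵁ ⊤) R₀) ^ k) := by
      rcases Nat.eq_zero_or_pos k with hk | hk
      · rw [hk, pow_zero, Scheme.basicOpen_of_isUnit _ isUnit_one]; exact hy'
      · rw [Scheme.basicOpen_pow _ _ hk, Scheme.basicOpen_res, ← hD]; exact ⟨hy', hy'⟩
    have h := genAt_mres (le_top : f ⁻¹ᵁ D ≤ f ⁻¹ᵁ ⊤) (sec e') (x := y)
    rw [hmap le_rfl e k e' he', genAt_smul_iff hL, genAt_mres] at h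
    exact ⟨fun hg => (h.mpr ⟨hy', hg⟩).2.2, fun hg => (h.mp ⟨hu, hy', hg⟩).2⟩
  let T' := Tp f φ U₀ e₀
  have hTD : T' ≤ f ⁻¹ᵁ D := fun y hy => ((hiff y).mp (mem_genOpen.mp hy)).1
  have hTU : T' ≤ Tp f φ U e := fun y hy => mem_genOpen.mpr ((hiff y).mp (mem_genOpen.mp hy)).2
  refine ⟨e₀, mem_genOpen.mpr ((hiff x).mpr ⟨hxr, mem_genOpen.mp hx⟩), ?_⟩
  show PieceImm f φ U₀ e₀
  let R : Γ(X, T') := fres X (le_top : T' ≤ f ⁻¹ᵁ ⊤) R₀
  have hRmem : R ∈ RS f φ U₀ e₀ := base_mem_RS f φ U₀ e₀ r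
  let u₀ : Γ(X, T') := rat f φ U₀ e₀ e'
  have hgp₀ : gp f φ U₀ e₀ e₀ = R • gp f φ U₀ e₀ e' := by
    show mres L _ (φ.app ⊤ e₀) = _
    rw [show φ.app ⊤ e₀ = R₀ • sec e' from hsec₀]
    exact InvExt.mres_smul _ _ _ _
  have hu₀ : R * u₀ = 1 := by
    have h1 : (R * u₀) • gp f φ U₀ e₀ e₀ = (1 : Γ(X, T')) • gp f φ U₀ e₀ e₀ := by
      rw [mul_smul, ← rat_spec f φ U₀ e₀ e', ← hgp₀, one_smul]
    exact (isGen_gp f φ U₀ e₀).smul_left_injective le_rfl
      (by rw [InvExt.mres_self]; exact h1)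
  have hu₀mem : u₀ ∈ RS f φ U₀ e₀ := rat_mem_RS f φ U₀ e₀ e'
  refine pieceImm_of_le hTU (RS f φ U e).subtype hp fun a =>
    map_mem_of_RS (X.presheaf.map (homOfLE hTU).op).hom (RS f φ U₀ e₀) (fun s => ?_) (fun b => ?_) a.2
  · show fres X hTU (fres X (Tp_le f φ U e) (f.app U.1 s)) ∈ RS f φ U₀ e₀
    obtain ⟨n, a', ha'⟩ := hliftS s
    have h0 : fres X (le_top : T' ≤ f ⁻¹ᵁ ⊤) (f.app ⊤ a') =
        R ^ n * fres X hTU (fres X (Tp_le f φ U e) (f.app U.1 s)) := by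
      have h1 := congrArg (fun t => fres X hTD (f.app D t)) ha'
      simp only [map_mul, map_pow] at h1
      rw [app_fres, app_fres, app_fres] at h1
      refine (InvExt.fres_fres _ hTD _).symm.trans (h1.trans ?_)
      congr 1
      · exact congrArg (· ^ n) (InvExt.fres_fres _ hTD _)
      · exact (InvExt.fres_fres _ hTD _).trans (InvExt.fres_fres _ hTU _).symm
    have h2 : fres X hTU (fres X (Tp_le f φ U e) (f.app U.1 s)) =
        u₀ ^ n * fres X (le_top : T' ≤ f ⁻¹ᵁ ⊤) (f.app ⊤ a') := by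
      rw [h0, ← mul_assoc, ← mul_pow, mul_comm u₀ R, hu₀, one_pow, one_mul]
    rw [h2]
    exact mul_mem (pow_mem hu₀mem n) (base_mem_RS f φ U₀ e₀ a')
  · show fres X hTU (rat f φ U e b) ∈ RS f φ U₀ e₀
    obtain ⟨n, b', hb'⟩ := hlift b
    let G : Γ(L, T') := mres L hTU (gp f φ U e e)
    have hG : IsGen L T' G := (isGen_gp f φ U e).restrict hTU
    have hgb : gp f φ U₀ e₀ b' = (R ^ n * fres X hTU (rat f φ U e b)) • G := by
      refine (hmap hTD b n b' hb').trans ?_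
      rw [mul_smul]
      congr 1
      rw [← InvExt.mres_mres L (Tp_le f φ U e) hTU]
      exact (congrArg (mres L hTU) (rat_spec f φ U e b)).trans (InvExt.mres_smul _ _ _ _)
    have hge : gp f φ U₀ e₀ e₀ = R ^ (k + 1) • G := by
      rw [hgp₀, pow_succ', mul_smul]
      congr 1
      refine (hmap hTD e k e' he').trans ?_
      congr 1
      exact (InvExt.mres_mres L (Tp_le f φ U e) hTU _).symm
    have h4 : R ^ n * fres X hTU (rat f φ U e b) = rat f φ U₀ e₀ b' * R ^ (k + 1) := by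
      refine hG.smul_left_injective le_rfl ?_
      rw [InvExt.mres_self, mul_smul (rat f φ U₀ e₀ b') (R ^ (k + 1)), ← hge, ← rat_spec f φ U₀ e₀ b', hgb]
    have h5 : fres X hTU (rat f φ U e b) = u₀ ^ n * (rat f φ U₀ e₀ b' * R ^ (k + 1)) := by
      rw [← h4, ← mul_assoc, ← mul_pow, mul_comm u₀ R, hu₀, one_pow, one_mul]
    rw [h5]
    exact mul_mem (pow_mem hu₀mem n) (mul_mem (rat_mem_RS f φ U₀ e₀ b') (pow_mem hRmem _))

/-- Over an affine base, a relatively very ample module on a scheme of finite type embeds it into some `P^N`. -/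
theorem isRelVeryAmplePn_of_isRelVeryAmple [IsAffine S] (f : X ⟶ S) [LocallyOfFiniteType f] [QuasiCompact f]
    {L : X.Modules} (hL : PicF.IsInvertible L) (h : RelProj.IsRelVeryAmple f L) :
    RelAmple.IsRelVeryAmplePn f L := by
  classical
  haveI : CompactSpace X := QuasiCompact.compactSpace_of_compactSpace f
  obtain ⟨c, ⟨eL⟩⟩ := exists_cocycle hL
  obtain ⟨E, φ, hE, hp⟩ := isRelVeryAmple_iff.mp (isRelVeryAmple_of_iso eL h)
  let U₀ : S.AffineZariskiSite := ⟨⊤, isAffineOpen_top S⟩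
  let sec : Γ(E, ⊤) → c.sect 1 ⊤ := fun b => φ.app ⊤ b
  have hTp : ∀ b, Tp f φ U₀ b = c.locus (sec b) := fun b => genOpen_twist c (sec b)
  have hloc : ∀ x : X, ∃ b : Γ(E, ⊤), x ∈ c.locus (sec b) ∧ PieceImm f φ U₀ b := fun x => by
    obtain ⟨U, e, hx, hpi⟩ := hp x
    obtain ⟨b, hb, hbi⟩ := exists_global_piece (c.isInvertible_twist 1) hE φ hx hpi
    exact ⟨b, (hTp b).le hb, hbi⟩
  choose b hxb hbi using hloc
  obtain ⟨s, hs⟩ := isCompact_univ.elim_finite_subcover (fun x => (c.locus (sec (b x)) : Set X))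
    (fun x => (c.locus (sec (b x))).2) (fun x _ => Set.mem_iUnion.mpr ⟨x, hxb x⟩)
  have hJ : ∀ x : X, ∃ J : Finset Γ(E, ⊤), IsImmersion (toAff ((Tp f φ U₀ (b x)).topIso.inv.hom.comp
      (Subring.closure (Set.range (fun r => fres X (Tp_le f φ U₀ (b x)) (f.app ⊤ r)) ∪
        rat f φ U₀ (b x) '' ↑J)).subtype)) := fun x => by
    let T := Tp f φ U₀ (b x)
    have hrc : IsCompact ((T : Set X)) := by
      rw [show T = genOpen (c.twist 1) (sec (b x)) from rfl]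
      exact isCompact_genOpen (c.isInvertible_twist 1) isCompact_univ _
    haveI : CompactSpace (T : Scheme.{u}) := isCompact_iff_compactSpace.mp hrc
    haveI : IsImmersion (toAff (T.topIso.inv.hom.comp (RS f φ U₀ (b x)).subtype)) := hbi x
    have hp' : ∀ r, (T.ι ≫ f).appTop r = T.topIso.inv (fres X (Tp_le f φ U₀ (b x)) (f.app ⊤ r)) := fun r => by
      show T.ι.appTop (f.appTop r) = _
      rw [Scheme.Opens.ι_appTop, Scheme.Opens.topIso_inv]
      exact (InvExt.fres_fres (X := X) _ _ _).symm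
    obtain ⟨J, hJ⟩ := exists_finset_vector (T.ι ≫ f)
      (fun b' => T.topIso.inv (rat f φ U₀ (b x) b')) (T.topIso.inv.hom.comp (RS f φ U₀ (b x)).subtype) fun a => by
        refine map_mem_of_RS T.topIso.inv.hom _ (fun r => ?_) (fun b' => ?_) a.2
        · exact Subring.subset_closure (Or.inl ⟨r, hp' r⟩)
        · exact Subring.subset_closure (Or.inr ⟨b', rfl⟩)
    refine ⟨J, ?_⟩
    haveI := hJ
    let A := Subring.closure (Set.range (fun r => fres X (Tp_le f φ U₀ (b x)) (f.app ⊤ r)) ∪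
      rat f φ U₀ (b x) '' ↑J)
    refine isImmersion_toAff_of_range_le _ _ ?_ (isImmersion_toAff_of_homOfVector (T.ι ≫ f)
      (fun i : J => T.topIso.inv (rat f φ U₀ (b x) i)) (A.map T.topIso.inv.hom) (fun r => ?_) fun i => ?_)
    · rintro _ ⟨⟨_, a, ha, rfl⟩, rfl⟩
      exact ⟨⟨a, ha⟩, rfl⟩
    · exact ⟨_, Subring.subset_closure (Or.inl ⟨r, rfl⟩), (hp' r).symm⟩
    · exact ⟨_, Subring.subset_closure (Or.inr ⟨i.1, i.2, rfl⟩), rfl⟩
  choose J hJ using hJ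
  let G : Finset Γ(E, ⊤) := insert 0 (s.image b ∪ s.biUnion J)
  obtain ⟨N, hN⟩ : ∃ N, G.card = N + 1 := ⟨G.card - 1, by
    have : 0 < G.card := Finset.card_pos.mpr ⟨0, Finset.mem_insert_self _ _⟩
    omega⟩
  let en : Fin (N + 1) ≃ G := (G.equivFinOfCardEq hN).symm
  let a : Fin (N + 1) → c.sect 1 ⊤ := fun j => sec (en j).1
  have hmemG : ∀ g ∈ G, ∃ j, (en j).1 = g := fun g hg => ⟨en.symm ⟨g, hg⟩, by rw [Equiv.apply_symm_apply]⟩
  refine isRelVeryAmplePn_of_immersion_loci f c eL a {j | ∃ x ∈ s, (en j).1 = b x} (fun x => ?_) ?_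
  · obtain ⟨y, hy, hxy⟩ := Set.mem_iUnion₂.mp (hs (Set.mem_univ x))
    obtain ⟨j, hj⟩ := hmemG (b y) (Finset.mem_insert_of_mem (Finset.mem_union_left _
      (Finset.mem_image_of_mem b hy)))
    refine ⟨j, ⟨y, hy, hj⟩, ?_⟩
    show x ∈ c.locus (sec (en j).1)
    rw [hj]; exact hxy
  rintro j ⟨x, hxs, hj⟩
  have key : ∀ (W : X.Opens) (hW : W ≤ f ⁻¹ᵁ ⊤) (hWT : W = Tp f φ U₀ (b x)) (A : Subring Γ(X, W)),
      (∀ r, (f.appLE ⊤ W hW).hom r ∈ A) →
      (∀ b' ∈ J x, fres X hWT.le (rat f φ U₀ (b x) b') ∈ A) →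
      IsImmersion (toAff (W.topIso.inv.hom.comp A.subtype)) := by
    rintro W hW rfl A hA hB
    refine isImmersion_toAff_of_range_le _ _ ?_ (hJ x)
    rintro _ ⟨⟨y, hy⟩, rfl⟩
    refine ⟨⟨y, (Subring.closure_le.mpr ?_) hy⟩, rfl⟩
    rintro _ (⟨r, rfl⟩ | ⟨b', hb', rfl⟩)
    · exact hA r
    · show _ ∈ A
      simpa only [InvExt.fres_self] using hB b' hb'
  refine key _ le_top ?_ _ (fun r => Subring.subset_closure (Or.inl ⟨r, rfl⟩)) fun b' hb' => ?_
  · show c.locus (sec (en j).1) = _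
    rw [hj, hTp]
  · obtain ⟨k, hk⟩ := hmemG b' (Finset.mem_insert_of_mem (Finset.mem_union_right _
      (Finset.mem_biUnion.mpr ⟨x, hxs, hb'⟩)))
    refine Subring.subset_closure (Or.inr ⟨k, ?_⟩)
    have key' : ∀ (g₁ g₂ : Γ(E, ⊤)) (W : X.Opens) (hWT : W ≤ Tp f φ U₀ (b x)),
        g₁ = b x → g₂ = b' → fres X hWT (rat f φ U₀ (b x) b') •
          c.sectRes (le_top : W ≤ ⊤) (sec g₁) = c.sectRes (le_top : W ≤ ⊤) (sec g₂) := by
      intro g₁ g₂ W hWT h₁ h₂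
      rw [h₁, h₂]
      have h1 := congrArg (mres (c.twist 1) hWT) (rat_spec f φ U₀ (b x) b')
      rw [InvExt.mres_smul, InvExt.mres_mres, InvExt.mres_mres] at h1
      exact h1.symm
    exact key' _ _ _ _ hj hk

end GrothLib.VA
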