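import Groth.Agent.Lib.VA.Crit
import Groth.Agent.Lib.VA.QCohPullback

/-!
# Transporting embedded pieces
-/

set_option autoImplicit false
set_option backward.isDefEq.respectTransparency false

universe u

open CategoryTheory CategoryTheory.Limits AlgebraicGeometry TopologicalSpace Opposite
open GrothLib.InvExt (mres fres IsGen)

noncomputable section

namespace GrothLib.VA

variable {X Y : Scheme.{u}} {E : Y.Modules} {L : X.Modules} {g : X ⟶ Y}
  {φ : E ⟶ (Scheme.Modules.pushforward g).obj L}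

theorem map_mem_of_RS {U : Y.AffineZariskiSite} {e : Γ(E, U.1)} {S : Type*} [CommRing S]
    (ρ : Γ(X, Tp g φ U e) →+* S) (R : Subring S)
    (hb : ∀ r, ρ (fres X (Tp_le g φ U e) (g.app U.1 r)) ∈ R) (hr : ∀ b, ρ (rat g φ U e b) ∈ R)
    {a : Γ(X, Tp g φ U e)} (ha : a ∈ RS g φ U e) : ρ a ∈ R := by
  suffices RS g φ U e ≤ R.comap ρ from this ha
  refine Subring.closure_le.mpr ?_
  rintro _ (⟨r, rfl⟩ | ⟨b, rfl⟩)
  · exact hb r
  · exact hr b

/-- A restriction of the ratio, when the images agree. -/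
theorem rat_restrict {Y' : Scheme.{u}} {E' : Y'.Modules} {g' : X ⟶ Y'}
    {φ' : E' ⟶ (Scheme.Modules.pushforward g').obj L} {U : Y.AffineZariskiSite} {e b : Γ(E, U.1)}
    {U' : Y'.AffineZariskiSite} {e' b' : Γ(E', U'.1)} (hle : Tp g' φ' U' e' ≤ Tp g φ U e)
    (he : gp g' φ' U' e' e' = mres L hle (gp g φ U e e)) (hb : gp g' φ' U' e' b' = mres L hle (gp g φ U e b)) :
    rat g' φ' U' e' b' = fres X hle (rat g φ U e b) :=
  rat_eq (by rw [hb, he, rat_spec g φ U e b, InvExt.mres_smul])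

/-- A piece stays embedded when it is shrunk and the images of the sections are kept. -/
theorem pieceImm_transfer {Y' : Scheme.{u}} {E' : Y'.Modules} {g' : X ⟶ Y'}
    {φ' : E' ⟶ (Scheme.Modules.pushforward g').obj L} {U : Y.AffineZariskiSite} {e : Γ(E, U.1)}
    {U' : Y'.AffineZariskiSite} {e' : Γ(E', U'.1)} (hle : Tp g' φ' U' e' ≤ Tp g φ U e)
    (hbase : ∀ r, fres X hle (fres X (Tp_le g φ U e) (g.app U.1 r)) ∈ RS g' φ' U' e')
    (he : gp g' φ' U' e' e' = mres L hle (gp g φ U e e))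
    (hsec : ∀ b, ∃ b', gp g' φ' U' e' b' = mres L hle (gp g φ U e b))
    (hp : PieceImm g φ U e) : PieceImm g' φ' U' e' :=
  pieceImm_of_le hle (RS g φ U e).subtype hp fun a =>
    map_mem_of_RS (X.presheaf.map (homOfLE hle).op).hom (RS g' φ' U' e') hbase (fun b => by
      obtain ⟨b', hb⟩ := hsec b
      show fres X hle (rat g φ U e b) ∈ RS g' φ' U' e'
      rw [← rat_restrict hle he hb]
      exact rat_mem_RS g' φ' U' e' b') a.2

variable (g) in
/-- Factoring a map of sections through the pullback to an intermediate base. -/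
theorem exists_factor {Z : Scheme.{u}} (q : Y ⟶ Z) {F : Z.Modules}
    (φ : F ⟶ (Scheme.Modules.pushforward (g ≫ q)).obj L) :
    ∃ φ' : (Scheme.Modules.pullback q).obj F ⟶ (Scheme.Modules.pushforward g).obj L, ∀ (U : Z.Opens) (e : Γ(F, U)),
      (show Γ(L, g ⁻¹ᵁ (q ⁻¹ᵁ U)) from φ'.app (q ⁻¹ᵁ U)
        (((Scheme.Modules.pullbackPushforwardAdjunction q).unit.app F).app U e)) = φ.app U e := by
  let ψ : F ⟶ (Scheme.Modules.pushforward q).obj ((Scheme.Modules.pushforward g).obj L) :=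
    φ ≫ (Scheme.Modules.pushforwardComp g q).inv.app L
  refine ⟨((Scheme.Modules.pullbackPushforwardAdjunction q).homEquiv F _).symm ψ, fun U e => ?_⟩
  have h : (Scheme.Modules.pullbackPushforwardAdjunction q).unit.app F ≫ (Scheme.Modules.pushforward q).map
      (((Scheme.Modules.pullbackPushforwardAdjunction q).homEquiv F _).symm ψ) = ψ :=
    ((Scheme.Modules.pullbackPushforwardAdjunction q).homEquiv_unit _ _ _).symm.trans (Equiv.apply_symm_apply _ _)
  exact congrArg (fun k : F ⟶ _ => k.app U e) h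

/-- The pieces of a composite give pieces of the first map, through the pullback of the module. -/
theorem exists_pieces_of_comp {Z : Scheme.{u}} (q : Y ⟶ Z) {F : Z.Modules}
    (φ : F ⟶ (Scheme.Modules.pushforward (g ≫ q)).obj L) (hp : ∀ x, ∃ (U : Z.AffineZariskiSite) (e : Γ(F, U.1)), x ∈ Tp (g ≫ q) φ U e ∧ PieceImm (g ≫ q) φ U e) :
    ∃ φ' : (Scheme.Modules.pullback q).obj F ⟶ (Scheme.Modules.pushforward g).obj L,
      ∀ x, ∃ (U : Y.AffineZariskiSite) (e : Γ((Scheme.Modules.pullback q).obj F, U.1)), x ∈ Tp g φ' U e ∧ PieceImm g φ' U e := by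
  obtain ⟨φ', hφ'⟩ := exists_factor g q φ
  refine ⟨φ', fun x => ?_⟩
  obtain ⟨U, e, hx, hpi⟩ := hp x
  obtain ⟨V, hV, hxV, hVU⟩ := exists_isAffineOpen_mem_and_subset
    (show g x ∈ q ⁻¹ᵁ U.1 from Tp_le (g ≫ q) φ U e hx)
  have hVU' : V ≤ q ⁻¹ᵁ U.1 := hVU
  let un : Γ(F, U.1) → Γ((Scheme.Modules.pullback q).obj F, V) := fun b =>
    mres _ hVU' (((Scheme.Modules.pullbackPushforwardAdjunction q).unit.app F).app U.1 b)
  have hun : ∀ b, φ'.app V (un b) =
      mres L (g.preimage_mono hVU') (show Γ(L, g ⁻¹ᵁ (q ⁻¹ᵁ U.1)) from φ.app U.1 b) := fun b =>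
    (Ample.app_mres φ' hVU' _).trans (congrArg (mres L (g.preimage_mono hVU')) (hφ' U.1 b))
  have hT : Tp g φ' ⟨V, hV⟩ (un e) = Tp (g ≫ q) φ U e ⊓ g ⁻¹ᵁ V := by
    ext y
    show y ∈ genOpen L _ ↔ y ∈ genOpen L _ ∧ g y ∈ V
    rw [mem_genOpen, mem_genOpen]
    show GenAt L (φ'.app V (un e)) y ↔ _
    rw [hun, genAt_mres]
    exact ⟨fun a => ⟨a.2, a.1⟩, fun a => ⟨a.2, a.1⟩⟩
  have hgp : ∀ b, gp g φ' ⟨V, hV⟩ (un e) (un b) = mres L (hT.le.trans inf_le_left) (gp (g ≫ q) φ U e b) := fun b => by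
    show mres L _ (φ'.app V (un b)) = mres L _ (mres L _ _)
    rw [hun, InvExt.mres_mres, InvExt.mres_mres]
    rfl
  refine ⟨⟨V, hV⟩, un e, hT.ge ⟨hx, hxV⟩,
    pieceImm_transfer (hT.le.trans inf_le_left) (fun r => ?_) (hgp e) (fun b => ⟨un b, hgp b⟩) hpi⟩
  have h1 := base_mem_RS g φ' ⟨V, hV⟩ (un e) (fres Y hVU' (q.app U.1 r))
  rw [app_fres, InvExt.fres_fres] at h1
  rw [InvExt.fres_fres]
  exact h1

theorem isRelVeryAmple_of_comp' {Z : Scheme.{u}} (q : Y ⟶ Z)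
    (h : RelProj.IsRelVeryAmple (g ≫ q) L) : RelProj.IsRelVeryAmple g L := by
  obtain ⟨F, φ, hF, hp⟩ := isRelVeryAmple_iff.mp h
  obtain ⟨φ', hp'⟩ := exists_pieces_of_comp q φ hp
  exact isRelVeryAmple_iff.mpr ⟨_, φ', isQCoh_pullback q hF, hp'⟩

end GrothLib.VA
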