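import Groth.Agent.Lib.VA.Gen
import Groth.Agent.Lib.VA.Vals
import Groth.Agent.Lib.RelProjK.Amp
import Groth.Agent.Lib.RelProjK.Tensor
import Groth.Agent.Lib.RelSpec.OfAffine

/-!
# The canonical map `E ⟶ p_* O(1)` of a projective bundle and the standard pieces
-/

set_option autoImplicit false
set_option backward.isDefEq.respectTransparency false

universe u

open CategoryTheory CategoryTheory.Limits AlgebraicGeometry TopologicalSpace Opposite
open GrothLib.InvExt (mres IsGen)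
open GrothLib.RelProjK (dg rs rs_irr rs_away rs_comp em em_comap mem_opensRange_em Tw vl vl_ext vl_smul onChart
  toSec ofSec fracSec gv_fracSec bijective_locMap bijective_smul_fracSec)

noncomputable section

namespace GrothLib.VA

variable {Y P : Scheme.{u}} {E : Y.Modules} {𝒮 : RelProj.QCGrAlg Y}

/-- A section of `E` as an element of degree one. -/
abbrev ev (j : E ⟶ 𝒮.toModule) (U : Y.AffineZariskiSite) (e : Γ(E, U.1)) : 𝒮.presheaf.obj (op U.1) :=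
  j.app U.1 e

/-- Restriction of sections of `E` to a basic sub-chart. -/
abbrev rE {U V : Y.AffineZariskiSite} (h : V ≤ U) (e : Γ(E, U.1)) : Γ(E, V.1) :=
  mres E (Scheme.AffineZariskiSite.toOpens_mono h) e

theorem rs_ev (j : E ⟶ 𝒮.toModule) {U V : Y.AffineZariskiSite} (h : V ≤ U) (e : Γ(E, U.1)) :
    rs 𝒮 h (ev j U e) = ev j V (rE h e) :=
  (RelProjK.app_tr j (Scheme.AffineZariskiSite.toOpens_mono h) e).symm

theorem closure_str_ev (hE : Coh.IsQCoh E) {j : E ⟶ 𝒮.toModule} (hj : RelProj.IsGrSymAlg E 𝒮 j)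
    (U : Y.AffineZariskiSite) :
    Subring.closure (Set.range (𝒮.str.app (op U.1)).hom ∪ Set.range (ev j U)) = ⊤ := by
  obtain ⟨q, hqs, hqj⟩ := SymAlgX.isAffSym_of_isSymAlg hE hj.1 U.1 U.2
  refine eq_top_iff.mpr fun a _ => ?_
  obtain ⟨b, rfl⟩ := q.surjective a
  induction b using SymmetricAlgebra.induction with
  | algebraMap r => rw [show q (algebraMap _ _ r) = _ from hqs r]; exact Subring.subset_closure (Or.inl ⟨r, rfl⟩)
  | ι x => rw [show q (SymmetricAlgebra.ι _ _ x) = _ from hqj x]; exact Subring.subset_closure (Or.inr ⟨x, rfl⟩)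
  | mul a b ha hb => rw [map_mul]; exact mul_mem (ha trivial) (hb trivial)
  | add a b ha hb => rw [map_add]; exact add_mem (ha trivial) (hb trivial)

theorem str_bijective_zero (hE : Coh.IsQCoh E) {j : E ⟶ 𝒮.toModule} (hj : RelProj.IsGrSymAlg E 𝒮 j)
    (U : Y.Opens) (hU : IsAffineOpen U) : Function.Bijective (𝒮.strZero U hU).hom := by
  classical
  obtain ⟨q, hqs, hqj⟩ := SymAlgX.isAffSym_of_isSymAlg hE hj.1 U hU
  refine ⟨fun a b hab => ?_, fun c => ?_⟩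
  · have h : q (algebraMap _ _ a) = q (algebraMap _ _ b) :=
      (hqs a).trans ((congrArg Subtype.val hab).trans (hqs b).symm)
    have h' := congrArg (SymmetricAlgebra.algebraMapInv (R := Γ(Y, U)) (M := Γ(E, U))) (q.injective h)
    rwa [AlgHom.commutes, AlgHom.commutes] at h'
  · have key : ∀ x ∈ Subring.closure (Set.range (𝒮.str.app (op U)).hom ∪ Set.range (ev j ⟨U, hU⟩)),
        ∃ r, (𝒮.str.app (op U)).hom r = GradedRing.projZeroRingHom (𝒮.deg U hU) x := by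
      intro x hx
      induction hx using Subring.closure_induction with
      | mem x hx =>
        rcases hx with ⟨r, rfl⟩ | ⟨e, rfl⟩
        · exact ⟨r, (DirectSum.decompose_of_mem_same (𝒮.deg U hU) (𝒮.str_mem U hU r)).symm⟩
        · exact ⟨0, (map_zero _).trans (DirectSum.decompose_of_mem_ne (dg 𝒮 ⟨U, hU⟩) (show ev j ⟨U, hU⟩ e ∈ dg 𝒮 ⟨U, hU⟩ 1 from hj.2 U hU e) one_ne_zero).symm⟩
      | zero => exact ⟨0, (map_zero _).trans (map_zero _).symm⟩
      | one => exact ⟨1, (map_one _).trans (map_one _).symm⟩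
      | add x y _ _ hx hy =>
        obtain ⟨r, hr⟩ := hx; obtain ⟨r', hr'⟩ := hy
        exact ⟨r + r', by rw [map_add, map_add, hr, hr']⟩
      | neg x _ hx => obtain ⟨r, hr⟩ := hx; exact ⟨-r, by rw [map_neg, map_neg, hr]⟩
      | mul x y _ _ hx hy =>
        obtain ⟨r, hr⟩ := hx; obtain ⟨r', hr'⟩ := hy
        exact ⟨r * r', by rw [map_mul, map_mul, hr, hr']⟩
    obtain ⟨r, hr⟩ := key c.1 ((closure_str_ev hE hj ⟨U, hU⟩).ge trivial)
    exact ⟨r, Subtype.ext (hr.trans (DirectSum.decompose_of_mem_same (𝒮.deg U hU) c.2))⟩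

variable (p : P ⟶ Y)
  (chart : ∀ (U : Y.Opens) (hU : IsAffineOpen U), (((p ⁻¹ᵁ U : P.Opens) : Scheme.{u}) ≅ Proj (𝒮.deg U hU)))
  (j : E ⟶ 𝒮.toModule)

/-- The piece of the bundle where a section of `E` generates. -/
def pc (U : Y.AffineZariskiSite) (e : Γ(E, U.1)) : P.Opens :=
  em p chart U ''ᵁ Proj.basicOpen (dg 𝒮 U) (ev j U e)

variable {p chart j}

theorem pc_le (U : Y.AffineZariskiSite) (e : Γ(E, U.1)) : pc p chart j U e ≤ p ⁻¹ᵁ U.1 := by
  rintro _ ⟨y, -, rfl⟩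
  exact (mem_opensRange_em U).mp ⟨y, rfl⟩

theorem mem_pc {U : Y.AffineZariskiSite} {e : Γ(E, U.1)} {y : ProjectiveSpectrum (dg 𝒮 U)} :
    em p chart U y ∈ pc p chart j U e ↔ ev j U e ∉ y.asHomogeneousIdeal :=
  ⟨fun ⟨_, hw, h⟩ => (em p chart U).isOpenEmbedding.injective h ▸ hw, fun h => ⟨y, h, rfl⟩⟩

theorem pc_inf (hP : RelProj.IsRelProj 𝒮 p chart) {U V : Y.AffineZariskiSite} (h : V ≤ U) (e : Γ(E, U.1)) :
    pc p chart j U e ⊓ p ⁻¹ᵁ V.1 = pc p chart j V (rE h e) := by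
  ext z
  constructor
  · rintro ⟨hz, hzV⟩
    obtain ⟨y, rfl⟩ := (mem_opensRange_em (chart := chart) V).mpr hzV
    rw [← em_comap hP h y] at hz
    refine mem_pc.mpr ?_
    rw [← rs_ev]
    exact mem_pc.mp hz
  · intro hz
    refine ⟨?_, pc_le V _ hz⟩
    obtain ⟨y, hy, rfl⟩ := hz
    have hy' : ev j V (rE h e) ∉ y.asHomogeneousIdeal := hy
    rw [← rs_ev] at hy'
    show em p chart V y ∈ pc p chart j U e
    rw [← em_comap hP h y]
    exact mem_pc.mpr hy'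

theorem exists_notMem_ev (hE : Coh.IsQCoh E) (hj : RelProj.IsGrSymAlg E 𝒮 j) (U : Y.AffineZariskiSite)
    (y : ProjectiveSpectrum (dg 𝒮 U)) : ∃ e : Γ(E, U.1), ev j U e ∉ y.asHomogeneousIdeal := by
  by_contra hc
  simp only [not_exists, not_not] at hc
  refine y.not_irrelevant_le fun a ha => ?_
  have key : ∀ x ∈ Subring.closure (Set.range (𝒮.str.app (op U.1)).hom ∪ Set.range (ev j U)),
      x - GradedRing.projZeroRingHom (dg 𝒮 U) x ∈ y.asHomogeneousIdeal.toIdeal := by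
    intro x hx
    induction hx using Subring.closure_induction with
    | mem x hx =>
      rcases hx with ⟨r, rfl⟩ | ⟨e, rfl⟩
      · rw [show GradedRing.projZeroRingHom (dg 𝒮 U) _ = _ from
          DirectSum.decompose_of_mem_same (dg 𝒮 U) (𝒮.str_mem U.1 U.2 r), sub_self]
        exact zero_mem _
      · rw [show GradedRing.projZeroRingHom (dg 𝒮 U) (ev j U e) = 0 from
          DirectSum.decompose_of_mem_ne (dg 𝒮 U) (hj.2 U.1 U.2 e) one_ne_zero, sub_zero]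
        exact hc e
    | zero => simp
    | one => rw [map_one, sub_self]; exact zero_mem _
    | add x z _ _ hx hz =>
      rw [map_add, add_sub_add_comm]
      exact add_mem hx hz
    | neg x _ hx => rw [map_neg, ← neg_sub_neg, neg_neg, neg_neg]; rw [← neg_sub]; exact neg_mem hx
    | mul x z _ _ hx hz =>
      rw [map_mul, show x * z - GradedRing.projZeroRingHom (dg 𝒮 U) x * GradedRing.projZeroRingHom (dg 𝒮 U) z =
        (x - GradedRing.projZeroRingHom (dg 𝒮 U) x) * z +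
          GradedRing.projZeroRingHom (dg 𝒮 U) x * (z - GradedRing.projZeroRingHom (dg 𝒮 U) z) by ring]
      exact add_mem (Ideal.mul_mem_right _ _ hx) (Ideal.mul_mem_left _ _ hz)
  have h0 : GradedRing.projZeroRingHom (dg 𝒮 U) a = 0 := (HomogeneousIdeal.mem_irrelevant_iff (dg 𝒮 U) a).mp ha
  have := key a ((closure_str_ev hE hj U).ge trivial)
  rwa [h0, sub_zero] at this

theorem exists_pc (hE : Coh.IsQCoh E) (hj : RelProj.IsGrSymAlg E 𝒮 j) (U : Y.AffineZariskiSite) {z : P}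
    (hz : p z ∈ U.1) : ∃ e : Γ(E, U.1), z ∈ pc p chart j U e := by
  obtain ⟨y, rfl⟩ := (mem_opensRange_em (chart := chart) U).mpr hz
  obtain ⟨e, he⟩ := exists_notMem_ev hE hj U y
  exact ⟨e, mem_pc.mpr he⟩

theorem iSup_pc (hE : Coh.IsQCoh E) (hj : RelProj.IsGrSymAlg E 𝒮 j) :
    ⨆ i : (Σ U : Y.AffineZariskiSite, Γ(E, U.1)), pc p chart j i.1 i.2 = ⊤ := by
  refine eq_top_iff.mpr fun z _ => ?_
  obtain ⟨U, hU, hzU, -⟩ := exists_isAffineOpen_mem_and_subset (Opens.mem_top (p z))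
  obtain ⟨e, he⟩ := exists_pc (chart := chart) hE hj ⟨U, hU⟩ hzU
  exact Opens.mem_iSup.mpr ⟨⟨⟨U, hU⟩, e⟩, he⟩

section canon

variable {O1 : P.Modules}
  {lam : ∀ (U : Y.Opens) (hU : IsAffineOpen U),
    O1 ⟶ (Scheme.Modules.pushforward (RelProj.emb p chart U hU)).obj (GrTwist.twist (𝒮.deg U hU) 1)}

variable (j lam) in
/-- The map sends a section of `E` to the section it defines in every chart. -/
def IsCanon (φ : E ⟶ (Scheme.Modules.pushforward p).obj O1) : Prop :=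
  ∀ (U : Y.AffineZariskiSite) (e : Γ(E, U.1)) (y : ProjectiveSpectrum (dg 𝒮 U)) (hy : em p chart U y ∈ p ⁻¹ᵁ U.1),
    vl (onChart lam U (W := p ⁻¹ᵁ U.1) (φ.app U.1 e)) y hy =
      algebraMap (𝒮.presheaf.obj (op U.1)) (GrTwist.Loc (dg 𝒮 U) y) (ev j U e)

/-- The hypothesis in the form used by the statements. -/
theorem isCanon_of_forall {φ : E ⟶ (Scheme.Modules.pushforward p).obj O1}
    (hφ : ∀ (U : Y.Opens) (hU : IsAffineOpen U) (e : Γ(E, U))
      (y : ↥(RelProj.emb p chart U hU ⁻¹ᵁ (p ⁻¹ᵁ U))),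
      GrTwist.val (V := RelProj.emb p chart U hU ⁻¹ᵁ (p ⁻¹ᵁ U))
          ((lam U hU).app (p ⁻¹ᵁ U) ((φ.app U) e)) y =
        algebraMap (𝒮.presheaf.obj (op U)) (GrTwist.Loc (𝒮.deg U hU) y.1)
          ((j.app U) e : 𝒮.presheaf.obj (op U))) : IsCanon j lam φ :=
  fun U e y hy => hφ U.1 U.2 e ⟨y, hy⟩

theorem exists_canon (hj : RelProj.IsGrSymAlg E 𝒮 j) (hP : RelProj.IsRelProj 𝒮 p chart)
    (hO1 : RelProj.IsRelTwist 𝒮 p chart 1 O1 lam) :
    ∃ φ : E ⟶ (Scheme.Modules.pushforward p).obj O1, IsCanon j lam φ := by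
  let s : ∀ (U : Y.Opens) (hU : IsAffineOpen U), Γ(E, U) → Γ(O1, p ⁻¹ᵁ U) := fun U hU e =>
    ((hO1.bijective U hU (p ⁻¹ᵁ U) le_rfl).2 (ofSec (U := ⟨U, hU⟩) (W := p ⁻¹ᵁ U)
      (fracSec (j := 0) (ev j ⟨U, hU⟩ e) 1 (hj.2 U hU e) SetLike.GradedOne.one_mem
        (fun y h => y.1.isPrime.ne_top ((Ideal.eq_top_iff_one _).mpr h)) (by simp)))).choose
  have hs : ∀ (U : Y.AffineZariskiSite) e y (hy : em p chart U y ∈ p ⁻¹ᵁ U.1),
      vl (onChart lam U (s U.1 U.2 e)) y hy =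
        algebraMap (𝒮.presheaf.obj (op U.1)) (GrTwist.Loc (dg 𝒮 U) y) (ev j U e) := fun U e y hy => by
    refine (congrArg (fun t => vl t y hy) ((hO1.bijective U.1 U.2 (p ⁻¹ᵁ U.1) le_rfl).2 _).choose_spec).trans ?_
    exact Localization.mk_one_eq_algebraMap (M := y.asHomogeneousIdeal.toIdeal.primeCompl) _
  have hinj : ∀ (U : Y.AffineZariskiSite) {W : P.Opens} (_ : W ≤ p ⁻¹ᵁ U.1) {a b : Γ(O1, W)},
      (∀ y hy, vl (onChart lam U a) y hy = vl (onChart lam U b) y hy) → a = b := fun U W hW a b h =>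
    (hO1.bijective U.1 U.2 W hW).1 (vl_ext h)
  obtain ⟨φ, hφ⟩ := RelSpec.exists_modHom (M := E) (N := (Scheme.Modules.pushforward p).obj O1)
    (fun U hU => AddMonoidHom.mk' (s U hU) fun a b => by
      refine hinj ⟨U, hU⟩ le_rfl fun y hy => ?_
      rw [hs ⟨U, hU⟩]
      refine Eq.trans ?_ (congrArg₂ (· + ·) (hs ⟨U, hU⟩ a y hy) (hs ⟨U, hU⟩ b y hy)).symm |>.trans ?_
      · show algebraMap (𝒮.presheaf.obj (op U)) _ (ev j ⟨U, hU⟩ (a + b)) = _
        rw [show ev j ⟨U, hU⟩ (a + b) = ev j ⟨U, hU⟩ a + ev j ⟨U, hU⟩ b from map_add _ a b, map_add]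
      · exact (congrArg (fun t => vl t y hy) (RelProjK.onChart_add lam ⟨U, hU⟩ _ _)).symm)
    (fun U hU r x => by
      refine hinj ⟨U, hU⟩ le_rfl fun y hy => ?_
      show vl (onChart lam ⟨U, hU⟩ (s U hU (r • x))) y hy =
        vl (onChart lam ⟨U, hU⟩ ((p.app U r) • s U hU x)) y hy
      rw [hs ⟨U, hU⟩, RelProjK.onChart_smul, vl_smul, hs ⟨U, hU⟩]
      have hr : ((show GrTwist.O (𝒜 := dg 𝒮 ⟨U, hU⟩) (op (em p chart ⟨U, hU⟩ ⁻¹ᵁ (p ⁻¹ᵁ U)))
          from (em p chart ⟨U, hU⟩).app _ (p.app U r)).1 ⟨y, hy⟩).val =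
          algebraMap _ _ ((𝒮.str.app (op U)).hom r) := val_app_str hP ⟨U, hU⟩ r y hy
      rw [hr, ← map_mul]
      refine congrArg _ ?_
      exact (Scheme.Modules.Hom.app_smul j r x))
    (fun U V hU hV h x => by
      refine hinj ⟨V, hV⟩ (W := p ⁻¹ᵁ V) le_rfl fun y hy => ?_
      show vl (onChart lam ⟨V, hV⟩ (s V hV (mres E h x))) y hy =
        vl (onChart lam ⟨V, hV⟩ (mres O1 (p.preimage_mono h) (s U hU x))) y hy
      obtain ⟨g, g', hgg, hz⟩ := exists_basicOpen_le_affine_inter hV hU (p (em p chart ⟨V, hV⟩ y)) ⟨hy, h hy⟩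
      let D : Y.AffineZariskiSite := Scheme.AffineZariskiSite.basicOpen (X := Y) ⟨V, hV⟩ g
      have hDV : D ≤ ⟨V, hV⟩ := ⟨g, rfl⟩
      have hDU : D ≤ ⟨U, hU⟩ := ⟨g', hgg.symm⟩
      obtain ⟨y', hy'⟩ := (mem_opensRange_em (chart := chart) D).mpr hz
      obtain rfl : ProjectiveSpectrum.comap (rs 𝒮 hDV) (rs_irr 𝒮 hDV) y' = y :=
        (em p chart ⟨V, hV⟩).isOpenEmbedding.injective ((em_comap hP hDV y').trans hy')
      obtain ⟨c, hc, hloc⟩ := rs_away 𝒮 hDV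
      refine (bijective_locMap (rs 𝒮 hDV) (rs_irr 𝒮 hDV) c hloc y').1 ?_
      have hcm : ∀ (A : Y.AffineZariskiSite) (hA : D ≤ A) {W : P.Opens} (t : Γ(O1, W))
          (hyD : em p chart D y' ∈ W),
          vl (onChart lam D t) y' hyD = GrTwist.locMap (rs 𝒮 hA) (rs_irr 𝒮 hA) y'
            (vl (onChart lam A t) (ProjectiveSpectrum.comap (rs 𝒮 hA) (rs_irr 𝒮 hA) y')
              ((em_comap hP hA y').symm ▸ hyD)) := fun A hA W t hyD =>
        (congrArg (fun v => vl v y' hyD) (RelProjK.isFam_of_isRelTwist hP 1 hO1 t A D hA)).symm.trans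
          (RelProjK.vl_cm hP hA _ y' hyD)
      have hyD : em p chart D y' ∈ p ⁻¹ᵁ U := (hy' ▸ h hy)
      have hres : vl (onChart lam D (mres O1 (p.preimage_mono h) (s U hU x))) y' (hy' ▸ hy) =
          vl (onChart lam D (s U hU x)) y' hyD :=
        (congrArg (fun v => vl v y' (hy' ▸ hy)) (RelProjK.app_tr (lam D.1 D.2) (p.preimage_mono h) (s U hU x))).trans rfl
      refine Eq.trans ?_ ((hcm ⟨U, hU⟩ hDU (s U hU x) hyD).symm.trans (hres.symm.trans
        (hcm ⟨V, hV⟩ hDV (mres O1 (p.preimage_mono h) (s U hU x)) (hy' ▸ hy))))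
      refine (congrArg (GrTwist.locMap (rs 𝒮 hDV) (rs_irr 𝒮 hDV) y') (hs ⟨V, hV⟩ _ _ hy)).trans ?_
      refine Eq.trans ?_ (congrArg (GrTwist.locMap (rs 𝒮 hDU) (rs_irr 𝒮 hDU) y') (hs ⟨U, hU⟩ x _ _)).symm
      refine (locMap_algebraMap _ _ _ _).trans (Eq.trans ?_ (locMap_algebraMap _ _ _ _).symm)
      refine congrArg _ ?_
      rw [rs_ev, rs_ev]
      exact congrArg (ev j D) (InvExt.mres_mres E h _ x))
  exact ⟨φ, fun U e y hy => (congrArg (fun t => vl (onChart lam U t) y hy) (hφ U.1 U.2 e)).trans (hs U e y hy)⟩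

end canon

end GrothLib.VA

namespace GrothLib.VA

open GrothLib.RelProjK (exists_fun_eq mulSec gv_mulSec)

variable {Y P : Scheme.{u}} {E : Y.Modules} {𝒮 : RelProj.QCGrAlg Y} {p : P ⟶ Y}
  {chart : ∀ (U : Y.Opens) (hU : IsAffineOpen U), (((p ⁻¹ᵁ U : P.Opens) : Scheme.{u}) ≅ Proj (𝒮.deg U hU))}
  {j : E ⟶ 𝒮.toModule} {O1 : P.Modules}
  {lam : ∀ (U : Y.Opens) (hU : IsAffineOpen U),
    O1 ⟶ (Scheme.Modules.pushforward (RelProj.emb p chart U hU)).obj (GrTwist.twist (𝒮.deg U hU) 1)}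
  {φ₀ : E ⟶ (Scheme.Modules.pushforward p).obj O1}

theorem vl_canon_mres (hφ₀ : IsCanon j lam φ₀) (U : Y.AffineZariskiSite) (e : Γ(E, U.1)) {W : P.Opens}
    (hW : W ≤ p ⁻¹ᵁ U.1) (y : ProjectiveSpectrum (dg 𝒮 U)) (hy : em p chart U y ∈ W) :
    vl (onChart lam U (mres O1 hW (show Γ(O1, p ⁻¹ᵁ U.1) from φ₀.app U.1 e))) y hy =
      algebraMap (𝒮.presheaf.obj (op U.1)) (GrTwist.Loc (dg 𝒮 U) y) (ev j U e) :=
  ((congrArg (fun v => vl v y hy) (RelProjK.app_tr (lam U.1 U.2) hW (φ₀.app U.1 e))).trans rfl).trans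
    (hφ₀ U e y (hW hy))

theorem gv_smul_frac {A σ : Type u} [CommRing A] [SetLike σ A] [AddSubgroupClass σ A] {𝒜 : ℕ → σ} [GradedRing 𝒜]
    {V : Opens (ProjectiveSpectrum.top 𝒜)} (r : GrTwist.O (𝒜 := 𝒜) (op V)) (a : A) (ha : a ∈ 𝒜 1)
    (hone : ∀ y : V, (1 : A) ∉ y.1.asHomogeneousIdeal) (y : V) :
    RelProjK.gv (r • fracSec (n := 1) (i := 1) (j := 0) a 1 ha SetLike.GradedOne.one_mem hone (by simp)) y =
      (r.1 y).val * algebraMap A (GrTwist.Loc 𝒜 y.1) a := by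
  rw [RelProjK.gv_smul, gv_fracSec]
  exact congrArg (_ * ·) (Localization.mk_one_eq_algebraMap (M := y.1.asHomogeneousIdeal.toIdeal.primeCompl) a)

theorem vl_ofSec {n : ℤ} {U : Y.AffineZariskiSite} {W : P.Opens}
    (t : GrTwist.sectN (𝒜 := dg 𝒮 U) n (op (em p chart U ⁻¹ᵁ W))) (y : ProjectiveSpectrum (dg 𝒮 U))
    (hy : em p chart U y ∈ W) : vl (ofSec t) y hy = RelProjK.gv t ⟨y, hy⟩ := rfl

theorem bijective_ofSec_smul {U : Y.AffineZariskiSite} {W : P.Opens} (hWU : W ≤ p ⁻¹ᵁ U.1)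
    (a : 𝒮.presheaf.obj (op U.1)) (ha : a ∈ dg 𝒮 U 1)
    (hne : ∀ y : (em p chart U ⁻¹ᵁ W : (Proj (dg 𝒮 U)).Opens), a ∉ y.1.asHomogeneousIdeal)
    (t : Γ(Tw p chart 1 U, W))
    (ht : ∀ y hy, vl t y hy = algebraMap (𝒮.presheaf.obj (op U.1)) (GrTwist.Loc (dg 𝒮 U) y) a) :
    Function.Bijective fun c : Γ(P, W) => c • t := by
  have hone : ∀ y : (em p chart U ⁻¹ᵁ W : (Proj (dg 𝒮 U)).Opens),
      (1 : 𝒮.presheaf.obj (op U.1)) ∉ y.1.asHomogeneousIdeal :=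
    fun y h => y.1.isPrime.ne_top ((Ideal.eq_top_iff_one _).mpr h)
  have hb := bijective_smul_fracSec ha (SetLike.GradedOne.one_mem (A := dg 𝒮 U)) hne hone
    (n := 1) (show ((1 : ℕ) : ℤ) = ((0 : ℕ) : ℤ) + 1 by simp)
  have happ : Function.Bijective ((em p chart U).app W).hom := by
    have : W ≤ (em p chart U).opensRange := fun z hz => (mem_opensRange_em U).mpr (hWU hz)
    haveI := (em p chart U).isIso_app W this
    exact ConcreteCategory.bijective_of_isIso ((em p chart U).app W)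
  let F := fracSec (n := 1) (i := 1) (j := 0) a 1 ha SetLike.GradedOne.one_mem hone (by simp)
  have he : ∀ c : Γ(P, W), c • t =
      ofSec ((show GrTwist.O (𝒜 := dg 𝒮 U) (op (em p chart U ⁻¹ᵁ W)) from (em p chart U).app W c) • F) := by
    intro c
    refine vl_ext fun y hy => ?_
    refine (vl_smul c t y hy).trans ?_
    refine (congrArg (_ * ·) (ht y hy)).trans ?_
    exact (gv_smul_frac _ a ha hone ⟨y, hy⟩).symm
  rw [show (fun c : Γ(P, W) => c • t) = _ from funext he]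
  exact hb.comp happ

theorem isGen_canon (hj : RelProj.IsGrSymAlg E 𝒮 j) (hO1 : RelProj.IsRelTwist 𝒮 p chart 1 O1 lam)
    (hφ₀ : IsCanon j lam φ₀) (U : Y.AffineZariskiSite) (e : Γ(E, U.1)) :
    IsGen O1 (pc p chart j U e) (mres O1 (pc_le U e) (show Γ(O1, p ⁻¹ᵁ U.1) from φ₀.app U.1 e)) := by
  intro W hW
  rw [InvExt.mres_mres]
  have hWU : W ≤ p ⁻¹ᵁ U.1 := hW.trans (pc_le U e)
  refine ((hO1.bijective U.1 U.2 W hWU).of_comp_iff' _).mp ?_
  have he : (fun c : Γ(P, W) => onChart lam U (c • mres O1 hWU (show Γ(O1, p ⁻¹ᵁ U.1) from φ₀.app U.1 e))) =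
      fun c : Γ(P, W) => c • onChart lam U (mres O1 hWU (show Γ(O1, p ⁻¹ᵁ U.1) from φ₀.app U.1 e)) :=
    funext fun c => RelProjK.onChart_smul lam U c _
  show Function.Bijective fun c : Γ(P, W) => onChart lam U (c • mres O1 hWU (show Γ(O1, p ⁻¹ᵁ U.1) from φ₀.app U.1 e))
  rw [he]
  exact bijective_ofSec_smul hWU (ev j U e) (hj.2 U.1 U.2 e) (fun y => mem_pc.mp (hW y.2)) _
    fun y hy => vl_canon_mres hφ₀ U e hWU y hy

theorem mem_pc_of_genAt (hE : Coh.IsQCoh E) (hj : RelProj.IsGrSymAlg E 𝒮 j) (hφ₀ : IsCanon j lam φ₀)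
    {U : Y.AffineZariskiSite} {e : Γ(E, U.1)} {z : P}
    (h : GenAt O1 (V := p ⁻¹ᵁ U.1) (φ₀.app U.1 e) z) : z ∈ pc p chart j U e := by
  obtain ⟨W, hW, hzW, hgen⟩ := h
  obtain ⟨y, rfl⟩ := (mem_opensRange_em (chart := chart) U).mpr (hW hzW)
  obtain ⟨e', he'⟩ := exists_notMem_ev hE hj U y
  refine mem_pc.mpr fun hmem => ?_
  obtain ⟨b, hb⟩ := hgen.exists_smul_eq le_rfl (mres O1 hW (show Γ(O1, p ⁻¹ᵁ U.1) from φ₀.app U.1 e'))
  rw [InvExt.mres_self] at hb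
  have hv := congrArg (fun t => vl (onChart lam U t) y hzW) hb
  simp only [RelProjK.onChart_smul, vl_smul, vl_canon_mres hφ₀] at hv
  have hu : IsUnit (algebraMap (𝒮.presheaf.obj (op U.1)) (GrTwist.Loc (dg 𝒮 U) y) (ev j U e')) :=
    IsLocalization.map_units _ (⟨ev j U e', he'⟩ : y.asHomogeneousIdeal.toIdeal.primeCompl)
  rw [hv] at hu
  have hu' := isUnit_of_mul_isUnit_right hu
  exact ((IsLocalization.AtPrime.isUnit_to_map_iff (GrTwist.Loc (dg 𝒮 U) y) y.asHomogeneousIdeal.toIdeal _).mp hu') hmem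

end GrothLib.VA
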