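import Groth.Agent.Lib.VA.Rat
import Groth.Agent.Lib.VA.UnitGen

/-!
# Projective bundles and their points
-/

set_option autoImplicit false
set_option backward.isDefEq.respectTransparency false

universe u

open CategoryTheory CategoryTheory.Limits AlgebraicGeometry TopologicalSpace Opposite HomogeneousLocalization
open GrothLib.InvExt (mres fres IsGen)
open GrothLib.RelProjK (dg em vl vl_smul onChart mem_opensRange_em)

noncomputable section

namespace GrothLib.VA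

/-- The data of a projective bundle with its fundamental sheaf and canonical map. -/
structure Bdl (Y : Scheme.{u}) where
  E : Y.Modules
  isQCoh : Coh.IsQCoh E
  S : RelProj.QCGrAlg Y
  j : E ⟶ S.toModule
  isSym : RelProj.IsGrSymAlg E S j
  P : Scheme.{u}
  p : P ⟶ Y
  chart : ∀ (U : Y.Opens) (hU : IsAffineOpen U), (((p ⁻¹ᵁ U : P.Opens) : Scheme.{u}) ≅ Proj (S.deg U hU))
  isProj : RelProj.IsRelProj S p chart
  O : P.Modules
  lam : ∀ (U : Y.Opens) (hU : IsAffineOpen U),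
    O ⟶ (Scheme.Modules.pushforward (RelProj.emb p chart U hU)).obj (GrTwist.twist (S.deg U hU) 1)
  isTwist : RelProj.IsRelTwist S p chart 1 O lam
  can : E ⟶ (Scheme.Modules.pushforward p).obj O
  isCanon : IsCanon j lam can

namespace Bdl

variable {X Y : Scheme.{u}} (B : Bdl Y)

/-- The piece of a section. -/
abbrev piece (U : Y.AffineZariskiSite) (e : Γ(B.E, U.1)) : B.P.Opens := pc B.p B.chart B.j U e

/-- The image of a section on a piece. -/
abbrev img (U : Y.AffineZariskiSite) (e e' : Γ(B.E, U.1)) : Γ(B.O, B.piece U e) :=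
  cg (j := B.j) (chart := B.chart) B.can U e e'

theorem isGen_img (U : Y.AffineZariskiSite) (e : Γ(B.E, U.1)) : IsGen B.O (B.piece U e) (B.img U e e) :=
  isGen_canon B.isSym B.isTwist B.isCanon U e

theorem exists_img_eq (U : Y.AffineZariskiSite) (e e' : Γ(B.E, U.1)) :
    ∃ s : Γ(B.P, B.piece U e), B.img U e e' = s • B.img U e e := by
  obtain ⟨c, hc⟩ := (B.isGen_img U e).exists_smul_eq le_rfl (B.img U e e')
  exact ⟨c, by rwa [InvExt.mres_self] at hc⟩

theorem isInvertible : PicF.IsInvertible B.O := InvExt.isInvertible_of_gens fun z => by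
  obtain ⟨U, hU, hz, -⟩ := exists_isAffineOpen_mem_and_subset (Opens.mem_top (B.p z))
  obtain ⟨e, he⟩ := exists_pc (chart := B.chart) B.isQCoh B.isSym ⟨U, hU⟩ hz
  exact ⟨_, _, he, B.isGen_img ⟨U, hU⟩ e⟩

variable (g : X ⟶ Y) {L : X.Modules} (φ : B.E ⟶ (Scheme.Modules.pushforward g).obj L)

/-- The image of a section under a map to a direct image, as a section upstairs. -/
abbrev up {r : X ⟶ B.P} (θ : B.O ⟶ (Scheme.Modules.pushforward r).obj L) {D : B.P.Opens} (t : Γ(B.O, D)) :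
    Γ(L, r ⁻¹ᵁ D) :=
  θ.app D t

/-- `(r, θ)` lifts `(g, φ)` to the bundle. -/
structure IsLift (r : X ⟶ B.P) (θ : B.O ⟶ (Scheme.Modules.pushforward r).obj L) : Prop where
  comp : r ≫ B.p = g
  compat : ∀ (U : Y.AffineZariskiSite) (e : Γ(B.E, U.1)) (h : g ⁻¹ᵁ U.1 ≤ r ⁻¹ᵁ (B.p ⁻¹ᵁ U.1)),
    mres L h (B.up θ (show Γ(B.O, B.p ⁻¹ᵁ U.1) from B.can.app U.1 e)) = φ.app U.1 e
  gen : ∀ {D : B.P.Opens} (t : Γ(B.O, D)), IsGen B.O D t → IsGen L (r ⁻¹ᵁ D) (B.up θ t)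

variable {B g φ}

theorem comp_le {r : X ⟶ B.P} (hr : r ≫ B.p = g) (U : Y.Opens) : g ⁻¹ᵁ U ≤ r ⁻¹ᵁ (B.p ⁻¹ᵁ U) := by
  subst hr; exact le_rfl

theorem le_comp {r : X ⟶ B.P} (hr : r ≫ B.p = g) (U : Y.AffineZariskiSite) (e : Γ(B.E, U.1)) :
    r ⁻¹ᵁ B.piece U e ≤ g ⁻¹ᵁ U.1 := by
  subst hr; exact r.preimage_mono (pc_le U e)

theorem IsLift.app_img {r : X ⟶ B.P} {θ : B.O ⟶ (Scheme.Modules.pushforward r).obj L} (h : B.IsLift g φ r θ)
    (U : Y.AffineZariskiSite) (e e' : Γ(B.E, U.1)) :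
    B.up θ (B.img U e e') =
      mres L (le_comp h.comp U e) (show Γ(L, g ⁻¹ᵁ U.1) from φ.app U.1 e') := by
  rw [← h.compat U e' (comp_le h.comp _), InvExt.mres_mres]
  exact Ample.app_mres θ (pc_le U e) (show Γ(B.O, B.p ⁻¹ᵁ U.1) from B.can.app U.1 e')

theorem IsLift.preimage_piece {r : X ⟶ B.P} {θ : B.O ⟶ (Scheme.Modules.pushforward r).obj L}
    (h : B.IsLift g φ r θ) (U : Y.AffineZariskiSite) (e : Γ(B.E, U.1)) :
    r ⁻¹ᵁ B.piece U e = Tp g φ U e := by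
  refine le_antisymm (fun x hx => ?_) fun x hx => ?_
  · refine mem_genOpen.mpr ⟨_, le_comp h.comp U e, hx, ?_⟩
    rw [← h.app_img]
    exact h.gen _ (B.isGen_img U e)
  · have hgx : x ∈ g ⁻¹ᵁ U.1 := Tp_le g φ U e hx
    obtain ⟨e', he'⟩ := exists_pc (chart := B.chart) B.isQCoh B.isSym U (z := r x) (comp_le h.comp _ hgx)
    obtain ⟨s, hs⟩ := B.exists_img_eq U e' e
    have h1 : mres L (le_comp h.comp U e') (show Γ(L, g ⁻¹ᵁ U.1) from φ.app U.1 e) =
        r.app (B.piece U e') s • B.up θ (B.img U e' e') := by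
      rw [← h.app_img, hs]
      exact Ample.app_smul θ s _
    have hb := (genAt_iff_mem_basicOpen (le_comp h.comp U e') (h.gen _ (B.isGen_img U e')) h1 (x := x) he').mp
      (mem_genOpen.mp hx)
    rw [← Scheme.preimage_basicOpen] at hb
    exact mem_pc_of_genAt B.isQCoh B.isSym B.isCanon
      ((genAt_iff_mem_basicOpen (pc_le U e') (B.isGen_img U e') hs (x := r x) he').mpr hb)

theorem app_of_pt {U : Y.AffineZariskiSite} {e : Γ(B.E, U.1)} {r : X ⟶ B.P}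
    {g' : Away (dg B.S U) (ev B.j U e) →+* Γ((Tp g φ U e : Scheme.{u}), ⊤)}
    (h : (Tp g φ U e).ι ≫ r = ProjPt.pt (dg B.S U) (x := ev B.j U e) (B.isSym.2 U.1 U.2 e) one_pos g' ≫
      em B.p B.chart U)
    (hle : Tp g φ U e ≤ r ⁻¹ᵁ B.piece U e) {s : Γ(B.P, B.piece U e)} {z : Away (dg B.S U) (ev B.j U e)}
    (hem : Proj.basicOpen (dg B.S U) (ev B.j U e) ≤ em B.p B.chart U ⁻¹ᵁ B.piece U e)
    (hs : ((em B.p B.chart U).appLE (B.piece U e) _ hem).hom s = Proj.awayToSection (dg B.S U) (ev B.j U e) z) :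
    (Tp g φ U e).topIso.inv ((r.appLE (B.piece U e) (Tp g φ U e) hle).hom s) = g' z := by
  let l := ProjPt.pt (dg B.S U) (x := ev B.j U e) (B.isSym.2 U.1 U.2 e) one_pos g'
  have e1 : (⊤ : (Tp g φ U e : Scheme.{u}).Opens) ≤ l ⁻¹ᵁ Proj.basicOpen (dg B.S U) (ev B.j U e) :=
    (ProjPt.pt_preimage_self (dg B.S U) _ _ _).ge
  have h1 := Ample.ProjMap.pt_appLE_awayToSection (dg B.S U) (x := ev B.j U e) (B.isSym.2 U.1 U.2 e) one_pos g' z e1
  refine Eq.trans ?_ h1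
  rw [← hs]
  show _ = ((em B.p B.chart U).appLE _ _ hem ≫ l.appLE _ _ e1).hom s
  rw [Scheme.Hom.appLE_comp_appLE]
  have : ∀ (k : (Tp g φ U e : Scheme.{u}) ⟶ B.P) (_ : (Tp g φ U e).ι ≫ r = k) (hk : ⊤ ≤ k ⁻¹ᵁ B.piece U e),
      (Tp g φ U e).topIso.inv ((r.appLE (B.piece U e) (Tp g φ U e) hle).hom s) =
        (k.appLE (B.piece U e) ⊤ hk).hom s := by
    rintro k rfl hk
    rw [← Scheme.Hom.appLE_comp_appLE (Tp g φ U e).ι r _ (Tp g φ U e) ⊤ hle (Tp g φ U e).ι_preimage_self.ge,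
      CommRingCat.comp_apply, Scheme.Opens.ι_appLE]
    rfl
  exact this _ h _

theorem appLE_str (U : Y.AffineZariskiSite) (e : Γ(B.E, U.1)) (r₀ : Γ(Y, U.1))
    (hem : Proj.basicOpen (dg B.S U) (ev B.j U e) ≤ em B.p B.chart U ⁻¹ᵁ B.piece U e) :
    ((em B.p B.chart U).appLE (B.piece U e) _ hem).hom (fres B.P (pc_le U e) (B.p.app U.1 r₀)) =
      Proj.awayToSection (dg B.S U) (ev B.j U e) (fromZeroRingHom (dg B.S U) _ ((B.S.strZero U.1 U.2).hom r₀)) := by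
  refine Subtype.ext (funext fun y => HomogeneousLocalization.val_injective _ ?_)
  refine Eq.trans ?_ (ProjectiveSpectrum.Proj.awayToSection_apply (dg B.S U) (ev B.j U e) _ y).symm
  rw [fres, ← CommRingCat.comp_apply (B.P.presheaf.map _), Scheme.Hom.map_appLE, Scheme.Hom.appLE,
    CommRingCat.comp_apply]
  refine (val_app_str B.isProj U r₀ y.1 (pc_le U e (hem y.2))).trans ?_
  simp only [fromZeroRingHom, RingHom.coe_mk, MonoidHom.coe_mk, OneHom.coe_mk, HomogeneousLocalization.val_mk,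
    Localization.mk_eq_mk', IsLocalization.map_mk', RingHom.id_apply]
  rw [IsLocalization.eq_mk'_iff_mul_eq]
  simp
  try rfl

theorem evalAway_ratio (hE : Coh.IsQCoh B.E) (U : Y.AffineZariskiSite) (e e' : Γ(B.E, U.1)) :
    ProjPt.evalAway (dg B.S U) (psiT hE B.isSym g φ U e) (ev B.j U e) (psiT_unit hE B.isSym g φ U e)
      (Away.mk (dg B.S U) (f := ev B.j U e) (B.isSym.2 U.1 U.2 e) 1 (ev B.j U e')
        (by simpa using B.isSym.2 U.1 U.2 e')) = psiT hE B.isSym g φ U e (ev B.j U e') := by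
  have h := ProjPt.evalAway_mk_spec (dg B.S U) (psiT hE B.isSym g φ U e) (x := ev B.j U e) (B.isSym.2 U.1 U.2 e)
    (psiT_unit hE B.isSym g φ U e) 1 (ev B.j U e') (by simpa using B.isSym.2 U.1 U.2 e')
  rwa [psiT_self, one_pow, mul_one] at h

theorem IsLift.ι_comp {r : X ⟶ B.P} {θ : B.O ⟶ (Scheme.Modules.pushforward r).obj L}
    (h : B.IsLift g φ r θ) (U : Y.AffineZariskiSite) (e : Γ(B.E, U.1)) :
    (Tp g φ U e).ι ≫ r = qp B.p B.chart B.isQCoh B.isSym g φ U e := by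
  have hle : Tp g φ U e ≤ r ⁻¹ᵁ B.piece U e := (h.preimage_piece U e).ge
  have hrange : Set.range ((Tp g φ U e).ι ≫ r) ⊆ Set.range (em B.p B.chart U) := by
    rintro _ ⟨x, rfl⟩
    exact (mem_opensRange_em (chart := B.chart) U).mpr (pc_le U e (hle x.2))
  let l := IsOpenImmersion.lift (em B.p B.chart U) ((Tp g φ U e).ι ≫ r) hrange
  have hl : l ≫ em B.p B.chart U = (Tp g φ U e).ι ≫ r := IsOpenImmersion.lift_fac _ _ _
  have hl' : l ⁻¹ᵁ Proj.basicOpen (dg B.S U) (ev B.j U e) = ⊤ := by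
    refine eq_top_iff.mpr fun x _ => ?_
    refine mem_pc.mp (?_ : em B.p B.chart U (l x) ∈ B.piece U e)
    rw [← Scheme.Hom.comp_apply, hl]
    exact hle x.2
  obtain ⟨g', hg'⟩ := ProjPt.exists_eq_pt (dg B.S U) (x := ev B.j U e) (B.isSym.2 U.1 U.2 e) one_pos l hl'
  rw [← hl, qp, qc, hg']
  refine congrArg (· ≫ em B.p B.chart U)
    (congrArg (ProjPt.pt (dg B.S U) (x := ev B.j U e) (B.isSym.2 U.1 U.2 e) one_pos) ?_)
  have key := fun {s} {z} (hs) => app_of_pt (B := B) (g := g) (φ := φ) (U := U) (e := e) (r := r) (g' := g')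
    (by rw [← hl, hg']) hle (s := s) (z := z) (fun y hy => ⟨y, hy, rfl⟩) hs
  refine away_hom_ext (𝒜 := dg B.S U) (f := ev B.j U e) (B.isSym.2 U.1 U.2 e) (Set.range (ev B.j U)) ?_ ?_ (fun a => ?_) ?_
  · refine eq_top_iff.mpr ((closure_str_ev B.isQCoh B.isSym U).ge.trans
      (Subring.closure_mono (Set.union_subset_union_left _ ?_)))
    rintro _ ⟨r₀, rfl⟩
    exact B.S.str_mem U.1 U.2 r₀
  · rintro _ ⟨b, rfl⟩; exact B.isSym.2 U.1 U.2 b
  · obtain ⟨r₀, rfl⟩ := (str_bijective_zero B.isQCoh B.isSym U.1 U.2).2 a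
    rw [← key (appLE_str U e r₀ _), evalAway_fromZero (𝒜 := dg B.S U) _ (x := ev B.j U e) (B.isSym.2 U.1 U.2 e)]
    show _ = (Tp g φ U e).topIso.inv (psi B.isQCoh B.isSym g φ U e ((B.S.str.app (op U.1)).hom r₀))
    rw [(psi_spec B.isQCoh B.isSym g φ U e).1 r₀]
    refine congrArg _ ?_
    obtain rfl := h.comp
    show ((B.p.app U.1 ≫ B.P.presheaf.map _) ≫ r.appLE _ _ _).hom r₀ = ((r ≫ B.p).app U.1 ≫ X.presheaf.map _).hom r₀
    simp only [Scheme.Hom.appLE, Scheme.Hom.comp_app, Category.assoc, Scheme.Hom.naturality_assoc, ← Functor.map_comp]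
    rfl
  · rintro _ ⟨b, rfl⟩
    obtain ⟨s, hs⟩ := B.exists_img_eq U e b
    rw [← key (appLE_rat B.isSym B.isCanon U e b hs _), evalAway_ratio]
    refine congrArg _ ((isGen_gp g φ U e).smul_left_injective le_rfl ?_)
    rw [InvExt.mres_self, ← (psi_spec B.isQCoh B.isSym g φ U e).2]
    have h1 : B.up θ (B.img U e b) =
        r.app (B.piece U e) s • B.up θ (B.img U e e) := by
      rw [hs]; exact Ample.app_smul θ s _
    rw [h.app_img, h.app_img] at h1
    have h2 := congrArg (mres L hle) h1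
    rw [InvExt.mres_smul, InvExt.mres_mres, InvExt.mres_mres] at h2
    exact h2.symm

theorem IsLift.unique (hφ : IsGenBy g φ) {r r' : X ⟶ B.P} {θ : B.O ⟶ (Scheme.Modules.pushforward r).obj L}
    {θ' : B.O ⟶ (Scheme.Modules.pushforward r').obj L} (h : B.IsLift g φ r θ) (h' : B.IsLift g φ r' θ') :
    r = r' := by
  refine (X.openCoverOfIsOpenCover (fun i : Σ U : Y.AffineZariskiSite, Γ(B.E, U.1) => Tp g φ i.1 i.2)
    (IsOpenCover.mk (eq_top_iff.mpr fun x _ => ?_))).hom_ext _ _ fun i => (h.ι_comp i.1 i.2).trans (h'.ι_comp i.1 i.2).symm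
  obtain ⟨U, hU, e, he⟩ := hφ x
  exact Opens.mem_iSup.mpr ⟨⟨⟨U, hU⟩, e⟩, mem_genOpen.mpr he⟩

end Bdl

end GrothLib.VA
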