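import Groth.Agent.Lib.VA.AffImm
import Groth.Agent.Lib.VA.BaseChange
import Groth.Agent.Lib.VA.Tensor
import Groth.Agent.Lib.VA.Local

/-!
# Composing very ample modules, the first one given by global sections
-/

set_option autoImplicit false
set_option backward.isDefEq.respectTransparency false

universe u

open CategoryTheory CategoryTheory.Limits AlgebraicGeometry TopologicalSpace Opposite
open AlgebraicGeometry.AffineSpace
open GrothLib.InvExt (mres fres IsGen)

noncomputable section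

namespace GrothLib.VA

variable {X Y Z : Scheme.{u}}

/-- Global sections of `L` embed `X` into affine spaces over affine opens of `Y`, piece by piece. -/
def GlobalPieces (f : X ⟶ Y) (L : X.Modules) : Prop :=
  ∀ x : X, ∃ (σ : Γ(L, ⊤)) (U : Y.Opens) (J : Type u) (τ : J → Γ(L, ⊤)) (v : J → Γ(X, genOpen L σ))
    (hle : genOpen L σ ≤ f ⁻¹ᵁ U), x ∈ genOpen L σ ∧ IsAffineOpen U ∧
      (∀ j, mres L (le_top : genOpen L σ ≤ ⊤) (τ j) = v j • mres L (le_top : genOpen L σ ≤ ⊤) σ) ∧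
      IsImmersion (homOfVector (f.resLE U (genOpen L σ) hle) fun j => (genOpen L σ).topIso.inv (v j))

theorem isRelVeryAmple_comp_of_globalPieces (f : X ⟶ Y) (g : Y ⟶ Z) [QuasiCompact (f ≫ g)] [IsSeparated f]
    {L : X.Modules} (hL : PicF.IsInvertible L) {K : Y.Modules} (hK : PicF.IsInvertible K)
    (hKva : RelProj.IsRelVeryAmple g K) (h : GlobalPieces f L) :
    RelProj.IsRelVeryAmple (f ≫ g) (CohB1.tensorMod L ((Scheme.Modules.pullback f).obj K)) := by
  have hfK := Ample.isInvertible_pullback f hK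
  let L'' := CohB1.tensorMod L ((Scheme.Modules.pullback f).obj K)
  haveI : L''.IsQuasicoherent := InvExt.isQuasicoherent_of_isInvertible (Ample.isInvertible_tensorMod hL hfK)
  haveI := isSeparated_of_isRelVeryAmple hKva
  obtain ⟨E, ψ, -, hp⟩ := isRelVeryAmple_iff.mp hKva
  refine isRelVeryAmple_iff.mpr ⟨_, 𝟙 _, QCoh.isQuasicoherent_pushforward (f ≫ g) L'', fun x => ?_⟩
  obtain ⟨W, e, hy, hpi⟩ := hp (f x)
  obtain ⟨σ, U, J, τ, v, hle, hx, hU, hτ, hv⟩ := h x
  let φ := 𝟙 ((Scheme.Modules.pushforward (f ≫ g)).obj L'')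
  let u := (Scheme.Modules.pullbackPushforwardAdjunction f).unit.app K
  let TY := Tp g ψ W e
  let kk : Γ(E, W.1) → Γ(K, g ⁻¹ᵁ W.1) := fun b => ψ.app W.1 b
  let uK : Γ(E, W.1) → Γ((Scheme.Modules.pullback f).obj K, f ⁻¹ᵁ (g ⁻¹ᵁ W.1)) := fun b => u.app (g ⁻¹ᵁ W.1) (kk b)
  let sec : Γ(L, ⊤) → Γ(E, W.1) → Γ((Scheme.Modules.pushforward (f ≫ g)).obj L'', W.1) := fun s b =>
    tm (mres L (le_top : f ⁻¹ᵁ (g ⁻¹ᵁ W.1) ≤ ⊤) s) (uK b)
  let e'' := sec σ e
  let T' := Tp (f ≫ g) φ W e''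
  have hT : T' = genOpen L σ ⊓ f ⁻¹ᵁ TY := by
    ext z
    show z ∈ genOpen L'' (tm (mres L (le_top : f ⁻¹ᵁ (g ⁻¹ᵁ W.1) ≤ ⊤) σ) (uK e)) ↔
      z ∈ genOpen L σ ∧ f z ∈ genOpen K (kk e)
    rw [mem_genOpen, mem_genOpen, mem_genOpen, genAt_tm hL hfK, genAt_mres, genAt_unit_iff f hK]
    exact ⟨fun a => ⟨a.1.2, a.2⟩, fun a => ⟨⟨Tp_le g ψ W e (mem_genOpen.mpr a.2), a.1⟩, a.2⟩⟩
  have hσ : T' ≤ genOpen L σ := hT.le.trans inf_le_left
  have hY : T' ≤ f ⁻¹ᵁ TY := hT.le.trans inf_le_right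
  refine ⟨W, e'', hT.ge ⟨hx, hy⟩, ?_⟩
  let U' := U ⊓ TY
  have hU' : T' ≤ f ⁻¹ᵁ U' := le_inf (hσ.trans hle) hY
  let k : U'.toScheme ⟶ _ := Y.homOfLE (inf_le_right : U' ≤ TY) ≫ toAff (TY.topIso.inv.hom.comp (RS g ψ W e).subtype)
  haveI : IsImmersion (toAff (TY.topIso.inv.hom.comp (RS g ψ W e).subtype)) := hpi
  haveI : IsImmersion k := inferInstance
  let R := (RS (f ≫ g) φ W e'').map T'.topIso.inv.hom
  haveI := hv
  haveI := isImmersion_homOfVector_of_restrict (f.resLE U (genOpen L σ) hle) (fun j => (genOpen L σ).topIso.inv (v j))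
    (X.homOfLE hσ) (f.resLE U' T' hU') (Y.homOfLE (inf_le_left : U' ≤ U)) k
    (by rw [Scheme.Hom.map_resLE, Scheme.Hom.resLE_map])
  have h1 : IsImmersion (toAff R.subtype) := by
    refine isImmersion_toAff_of_homOfVector (f.resLE U' T' hU' ≫ k)
      (fun j => (X.homOfLE hσ).appTop ((genOpen L σ).topIso.inv (v j))) R (fun s => ?_) fun j => ?_
    · obtain ⟨a, rfl⟩ := (ConcreteCategory.bijective_of_isIso
        (Scheme.ΓSpecIso (CommRingCat.of (RS g ψ W e))).inv).2 s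
      refine ⟨f.appLE TY T' hY a.1, ?_, ?_⟩
      · refine map_mem_of_RS (g := g) (φ := ψ) (f.appLE TY T' hY).hom (RS (f ≫ g) φ W e'') (fun r => ?_)
          (fun b => ?_) a.2
        · have h2 := base_mem_RS (f ≫ g) φ W e'' r
          refine Eq.mpr (congrArg (· ∈ RS (f ≫ g) φ W e'') ?_) h2
          show (Y.presheaf.map (homOfLE _).op ≫ f.appLE TY T' hY).hom (g.app W.1 r) = _
          rw [Scheme.Hom.map_appLE]
          rfl
        · have hr : rat (f ≫ g) φ W e'' (sec σ b) = (f.appLE TY T' hY).hom (rat g ψ W e b) := by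
            refine rat_eq ?_
            show mres L'' _ (tm (mres L (le_top : f ⁻¹ᵁ (g ⁻¹ᵁ W.1) ≤ ⊤) σ) (uK b)) =
              _ • mres L'' _ (tm (mres L (le_top : f ⁻¹ᵁ (g ⁻¹ᵁ W.1) ≤ ⊤) σ) (uK e))
            rw [mres_tm, mres_tm, ← tm_smul_right]
            refine congrArg (tm _) ?_
            have h3 : (show Γ((Scheme.Modules.pullback f).obj K, f ⁻¹ᵁ TY) from u.app TY (gp g ψ W e b)) =
                (f.appLE TY (f ⁻¹ᵁ TY) le_rfl).hom (rat g ψ W e b) •
                  (show Γ((Scheme.Modules.pullback f).obj K, f ⁻¹ᵁ TY) from u.app TY (gp g ψ W e e)) :=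
              ((congrArg (u.app TY) (rat_spec g ψ W e b)).trans (Ample.app_smul u _ _)).trans
                (Ample.pushforward_smul f ((Scheme.Modules.pullback f).obj K) (V := TY) _ _)
            have h4 := congrArg (mres ((Scheme.Modules.pullback f).obj K) hY) h3
            rw [InvExt.mres_smul] at h4
            have h5 : ∀ b', mres ((Scheme.Modules.pullback f).obj K) hY
                (show Γ((Scheme.Modules.pullback f).obj K, f ⁻¹ᵁ TY) from u.app TY (gp g ψ W e b')) =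
                mres ((Scheme.Modules.pullback f).obj K) (Tp_le (f ≫ g) φ W e'') (uK b') := fun b' => by
              refine (congrArg (mres _ hY) (Ample.app_mres u (Tp_le g ψ W e) (kk b'))).trans ?_
              exact InvExt.mres_mres _ _ _ _
            refine (h5 b).symm.trans (h4.trans ?_)
            refine congrArg₂ (· • ·) ?_ (h5 e)
            show (f.appLE TY (f ⁻¹ᵁ TY) le_rfl ≫ X.presheaf.map (homOfLE hY).op).hom _ = _
            rw [Scheme.Hom.appLE_map]
          rw [← hr]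
          exact rat_mem_RS (f ≫ g) φ W e'' _
      · rw [Scheme.Hom.comp_appTop, CommRingCat.comp_apply]
        simp only [k, Scheme.Hom.comp_appTop, CommRingCat.comp_apply]
        rw [toAff_appTop]
        show _ = (f.resLE U' T' hU').appTop ((Y.homOfLE (inf_le_right : U' ≤ TY)).appTop (TY.topIso.inv a.1))
        rw [oRes_topIso, appTop_resLE_topIso]
        show T'.topIso.inv _ = T'.topIso.inv ((Y.presheaf.map (homOfLE _).op ≫ f.appLE U' T' hU').hom _)
        rw [Scheme.Hom.map_appLE]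
    · refine ⟨fres X hσ (v j), ?_, (oRes_topIso hσ (v j)).symm⟩
      have hr : rat (f ≫ g) φ W e'' (sec (τ j) e) = fres X hσ (v j) := by
        refine rat_eq ?_
        show mres L'' _ (tm (mres L (le_top : f ⁻¹ᵁ (g ⁻¹ᵁ W.1) ≤ ⊤) (τ j)) (uK e)) =
          _ • mres L'' _ (tm (mres L (le_top : f ⁻¹ᵁ (g ⁻¹ᵁ W.1) ≤ ⊤) σ) (uK e))
        rw [mres_tm, mres_tm, ← tm_smul_left]
        refine congrArg (fun s => tm s _) ?_
        have h3 := congrArg (mres L hσ) (hτ j)
        rw [InvExt.mres_smul] at h3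
        simp only [InvExt.mres_mres] at h3 ⊢
        exact h3
      rw [← hr]
      exact rat_mem_RS (f ≫ g) φ W e'' _
  refine isImmersion_toAff_of_range_le _ _ ?_ h1
  rintro _ ⟨⟨_, a, ha, rfl⟩, rfl⟩
  exact ⟨⟨a, ha⟩, rfl⟩

end GrothLib.VA
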