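import Groth.Agent.Lib.VA.Psi

/-!
# The morphism to a projective bundle given by a generated invertible module
-/

set_option autoImplicit false
set_option backward.isDefEq.respectTransparency false

universe u

open CategoryTheory CategoryTheory.Limits AlgebraicGeometry TopologicalSpace Opposite HomogeneousLocalization
open scoped HomogeneousIdeal
open GrothLib.InvExt (mres fres IsGen)
open GrothLib.RelProjK (dg rs rs_irr em em_comap map_rs_em mem_opensRange_em)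

noncomputable section

namespace GrothLib.VA

section pt

variable {A B : Type u} [CommRing A] [CommRing B] {σ τ : Type u} [SetLike σ A] [AddSubgroupClass σ A]
  [SetLike τ B] [AddSubgroupClass τ B] {𝒜 : ℕ → σ} {ℬ : ℕ → τ} [GradedRing 𝒜] [GradedRing ℬ]

theorem evalAway_fromZero {S : Type u} [CommRing S] (f : A →+* S) {d : ℕ} {x : A} (hxd : x ∈ 𝒜 d)
    (hx : IsUnit (f x)) (a : 𝒜 0) : ProjPt.evalAway 𝒜 f x hx (fromZeroRingHom 𝒜 _ a) = f (a : A) := by
  have e : fromZeroRingHom 𝒜 (Submonoid.powers x) a = Away.mk 𝒜 hxd 0 (a : A) (by simp) := by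
    ext
    simp [fromZeroRingHom, HomogeneousLocalization.val_mk]
  rw [e]
  simpa using ProjPt.evalAway_mk_spec 𝒜 f hxd hx 0 (a : A) (by simp)

theorem pt_toSpecZero {T : Scheme.{u}} {d : ℕ} {x : A} (hxd : x ∈ 𝒜 d) (hd : 0 < d) (g : Away 𝒜 x →+* Γ(T, ⊤)) :
    ProjPt.pt 𝒜 hxd hd g ≫ Proj.toSpecZero 𝒜 =
      T.toSpecΓ ≫ Spec.map (CommRingCat.ofHom (g.comp (fromZeroRingHom 𝒜 _))) := by
  rw [ProjPt.pt, Category.assoc, Category.assoc, Proj.awayι_toSpecZero, ← Spec.map_comp, ← CommRingCat.ofHom_comp]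

theorem pt_map (ψ : 𝒜 →+*ᵍ ℬ) (hψ : ℬ₊ ≤ (𝒜₊).map ψ) {T : Scheme.{u}} {d : ℕ} {s : A} (hs : s ∈ 𝒜 d)
    (hd : 0 < d) {y : B} (hy : y ∈ ℬ d) (e : y = ψ s) (f : B →+* Γ(T, ⊤)) (hf : IsUnit (f y))
    (hf' : IsUnit (f.comp ψ.toRingHom s)) :
    ProjPt.pt ℬ hy hd (ProjPt.evalAway ℬ f y hf) ≫ Proj.map ψ hψ =
      ProjPt.pt 𝒜 hs hd (ProjPt.evalAway 𝒜 (f.comp ψ.toRingHom) s hf') := by
  subst e
  rw [ProjPt.pt, ProjPt.pt, Category.assoc, Category.assoc, Proj.awayι_comp_map ψ hψ hd s hs,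
    ← Spec.map_comp_assoc, ← CommRingCat.ofHom_comp]
  congr 4
  refine RingHom.ext fun z => ?_
  obtain ⟨n, a, ha, rfl⟩ := Away.mk_surjective 𝒜 hs z
  refine (hf'.pow n).mul_left_injective ?_
  dsimp only
  rw [RingHom.comp_apply, Away.map_mk, ProjPt.evalAway_mk_spec, show (f.comp ψ.toRingHom) s = f (ψ s) from rfl,
    ProjPt.evalAway_mk_spec]
  rfl

theorem pt_congr {T : Scheme.{u}} {d : ℕ} {x : A} (hxd : x ∈ 𝒜 d) (hd : 0 < d) {f f' : A →+* Γ(T, ⊤)} (e : f = f')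
    (hf : IsUnit (f x)) (hf' : IsUnit (f' x)) :
    ProjPt.pt 𝒜 hxd hd (ProjPt.evalAway 𝒜 f x hf) = ProjPt.pt 𝒜 hxd hd (ProjPt.evalAway 𝒜 f' x hf') := by
  subst e; rfl

theorem eq_pow_mul_of_closure {S : Type u} [CommRing S] (G : Set A)
    (hG : Subring.closure ((𝒜 0 : Set A) ∪ G) = ⊤) (hG1 : ∀ x ∈ G, x ∈ 𝒜 1) (f g : A →+* S) (c : S)
    (h0 : ∀ a ∈ 𝒜 0, g a = f a) (h1 : ∀ x ∈ G, g x = c * f x) : ∀ n, ∀ a ∈ 𝒜 n, g a = c ^ n * f a := by
  classical
  suffices H : ∀ a ∈ Subring.closure ((𝒜 0 : Set A) ∪ G), ∀ n,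
      g (DirectSum.decompose 𝒜 a n : A) = c ^ n * f (DirectSum.decompose 𝒜 a n : A) by
    intro n a ha
    have := H a (hG.ge (Subring.mem_top a)) n
    rwa [DirectSum.decompose_of_mem_same 𝒜 ha] at this
  have single : ∀ {m : ℕ} {a : A}, a ∈ 𝒜 m → g a = c ^ m * f a → ∀ n,
      g (DirectSum.decompose 𝒜 a n : A) = c ^ n * f (DirectSum.decompose 𝒜 a n : A) := by
    intro m a ha h n
    rcases eq_or_ne m n with rfl | hne
    · rwa [DirectSum.decompose_of_mem_same 𝒜 ha]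
    · rw [DirectSum.decompose_of_mem_ne 𝒜 ha hne, map_zero, map_zero, mul_zero]
  intro a ha
  induction ha using Subring.closure_induction with
  | mem x hx =>
    rcases hx with hx | hx
    · exact single hx (by rw [pow_zero, one_mul]; exact h0 x hx)
    · exact single (hG1 x hx) (by rw [pow_one]; exact h1 x hx)
  | zero => exact single (zero_mem (𝒜 0)) (by simp)
  | one => exact single (SetLike.GradedOne.one_mem (A := 𝒜)) (by simp)
  | add x y _ _ hx hy =>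
    intro n
    rw [DirectSum.decompose_add, DirectSum.add_apply, AddMemClass.coe_add, map_add, map_add, hx n, hy n, mul_add]
  | neg x _ hx =>
    intro n
    rw [DirectSum.decompose_neg, DFinsupp.neg_apply, NegMemClass.coe_neg, map_neg, map_neg, hx n, mul_neg]
  | mul x y _ _ hx hy =>
    intro n
    rw [DirectSum.decompose_mul, DirectSum.coe_mul_apply, map_sum, map_sum, Finset.mul_sum]
    refine Finset.sum_congr rfl fun ij hij => ?_
    obtain rfl : ij.1 + ij.2 = n := (Finset.mem_filter.mp hij).2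
    rw [map_mul, map_mul, hx ij.1, hy ij.2, pow_add]
    ring

end pt

variable {Y P : Scheme.{u}} {E : Y.Modules} {𝒮 : RelProj.QCGrAlg Y} {p : P ⟶ Y}
  {chart : ∀ (U : Y.Opens) (hU : IsAffineOpen U), (((p ⁻¹ᵁ U : P.Opens) : Scheme.{u}) ≅ Proj (𝒮.deg U hU))}
  {j : E ⟶ 𝒮.toModule} (hE : Coh.IsQCoh E) (hj : RelProj.IsGrSymAlg E 𝒮 j)
  {X : Scheme.{u}} (g : X ⟶ Y)
  {L : X.Modules} (φ : E ⟶ (Scheme.Modules.pushforward g).obj L)

/-- The ring map on a piece. -/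
def psi (U : Y.AffineZariskiSite) (e : Γ(E, U.1)) : 𝒮.presheaf.obj (op U.1) →+* Γ(X, Tp g φ U e) :=
  (exists_isPsi g φ hE hj U e).choose

theorem psi_spec (U : Y.AffineZariskiSite) (e : Γ(E, U.1)) : IsPsi j g φ U e (psi hE hj g φ U e) :=
  (exists_isPsi g φ hE hj U e).choose_spec

/-- The ring map on a piece, to its functions. -/
def psiT (U : Y.AffineZariskiSite) (e : Γ(E, U.1)) :
    𝒮.presheaf.obj (op U.1) →+* Γ((Tp g φ U e : Scheme.{u}), ⊤) :=
  (Tp g φ U e).topIso.inv.hom.comp (psi hE hj g φ U e)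

theorem psiT_self (U : Y.AffineZariskiSite) (e : Γ(E, U.1)) : psiT hE hj g φ U e (ev j U e) = 1 := by
  rw [psiT, RingHom.comp_apply, (psi_spec hE hj g φ U e).self, map_one]

theorem psiT_unit (U : Y.AffineZariskiSite) (e : Γ(E, U.1)) : IsUnit (psiT hE hj g φ U e (ev j U e)) := by
  rw [psiT_self]; exact isUnit_one

/-- The morphism on a piece, to the homogeneous spectrum of the chart. -/
def qc (U : Y.AffineZariskiSite) (e : Γ(E, U.1)) : (Tp g φ U e : Scheme.{u}) ⟶ Proj (dg 𝒮 U) :=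
  ProjPt.pt (dg 𝒮 U) (x := ev j U e) (hj.2 U.1 U.2 e) one_pos
    (ProjPt.evalAway (dg 𝒮 U) (psiT hE hj g φ U e) (ev j U e) (psiT_unit hE hj g φ U e))

variable (p chart) in
/-- The morphism on a piece. -/
def qp (U : Y.AffineZariskiSite) (e : Γ(E, U.1)) : (Tp g φ U e : Scheme.{u}) ⟶ P :=
  qc hE hj g φ U e ≫ em p chart U

theorem qp_comp (hP : RelProj.IsRelProj 𝒮 p chart) (U : Y.AffineZariskiSite) (e : Γ(E, U.1)) :
    qp p chart hE hj g φ U e ≫ p = (Tp g φ U e).ι ≫ g := by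
  have hle : (⊤ : (Tp g φ U e : Scheme.{u}).Opens) ≤ ((Tp g φ U e).ι ≫ g) ⁻¹ᵁ U.1 :=
    fun x _ => Tp_le g φ U e x.2
  rw [qp, Category.assoc, em_comp hP U, qc, reassoc_of% (pt_toSpecZero (𝒜 := dg 𝒮 U) _ _ _),
    ← Spec.map_comp_assoc, eq_toSpecΓ_fromSpec U.2 ((Tp g φ U e).ι ≫ g) hle]
  congr 3
  refine CommRingCat.hom_ext (RingHom.ext fun r => ?_)
  show ProjPt.evalAway (dg 𝒮 U) (psiT hE hj g φ U e) (ev j U e) (psiT_unit hE hj g φ U e)
    (fromZeroRingHom (dg 𝒮 U) _ ((𝒮.strZero U.1 U.2).hom r)) = _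
  rw [evalAway_fromZero (𝒜 := dg 𝒮 U) _ (x := ev j U e) (hj.2 U.1 U.2 e)]
  show (Tp g φ U e).topIso.inv ((psi hE hj g φ U e) ((𝒮.str.app (op U.1)).hom r)) = _
  rw [(psi_spec hE hj g φ U e).1 r,
    ← Scheme.Hom.appLE_comp_appLE (Tp g φ U e).ι g U.1 (Tp g φ U e) ⊤ (Tp_le g φ U e)
      (Tp g φ U e).ι_preimage_self.ge, Scheme.Opens.ι_appLE]
  rfl

/-- Restriction of functions between open subschemes. -/
abbrev oRes {W W' : X.Opens} (h : W' ≤ W) : Γ((W : Scheme.{u}), ⊤) →+* Γ((W' : Scheme.{u}), ⊤) :=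
  (X.homOfLE h).appTop.hom

theorem oRes_topIso {W W' : X.Opens} (h : W' ≤ W) (a : Γ(X, W)) :
    oRes h (W.topIso.inv a) = W'.topIso.inv (fres X h a) := by
  show (X.homOfLE h).appTop (W.topIso.inv a) = _
  simp only [Scheme.homOfLE_appTop, Scheme.Opens.topIso_inv, fres]
  rw [← CommRingCat.comp_apply, ← CommRingCat.comp_apply, ← Functor.map_comp, ← Functor.map_comp]
  rfl

include hE hj in
theorem qp_rE (hP : RelProj.IsRelProj 𝒮 p chart) {U V : Y.AffineZariskiSite} (h : V ≤ U) (e : Γ(E, U.1))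
    (hle : Tp g φ V (rE h e) ≤ Tp g φ U e) :
    X.homOfLE hle ≫ qp p chart hE hj g φ U e = qp p chart hE hj g φ V (rE h e) := by
  rw [qp, qp, ← map_rs_em hP h, ← Category.assoc, ← Category.assoc (qc _ _ _ _ V _)]
  congr 1
  have hu : IsUnit ((psiT hE hj g φ V (rE h e)).comp (rs 𝒮 h).toRingHom (ev j U e)) := by
    rw [RingHom.comp_apply, show (rs 𝒮 h).toRingHom (ev j U e) = ev j V (rE h e) from rs_ev j h e]
    exact psiT_unit hE hj g φ V _
  rw [qc, qc, ProjPt.comp_pt, ProjPt.comp_evalAway (dg 𝒮 U) _ _ (x := ev j U e) (hj.2 U.1 U.2 e),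
    pt_map (rs 𝒮 h) (rs_irr 𝒮 h) (hj.2 U.1 U.2 e) one_pos _ (rs_ev j h e).symm _ _ hu]
  refine pt_congr _ _ (hom_ext_sym hE hj U (fun r => ?_) fun e' => ?_) _ _
  · show oRes hle ((Tp g φ U e).topIso.inv (psi hE hj g φ U e ((𝒮.str.app (op U.1)).hom r))) =
      (Tp g φ V (rE h e)).topIso.inv (psi hE hj g φ V (rE h e) ((𝒮.presheaf.map _).hom ((𝒮.str.app (op U.1)).hom r)))
    rw [oRes_topIso, (psi_spec hE hj g φ U e).1 r,
      show (𝒮.presheaf.map (homOfLE (Scheme.AffineZariskiSite.toOpens_mono h)).op).hom ((𝒮.str.app (op U.1)).hom r) =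
        (𝒮.str.app (op V.1)).hom (Y.presheaf.map (homOfLE (Scheme.AffineZariskiSite.toOpens_mono h)).op r) from
        (ConcreteCategory.congr_hom (𝒮.str.naturality (homOfLE (Scheme.AffineZariskiSite.toOpens_mono h)).op) r).symm,
      (psi_spec hE hj g φ V (rE h e)).1]
    congr 1
    simp only [fres, ← CommRingCat.comp_apply, Scheme.Hom.naturality, Category.assoc, ← Functor.map_comp]
    rfl
  · show oRes hle ((Tp g φ U e).topIso.inv (psi hE hj g φ U e (ev j U e'))) =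
      (Tp g φ V (rE h e)).topIso.inv (psi hE hj g φ V (rE h e) (rs 𝒮 h (ev j U e')))
    rw [oRes_topIso, rs_ev]
    refine congrArg _ ((isGen_gp g φ V (rE h e)).smul_left_injective le_rfl ?_)
    rw [InvExt.mres_self, ← (psi_spec hE hj g φ V (rE h e)).2]
    have h0 := congrArg (mres L hle) ((psi_spec hE hj g φ U e).2 e')
    rw [InvExt.mres_smul, ← gp_rE g φ h e e' le_rfl hle, ← gp_rE g φ h e e le_rfl hle, InvExt.mres_self,
      InvExt.mres_self] at h0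
    exact h0.symm

include hE hj in
theorem qp_agree_same (U : Y.AffineZariskiSite) (e e' : Γ(E, U.1)) {W : X.Opens} (h : W ≤ Tp g φ U e)
    (h' : W ≤ Tp g φ U e') :
    X.homOfLE h ≫ qp p chart hE hj g φ U e = X.homOfLE h' ≫ qp p chart hE hj g φ U e' := by
  rw [qp, qp, ← Category.assoc, ← Category.assoc]
  congr 1
  let f := (oRes h).comp (psiT hE hj g φ U e)
  let f' := (oRes h').comp (psiT hE hj g φ U e')
  have key : ∀ (a b : Γ(E, U.1)),
      fres X h' (psi hE hj g φ U e' (ev j U b)) =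
        fres X h' (psi hE hj g φ U e' (ev j U e)) * fres X h (psi hE hj g φ U e (ev j U b)) := fun _ b => by
    refine (isGen_gp g φ U e').smul_left_injective h' ?_
    have h1 := congrArg (mres L h') ((psi_spec hE hj g φ U e').2 b)
    have h2 := congrArg (mres L h') ((psi_spec hE hj g φ U e').2 e)
    have h3 := congrArg (mres L h) ((psi_spec hE hj g φ U e).2 b)
    simp only [InvExt.mres_smul, InvExt.mres_mres] at h1 h2 h3
    rw [InvExt.mres_mres, ← h1, mul_comm, mul_smul, ← h2, ← h3]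
  have h1 : ∀ b, f' (ev j U b) = f' (ev j U e) * f (ev j U b) := fun b => by
    show oRes h' ((Tp g φ U e').topIso.inv _) = oRes h' ((Tp g φ U e').topIso.inv _) * oRes h ((Tp g φ U e).topIso.inv _)
    rw [oRes_topIso, oRes_topIso, oRes_topIso, key b b, map_mul]
  have hfe : f (ev j U e) = 1 := by
    show oRes h (psiT hE hj g φ U e (ev j U e)) = 1
    rw [psiT_self, map_one]
  have hfe' : f' (ev j U e') = 1 := by
    show oRes h' (psiT hE hj g φ U e' (ev j U e')) = 1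
    rw [psiT_self, map_one]
  have hu : IsUnit (f (ev j U e')) := IsUnit.of_mul_eq_one _
    (show f (ev j U e') * f' (ev j U e) = 1 by rw [mul_comm, ← h1, hfe'])
  have hu' : IsUnit (f' (ev j U e)) := IsUnit.of_mul_eq_one _ (show f' (ev j U e) * f (ev j U e') = 1 by rw [← h1, hfe'])
  have htw : ∀ n, ∀ a ∈ dg 𝒮 U n, f' a = f' (ev j U e) ^ n * f a := by
    refine eq_pow_mul_of_closure (𝒜 := dg 𝒮 U) (Set.range (ev j U)) ?_ ?_ f f' _ ?_ ?_
    · refine eq_top_iff.mpr ((closure_str_ev hE hj U).ge.trans (Subring.closure_mono (Set.union_subset_union_left _ ?_)))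
      rintro _ ⟨r, rfl⟩
      exact 𝒮.str_mem U.1 U.2 r
    · rintro _ ⟨b, rfl⟩; exact hj.2 U.1 U.2 b
    · intro a ha
      obtain ⟨r, hr⟩ := (str_bijective_zero hE hj U.1 U.2).2 ⟨a, ha⟩
      obtain rfl : (𝒮.str.app (op U.1)).hom r = a := congrArg Subtype.val hr
      show oRes h' ((Tp g φ U e').topIso.inv _) = oRes h ((Tp g φ U e).topIso.inv _)
      rw [oRes_topIso, oRes_topIso, (psi_spec hE hj g φ U e').1, (psi_spec hE hj g φ U e).1, InvExt.fres_fres,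
        InvExt.fres_fres]
    · rintro _ ⟨b, rfl⟩; exact h1 b
  rw [qc, qc, ProjPt.comp_pt, ProjPt.comp_pt, ProjPt.comp_evalAway (dg 𝒮 U) _ _ (x := ev j U e) (hj.2 U.1 U.2 e),
    ProjPt.comp_evalAway (dg 𝒮 U) _ _ (x := ev j U e') (hj.2 U.1 U.2 e'),
    ProjPt.pt_evalAway_eq (dg 𝒮 U) (x := ev j U e) (hj.2 U.1 U.2 e) one_pos f (by rw [hfe]; exact isUnit_one)
      (y := ev j U e') (hj.2 U.1 U.2 e') one_pos hu]
  exact congrArg (ProjPt.pt (dg 𝒮 U) (x := ev j U e') (hj.2 U.1 U.2 e') one_pos)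
    (ProjPt.evalAway_eq_of_twist (dg 𝒮 U) f f' (x := ev j U e') (hj.2 U.1 U.2 e') hu (by rw [hfe']; exact isUnit_one) _ htw).symm

include hE hj in
theorem qp_agree (hP : RelProj.IsRelProj 𝒮 p chart) (U U' : Y.AffineZariskiSite) (e : Γ(E, U.1)) (e' : Γ(E, U'.1))
    {W : X.Opens} (h : W ≤ Tp g φ U e) (h' : W ≤ Tp g φ U' e') :
    X.homOfLE h ≫ qp p chart hE hj g φ U e = X.homOfLE h' ≫ qp p chart hE hj g φ U' e' := by
  choose r s hrs hr using fun x : W =>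
    exists_basicOpen_le_affine_inter U.2 U'.2 (g x.1) ⟨Tp_le g φ U e (h x.2), Tp_le g φ U' e' (h' x.2)⟩
  let D : W → Y.AffineZariskiSite := fun x => U.basicOpen (r x)
  let O : W → (W : Scheme.{u}).Opens := fun x => W.ι ⁻¹ᵁ (g ⁻¹ᵁ (D x).1)
  have hO : ⨆ x, O x = ⊤ := eq_top_iff.mpr fun x _ => Opens.mem_iSup.mpr ⟨x, hr x⟩
  refine ((W : Scheme.{u}).openCoverOfIsOpenCover O (IsOpenCover.mk hO)).hom_ext _ _ fun x => ?_
  let W' : X.Opens := W ⊓ g ⁻¹ᵁ (D x).1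
  have hDU : D x ≤ U := ⟨r x, rfl⟩
  have hDU' : D x ≤ U' := ⟨s x, (hrs x).symm⟩
  have hW : W' ≤ Tp g φ (D x) (rE hDU e) := by rw [Tp_rE g φ hDU e]; exact inf_le_inf_right _ h
  have hW' : W' ≤ Tp g φ (D x) (rE hDU' e') := by rw [Tp_rE g φ hDU' e']; exact inf_le_inf_right _ h'
  have hT : Tp g φ (D x) (rE hDU e) ≤ Tp g φ U e := (Tp_rE g φ hDU e).le.trans inf_le_left
  have hT' : Tp g φ (D x) (rE hDU' e') ≤ Tp g φ U' e' := (Tp_rE g φ hDU' e').le.trans inf_le_left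
  let m : (O x : Scheme.{u}) ⟶ (W' : Scheme.{u}) :=
    IsOpenImmersion.lift W'.ι ((O x).ι ≫ W.ι) (by rintro _ ⟨z, rfl⟩; exact ⟨⟨_, z.1.2, z.2⟩, rfl⟩)
  have hm : (O x).ι = m ≫ X.homOfLE (inf_le_left : W' ≤ W) := by
    rw [← cancel_mono W.ι, Category.assoc, Scheme.homOfLE_ι, IsOpenImmersion.lift_fac]
  show (O x).ι ≫ _ = (O x).ι ≫ _
  rw [hm, Category.assoc, Category.assoc, Scheme.homOfLE_homOfLE_assoc, Scheme.homOfLE_homOfLE_assoc]
  congr 1
  calc X.homOfLE ((inf_le_left : W' ≤ W).trans h) ≫ qp p chart hE hj g φ U e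
      = X.homOfLE hW ≫ qp p chart hE hj g φ (D x) (rE hDU e) := by
        rw [← qp_rE hE hj g φ hP hDU e hT, Scheme.homOfLE_homOfLE_assoc]
    _ = X.homOfLE hW' ≫ qp p chart hE hj g φ (D x) (rE hDU' e') := qp_agree_same hE hj g φ _ _ _ hW hW'
    _ = X.homOfLE ((inf_le_left : W' ≤ W).trans h') ≫ qp p chart hE hj g φ U' e' := by
        rw [← qp_rE hE hj g φ hP hDU' e' hT', Scheme.homOfLE_homOfLE_assoc]

end GrothLib.VA
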