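import Groth.Agent.Lib.VA.Canon
import Groth.Agent.Lib.ProjPt.Basic

/-!
# The piece morphisms to a projective bundle given by a generated invertible module
-/

set_option autoImplicit false
set_option backward.isDefEq.respectTransparency false

universe u

open CategoryTheory CategoryTheory.Limits AlgebraicGeometry TopologicalSpace Opposite HomogeneousLocalization
open GrothLib.InvExt (mres fres IsGen)
open GrothLib.RelProjK (dg rs rs_irr em em_comap map_rs_em mem_opensRange_em)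

noncomputable section

namespace GrothLib.VA

theorem eq_toSpecΓ_fromSpec {T Y : Scheme.{u}} {U : Y.Opens} (hU : IsAffineOpen U) (f : T ⟶ Y)
    (h : (⊤ : T.Opens) ≤ f ⁻¹ᵁ U) : f = T.toSpecΓ ≫ Spec.map (f.appLE U ⊤ h) ≫ hU.fromSpec := by
  obtain ⟨l, rfl⟩ : ∃ l : T ⟶ (U : Scheme.{u}), l ≫ U.ι = f :=
    ⟨IsOpenImmersion.lift U.ι f (by rintro _ ⟨x, rfl⟩; exact ⟨⟨f x, h trivial⟩, rfl⟩), IsOpenImmersion.lift_fac _ _ _⟩
  have : l ≫ U.toSpecΓ = T.toSpecΓ ≫ Spec.map ((l ≫ U.ι).appLE U ⊤ h) := by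
    rw [show U.toSpecΓ = (U : Scheme.{u}).toSpecΓ ≫ Spec.map U.topIso.inv from rfl,
      Scheme.toSpecΓ_naturality_assoc, ← Spec.map_comp]
    congr 2
    rw [← Scheme.Hom.appLE_comp_appLE l U.ι U ⊤ ⊤ U.ι_preimage_self.ge (fun _ _ => trivial), Scheme.Opens.ι_appLE,
      Scheme.Hom.appTop, Scheme.Hom.app_eq_appLE]
    rfl
  rw [← reassoc_of% this, hU.toSpecΓ_fromSpec]

variable {Y : Scheme.{u}} {E : Y.Modules} {𝒮 : RelProj.QCGrAlg Y} (j : E ⟶ 𝒮.toModule) {X : Scheme.{u}} (g : X ⟶ Y)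
  {L : X.Modules} (φ : E ⟶ (Scheme.Modules.pushforward g).obj L)

/-- The open where the image of a section generates. -/
def Tp (U : Y.AffineZariskiSite) (e : Γ(E, U.1)) : X.Opens := genOpen L (V := g ⁻¹ᵁ U.1) (φ.app U.1 e)

theorem Tp_le (U : Y.AffineZariskiSite) (e : Γ(E, U.1)) : Tp g φ U e ≤ g ⁻¹ᵁ U.1 := genOpen_le _

/-- The generator on a piece. -/
abbrev gp (U : Y.AffineZariskiSite) (e : Γ(E, U.1)) (e' : Γ(E, U.1)) : Γ(L, Tp g φ U e) :=
  mres L (Tp_le g φ U e) (show Γ(L, g ⁻¹ᵁ U.1) from φ.app U.1 e')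

theorem isGen_gp (U : Y.AffineZariskiSite) (e : Γ(E, U.1)) : IsGen L (Tp g φ U e) (gp g φ U e e) :=
  isGen_genOpen _

theorem gp_rE {U V : Y.AffineZariskiSite} (h : V ≤ U) (e e' : Γ(E, U.1)) {W : X.Opens}
    (hW : W ≤ Tp g φ V (rE h e)) (hW' : W ≤ Tp g φ U e) :
    mres L hW (gp g φ V (rE h e) (rE h e')) = mres L hW' (gp g φ U e e') := by
  rw [InvExt.mres_mres, InvExt.mres_mres]
  have hn : φ.app V.1 (rE h e') = mres L (g.preimage_mono (Scheme.AffineZariskiSite.toOpens_mono h)) (φ.app U.1 e') :=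
    Ample.app_mres φ (Scheme.AffineZariskiSite.toOpens_mono h) e'
  exact (congrArg (mres L (hW.trans (Tp_le g φ V (rE h e)))) hn).trans (InvExt.mres_mres L _ _ _)

theorem Tp_rE {U V : Y.AffineZariskiSite} (h : V ≤ U) (e : Γ(E, U.1)) :
    Tp g φ V (rE h e) = Tp g φ U e ⊓ g ⁻¹ᵁ V.1 := by
  ext x
  show x ∈ Tp g φ V (rE h e) ↔ x ∈ Tp g φ U e ∧ g x ∈ V.1
  have hn : φ.app V.1 (rE h e) = mres L (g.preimage_mono (Scheme.AffineZariskiSite.toOpens_mono h)) (φ.app U.1 e) :=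
    Ample.app_mres φ (Scheme.AffineZariskiSite.toOpens_mono h) e
  rw [Tp, Tp, mem_genOpen, mem_genOpen, hn, genAt_mres]
  exact ⟨fun a => ⟨a.2, a.1⟩, fun a => ⟨a.2, a.1⟩⟩

/-- The defining property of the ring map on a piece. -/
def IsPsi (U : Y.AffineZariskiSite) (e : Γ(E, U.1)) (ψ : 𝒮.presheaf.obj (op U.1) →+* Γ(X, Tp g φ U e)) : Prop :=
  (∀ r, ψ ((𝒮.str.app (op U.1)).hom r) = fres X (Tp_le g φ U e) (g.app U.1 r)) ∧
    ∀ e', gp g φ U e e' = ψ (ev j U e') • gp g φ U e e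

variable {j}

theorem exists_isPsi (hE : Coh.IsQCoh E) (hj : RelProj.IsGrSymAlg E 𝒮 j) (U : Y.AffineZariskiSite) (e : Γ(E, U.1)) :
    ∃ ψ, IsPsi j g φ U e ψ := by
  obtain ⟨q, hqs, hqj⟩ := SymAlgX.isAffSym_of_isSymAlg hE hj.1 U.1 U.2
  have hex : ∀ e', ∃ c : Γ(X, Tp g φ U e), gp g φ U e e' = c • gp g φ U e e := fun e' => by
    obtain ⟨c, hc⟩ := (isGen_gp g φ U e).exists_smul_eq le_rfl (gp g φ U e e')
    exact ⟨c, by rwa [InvExt.mres_self] at hc⟩
  choose c hc using hex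
  have hinj : ∀ {a b : Γ(X, Tp g φ U e)}, a • gp g φ U e e = b • gp g φ U e e → a = b := fun {a b} hab =>
    (isGen_gp g φ U e).smul_left_injective le_rfl (by rwa [InvExt.mres_self])
  obtain ⟨F, hFs, hFg⟩ := SymAlgX.exists_ringHom (R := Γ(Y, U.1)) (M := Γ(E, U.1))
    ((X.presheaf.map (homOfLE (Tp_le g φ U e)).op).hom.comp (g.app U.1).hom)
    (AddMonoidHom.mk' c fun a b => hinj (by
      rw [add_smul, ← hc, ← hc, ← hc]
      show mres L _ (φ.app U.1 (a + b)) = _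
      rw [map_add]; exact map_add _ _ _))
    (fun r x => hinj (by
      show c (r • x) • _ = (fres X (Tp_le g φ U e) (g.app U.1 r) * c x) • gp g φ U e e
      rw [← hc, mul_smul, ← hc, ← InvExt.mres_smul]
      exact congrArg (mres L (Tp_le g φ U e)) (Ample.app_smul φ r x)))
  refine ⟨F.comp q.symm.toRingHom, fun r => ?_, fun e' => ?_⟩
  · show F (q.symm _) = _
    rw [← hqs r, RingEquiv.symm_apply_apply, hFs]
    rfl
  · show _ = F (q.symm (ev j U e')) • _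
    rw [show ev j U e' = q _ from (hqj e').symm, RingEquiv.symm_apply_apply, hFg]
    exact hc e'

variable {g φ}

theorem hom_ext_sym (hE : Coh.IsQCoh E) (hj : RelProj.IsGrSymAlg E 𝒮 j) (U : Y.AffineZariskiSite) {S : Type*}
    [CommRing S] {f f' : 𝒮.presheaf.obj (op U.1) →+* S}
    (hs : ∀ r, f ((𝒮.str.app (op U.1)).hom r) = f' ((𝒮.str.app (op U.1)).hom r))
    (he : ∀ e, f (ev j U e) = f' (ev j U e)) : f = f' := by
  refine RingHom.ext fun a => ?_
  refine RingHom.eqOn_set_closure ?_ ((closure_str_ev hE hj U).ge (Subring.mem_top a))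
  rintro _ (⟨r, rfl⟩ | ⟨e, rfl⟩)
  · exact hs r
  · exact he e

theorem IsPsi.self {U : Y.AffineZariskiSite} {e : Γ(E, U.1)} {ψ : 𝒮.presheaf.obj (op U.1) →+* Γ(X, Tp g φ U e)}
    (hψ : IsPsi j g φ U e ψ) : ψ (ev j U e) = 1 :=
  (isGen_gp g φ U e).smul_left_injective le_rfl (by rw [InvExt.mres_self, one_smul]; exact (hψ.2 e).symm)

end GrothLib.VA
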