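import Groth.Agent.Lib.VA.Map
import Groth.Agent.Lib.Ample.ProjMap

/-!
# Ratios on the pieces of a projective bundle
-/

set_option autoImplicit false
set_option backward.isDefEq.respectTransparency false

universe u

open CategoryTheory CategoryTheory.Limits AlgebraicGeometry TopologicalSpace Opposite HomogeneousLocalization
open GrothLib.InvExt (mres fres IsGen)
open GrothLib.RelProjK (dg em vl vl_smul onChart)

noncomputable section

namespace GrothLib.VA

section ext

variable {A : Type u} [CommRing A] {σ : Type u} [SetLike σ A] [AddSubgroupClass σ A] {𝒜 : ℕ → σ} [GradedRing 𝒜]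

theorem away_hom_ext {f : A} (hf : f ∈ 𝒜 1) (G : Set A) (hG : Subring.closure ((𝒜 0 : Set A) ∪ G) = ⊤)
    (hG1 : ∀ x ∈ G, x ∈ 𝒜 1) {S : Type u} [CommRing S] {g g' : Away 𝒜 f →+* S}
    (h0 : ∀ a, g (fromZeroRingHom 𝒜 _ a) = g' (fromZeroRingHom 𝒜 _ a))
    (h1 : ∀ x (hx : x ∈ G), g (Away.mk 𝒜 hf 1 x (by simpa using hG1 x hx)) =
      g' (Away.mk 𝒜 hf 1 x (by simpa using hG1 x hx))) : g = g' := by
  classical
  let C : Subring (Away 𝒜 f) := RingHom.eqLocus g g'
  let Q : ℕ → A → Prop := fun m a => ∃ w ∈ C, w.val * algebraMap A (Localization.Away f) f ^ m =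
    algebraMap A (Localization.Away f) a
  have single : ∀ {m : ℕ} {a : A}, a ∈ 𝒜 m → Q m a → ∀ n, Q n (DirectSum.decompose 𝒜 a n : A) := by
    intro m a ha h n
    rcases eq_or_ne m n with rfl | hne
    · rwa [DirectSum.decompose_of_mem_same 𝒜 ha]
    · rw [DirectSum.decompose_of_mem_ne 𝒜 ha hne]
      exact ⟨0, zero_mem _, by rw [HomogeneousLocalization.val_zero, zero_mul, map_zero]⟩
  have hadd : ∀ {n : ℕ} {a b : A}, Q n a → Q n b → Q n (a + b) := by
    rintro n a b ⟨w, hw, e⟩ ⟨v, hv, e'⟩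
    exact ⟨w + v, add_mem hw hv, by rw [HomogeneousLocalization.val_add, add_mul, e, e', map_add]⟩
  have H : ∀ a ∈ Subring.closure ((𝒜 0 : Set A) ∪ G), ∀ n, Q n (DirectSum.decompose 𝒜 a n : A) := by
    intro a ha
    induction ha using Subring.closure_induction with
    | mem x hx =>
      rcases hx with hx | hx
      · refine single hx ⟨fromZeroRingHom 𝒜 _ ⟨x, hx⟩, h0 _, ?_⟩
        rw [pow_zero, mul_one, ← Localization.mk_one_eq_algebraMap]
        rfl
      · refine single (hG1 x hx) ⟨Away.mk 𝒜 hf 1 x (by simpa using hG1 x hx), h1 x hx, ?_⟩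
        rw [Away.val_mk, Localization.mk_eq_mk']
        simpa [pow_one] using IsLocalization.mk'_spec (Localization.Away f) x
          (⟨f ^ 1, 1, rfl⟩ : Submonoid.powers f)
    | zero => exact single (zero_mem (𝒜 0)) ⟨0, zero_mem _, by rw [HomogeneousLocalization.val_zero, zero_mul, map_zero]⟩
    | one =>
      refine single (SetLike.GradedOne.one_mem (A := 𝒜)) ⟨1, one_mem _, ?_⟩
      rw [HomogeneousLocalization.val_one, pow_zero, mul_one, map_one]
    | add x y _ _ hx hy =>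
      intro n
      rw [DirectSum.decompose_add, DirectSum.add_apply, AddMemClass.coe_add]
      exact hadd (hx n) (hy n)
    | neg x _ hx =>
      intro n
      obtain ⟨w, hw, e⟩ := hx n
      refine ⟨-w, neg_mem hw, ?_⟩
      rw [DirectSum.decompose_neg, DFinsupp.neg_apply, NegMemClass.coe_neg, HomogeneousLocalization.val_neg, neg_mul, e,
        map_neg]
    | mul x y _ _ hx hy =>
      intro n
      rw [DirectSum.decompose_mul, DirectSum.coe_mul_apply]
      refine Finset.sum_induction _ (Q n) (fun a b => hadd)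
        ⟨0, zero_mem _, by rw [HomogeneousLocalization.val_zero, zero_mul, map_zero]⟩ fun ij hij => ?_
      obtain rfl : ij.1 + ij.2 = n := (Finset.mem_filter.mp hij).2
      obtain ⟨w, hw, e⟩ := hx ij.1
      obtain ⟨v, hv, e'⟩ := hy ij.2
      exact ⟨w * v, mul_mem hw hv, by rw [HomogeneousLocalization.val_mul, map_mul, ← e, ← e', pow_add]; ring⟩
  refine RingHom.ext fun z => ?_
  obtain ⟨m, a, ha, rfl⟩ := Away.mk_surjective 𝒜 hf z
  obtain ⟨w, hw, e⟩ := H a (hG.ge (Subring.mem_top a)) m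
  rw [DirectSum.decompose_of_mem_same 𝒜 (by simpa using ha)] at e
  have hwz : w = Away.mk 𝒜 hf m a ha := by
    refine HomogeneousLocalization.val_injective _ ?_
    rw [Away.val_mk, Localization.mk_eq_mk', IsLocalization.eq_mk'_iff_mul_eq, map_pow]
    exact e
  rw [← hwz]
  exact hw

theorem awayToSection_val {d : ℕ} {f : A} (hf : f ∈ 𝒜 d) {n : ℕ} {x : A} (hx : x ∈ 𝒜 (n • d))
    (y : Proj.basicOpen 𝒜 f) :
    ((show GrTwist.O (𝒜 := 𝒜) (op (Proj.basicOpen 𝒜 f)) from
        Proj.awayToSection 𝒜 f (Away.mk 𝒜 hf n x hx)).1 y).val =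
      Localization.mk x (⟨f ^ n, fun h => y.2 (y.1.isPrime.mem_of_pow_mem n h)⟩ :
        y.1.asHomogeneousIdeal.toIdeal.primeCompl) := by
  refine (ProjectiveSpectrum.Proj.awayToSection_apply 𝒜 f _ y).trans ?_
  simp only [Away.val_mk, Localization.mk_eq_mk', IsLocalization.map_mk', RingHom.id_apply]

end ext

variable {Y P : Scheme.{u}} {E : Y.Modules} {𝒮 : RelProj.QCGrAlg Y} {p : P ⟶ Y}
  {chart : ∀ (U : Y.Opens) (hU : IsAffineOpen U), (((p ⁻¹ᵁ U : P.Opens) : Scheme.{u}) ≅ Proj (𝒮.deg U hU))}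
  {j : E ⟶ 𝒮.toModule} {O1 : P.Modules}
  {lam : ∀ (U : Y.Opens) (hU : IsAffineOpen U),
    O1 ⟶ (Scheme.Modules.pushforward (RelProj.emb p chart U hU)).obj (GrTwist.twist (𝒮.deg U hU) 1)}
  {φ₀ : E ⟶ (Scheme.Modules.pushforward p).obj O1}

/-- The image of a section on a piece. -/
abbrev cg (φ₀ : E ⟶ (Scheme.Modules.pushforward p).obj O1) (U : Y.AffineZariskiSite) (e e' : Γ(E, U.1)) :
    Γ(O1, pc p chart j U e) :=
  mres O1 (pc_le U e) (show Γ(O1, p ⁻¹ᵁ U.1) from φ₀.app U.1 e')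

/-- The value of a ratio of two images on a piece. -/
theorem appLE_rat (hj : RelProj.IsGrSymAlg E 𝒮 j) (hφ₀ : IsCanon j lam φ₀) (U : Y.AffineZariskiSite)
    (e e' : Γ(E, U.1)) {s : Γ(P, pc p chart j U e)}
    (hs : cg (j := j) (chart := chart) φ₀ U e e' = s • cg φ₀ U e e)
    (hle : Proj.basicOpen (dg 𝒮 U) (ev j U e) ≤ em p chart U ⁻¹ᵁ pc p chart j U e) :
    ((em p chart U).appLE (pc p chart j U e) (Proj.basicOpen (dg 𝒮 U) (ev j U e)) hle).hom s =
      Proj.awayToSection (dg 𝒮 U) (ev j U e)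
        (Away.mk (dg 𝒮 U) (f := ev j U e) (hj.2 U.1 U.2 e) 1 (ev j U e') (by simpa using hj.2 U.1 U.2 e')) := by
  refine Subtype.ext (funext fun y => HomogeneousLocalization.val_injective _ ?_)
  refine Eq.trans ?_ (awayToSection_val (𝒜 := dg 𝒮 U) (f := ev j U e) (hj.2 U.1 U.2 e) _ y).symm
  have hv := congrArg (fun t => vl (onChart lam U t) y.1 (hle y.2)) hs
  simp only [RelProjK.onChart_smul, vl_smul, vl_canon_mres hφ₀] at hv
  have hy : ev j U e ∉ y.1.asHomogeneousIdeal := y.2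
  rw [Localization.mk_eq_mk', IsLocalization.eq_mk'_iff_mul_eq, hv]
  simp only [pow_one]
  rfl

end GrothLib.VA
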