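import Groth.Agent.Lib.Ample.RelAmple
import Groth.Agent.Lib.Ample.ProjSections
import Groth.Agent.Lib.Ample.Immersion

/-!
# Schemes covered by affine loci of sections are separated
-/

set_option autoImplicit false
set_option backward.isDefEq.respectTransparency false

universe u

open CategoryTheory CategoryTheory.Limits AlgebraicGeometry TopologicalSpace Opposite
open GrothLib.Ample (res Cocycle)

noncomputable section

namespace GrothLib.VA

theorem locus_inter_generated {X : Scheme.{u}} (c : Cocycle X) {n m : ℕ} (a : c.sect (n + 1) ⊤)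
    (b : c.sect (m + 1) ⊤) (ha : IsAffineOpen (c.locus a)) (z : Γ(X, c.locus a ⊓ c.locus b)) :
    ∃ (p : Γ(X, c.locus a)) (q : Γ(X, c.locus b)),
      z = res inf_le_left p * res inf_le_right q := by
  let A := c.sectPow a (m + 1)
  let B : c.sect ((n + 1) * (m + 1)) ⊤ := c.sectCast (mul_comm (m + 1) (n + 1)) (c.sectPow b (n + 1))
  have hA : c.locus A = c.locus a := c.locus_sectPow a (Nat.succ_pos _)
  have hB : c.locus B = c.locus b := (c.locus_sectCast _ _).trans (c.locus_sectPow b (Nat.succ_pos _))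
  obtain ⟨t, ht, htD⟩ := c.exists_ratio A B
  obtain ⟨s, hs, -⟩ := c.exists_ratio B A
  let t' : Γ(X, c.locus a) := res hA.ge t
  have hD : X.basicOpen t' = c.locus a ⊓ c.locus b := by
    show X.basicOpen (res hA.ge t) = _
    rw [res, Scheme.basicOpen_res, htD, hA, hB, ← inf_assoc, inf_idem]
  let W := c.locus a ⊓ c.locus b
  have hu : res (inf_le_left.trans hA.ge : W ≤ c.locus A) t * res (inf_le_right.trans hB.ge : W ≤ c.locus B) s = 1 := by
    refine c.smul_injective_of_le_locus A (inf_le_left.trans hA.ge : W ≤ c.locus A) ?_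
    have h1 := congrArg (c.sectRes (inf_le_left.trans hA.ge : W ≤ c.locus A)) ht
    have h2 := congrArg (c.sectRes (inf_le_right.trans hB.ge : W ≤ c.locus B)) hs
    rw [c.sectRes_smul, c.sectRes_sectRes, c.sectRes_sectRes] at h1 h2
    rw [one_smul, mul_smul, smul_comm, ← h1, ← h2]
  haveI := ha.isLocalization_basicOpen t'
  let z' : Γ(X, X.basicOpen t') := res hD.le z
  obtain ⟨N, p, hp⟩ := IsLocalization.Away.surj t' z'
  refine ⟨p, res hB.ge s ^ N, ?_⟩
  have h3 := congrArg (res hD.ge) hp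
  rw [map_mul, map_pow] at h3
  change res hD.ge (res hD.le z) * res hD.ge (res _ t') ^ N = res hD.ge (res _ p) at h3
  simp only [t', Ample.res_res, Ample.res_self] at h3
  rw [map_pow, Ample.res_res, ← h3, mul_assoc, ← mul_pow, hu, one_pow, mul_one]

/-- A scheme covered by affine loci of sections of powers is separated. -/
theorem isSeparated_of_affine_loci {X : Scheme.{u}} (c : Cocycle X) (h : c.IsAmp) : X.IsSeparated := by
  choose n a hx ha using h
  refine ⟨⟨?_⟩⟩
  let t := terminal.from X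
  let p₁ := pullback.fst t t
  let p₂ := pullback.snd t t
  let O : X × X → (pullback t t).Opens := fun x => p₁ ⁻¹ᵁ c.locus (a x.1) ⊓ p₂ ⁻¹ᵁ c.locus (a x.2)
  have hO : ⨆ x, O x = ⊤ := eq_top_iff.mpr fun y _ =>
    Opens.mem_iSup.mpr ⟨(p₁ y, p₂ y), hx (p₁ y), hx (p₂ y)⟩
  refine (IsZariskiLocalAtTarget.iff_of_iSup_eq_top (P := @IsClosedImmersion) O hO).mpr fun x => ?_
  have hOa : IsAffineOpen (O x) := Ample.isAffineOpen_inf_preimage t t (ha x.1) (ha x.2)
  have hpre : pullback.diagonal t ⁻¹ᵁ O x = c.locus (a x.1) ⊓ c.locus (a x.2) := by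
    show (pullback.diagonal t ≫ p₁) ⁻¹ᵁ _ ⊓ (pullback.diagonal t ≫ p₂) ⁻¹ᵁ _ = _
    rw [pullback.diagonal_fst, pullback.diagonal_snd]
    rfl
  haveI : IsAffine (O x).toScheme := hOa
  haveI : IsAffine (pullback.diagonal t ⁻¹ᵁ O x).toScheme := hpre ▸ c.isAffineOpen_locus_inf (a x.1) (ha x.2)
  have key : ∀ (U : (pullback t t).Opens) (V : X.Opens) (e : V ≤ pullback.diagonal t ⁻¹ᵁ U), U = O x →
      V = c.locus (a x.1) ⊓ c.locus (a x.2) → Function.Surjective ((pullback.diagonal t).appLE U V e).hom := by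
    rintro _ _ e rfl rfl z
    obtain ⟨p, q, rfl⟩ := locus_inter_generated c (a x.1) (a x.2) (ha x.1) z
    refine ⟨(p₁.appLE (c.locus (a x.1)) (O x) inf_le_left).hom p *
      (p₂.appLE (c.locus (a x.2)) (O x) inf_le_right).hom q, ?_⟩
    rw [map_mul]
    congr 1
    · show (p₁.appLE _ _ _ ≫ (pullback.diagonal t).appLE _ _ e).hom p = _
      rw [Scheme.Hom.appLE_comp_appLE]
      have : ∀ (k : X ⟶ X) (hk : k = 𝟙 X) (h₁ : c.locus (a x.1) ⊓ c.locus (a x.2) ≤ k ⁻¹ᵁ c.locus (a x.1)),
          (k.appLE _ _ h₁).hom p = res inf_le_left p := by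
        rintro k rfl h₁; rfl
      exact this _ (pullback.diagonal_fst t) _
    · show (p₂.appLE _ _ _ ≫ (pullback.diagonal t).appLE _ _ e).hom q = _
      rw [Scheme.Hom.appLE_comp_appLE]
      have : ∀ (k : X ⟶ X) (hk : k = 𝟙 X) (h₁ : c.locus (a x.1) ⊓ c.locus (a x.2) ≤ k ⁻¹ᵁ c.locus (a x.2)),
          (k.appLE _ _ h₁).hom q = res inf_le_right q := by
        rintro k rfl h₁; rfl
      exact this _ (pullback.diagonal_snd t) _
  refine IsClosedImmersion.of_surjective_of_isAffine _ ?_
  rw [Scheme.Hom.appTop, morphismRestrict_app']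
  exact key _ _ _ (O x).ι_image_top ((Scheme.Opens.ι_image_top _).trans hpre)

end GrothLib.VA
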