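import Groth.Agent.Lib.VA.Bdl

/-!
# The universal property of a projective bundle
-/

set_option autoImplicit false
set_option backward.isDefEq.respectTransparency false

universe u

open CategoryTheory CategoryTheory.Limits AlgebraicGeometry TopologicalSpace Opposite HomogeneousLocalization
open GrothLib.InvExt (mres fres IsGen)
open GrothLib.RelProjK (dg em)

noncomputable section

namespace GrothLib.VA

variable {X Y : Scheme.{u}}

theorem app_fres {P : Scheme.{u}} (r : X ⟶ P) {V W : P.Opens} (h : W ≤ V) (a : Γ(P, V)) :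
    r.app W (fres P h a) = fres X (r.preimage_mono h) (r.app V a) := by
  simp only [fres, ← CommRingCat.comp_apply, Scheme.Hom.naturality]
  rfl

theorem exists_common_basic {U U' : Y.AffineZariskiSite} {y : Y} (hy : y ∈ U.1) (hy' : y ∈ U'.1) :
    ∃ D : Y.AffineZariskiSite, D ≤ U ∧ D ≤ U' ∧ y ∈ D.1 := by
  obtain ⟨r, s, hrs, hr⟩ := exists_basicOpen_le_affine_inter U.2 U'.2 y ⟨hy, hy'⟩
  exact ⟨U.basicOpen r, ⟨r, rfl⟩, ⟨s, hrs.symm⟩, hr⟩

namespace Bdl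

variable {B : Bdl Y} {g : X ⟶ Y} {L : X.Modules} {φ : B.E ⟶ (Scheme.Modules.pushforward g).obj L}

variable (B g φ) in
/-- A morphism restricting to the piece morphisms. -/
def IsUp (r : X ⟶ B.P) : Prop :=
  ∀ U e, (Tp g φ U e).ι ≫ r = qp B.p B.chart B.isQCoh B.isSym g φ U e

theorem iSup_Tp (hφ : IsGenBy g φ) : ⨆ i : Σ U : Y.AffineZariskiSite, Γ(B.E, U.1), Tp g φ i.1 i.2 = ⊤ :=
  eq_top_iff.mpr fun x _ => by
    obtain ⟨U, hU, e, he⟩ := hφ x
    exact Opens.mem_iSup.mpr ⟨⟨⟨U, hU⟩, e⟩, mem_genOpen.mpr he⟩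

theorem exists_isUp (hφ : IsGenBy g φ) : ∃ r : X ⟶ B.P, B.IsUp g φ r ∧ r ≫ B.p = g := by
  let D : (Σ U : Y.AffineZariskiSite, Γ(B.E, U.1)) → X.Opens := fun i => Tp g φ i.1 i.2
  let 𝒰 := X.openCoverOfIsOpenCover D (IsOpenCover.mk (iSup_Tp hφ))
  let f : ∀ i, (D i : Scheme.{u}) ⟶ B.P := fun i => qp B.p B.chart B.isQCoh B.isSym g φ i.1 i.2
  have hf : ∀ i k, pullback.fst (D i).ι (D k).ι ≫ f i = pullback.snd (D i).ι (D k).ι ≫ f k := by
    intro i k
    have hr : Set.range (pullback.fst (D i).ι (D k).ι ≫ (D i).ι) ⊆ Set.range (D i ⊓ D k).ι := by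
      rintro _ ⟨x, rfl⟩
      refine ⟨⟨(pullback.fst (D i).ι (D k).ι ≫ (D i).ι) x, (pullback.fst (D i).ι (D k).ι x).2, ?_⟩, rfl⟩
      rw [pullback.condition]
      exact (pullback.snd (D i).ι (D k).ι x).2
    let q := IsOpenImmersion.lift (D i ⊓ D k).ι (pullback.fst (D i).ι (D k).ι ≫ (D i).ι) hr
    have h1 : pullback.fst (D i).ι (D k).ι = q ≫ X.homOfLE (inf_le_left : D i ⊓ D k ≤ D i) := by
      rw [← cancel_mono (D i).ι, Category.assoc, Scheme.homOfLE_ι, IsOpenImmersion.lift_fac]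
    have h2 : pullback.snd (D i).ι (D k).ι = q ≫ X.homOfLE (inf_le_right : D i ⊓ D k ≤ D k) := by
      rw [← cancel_mono (D k).ι, Category.assoc, Scheme.homOfLE_ι, IsOpenImmersion.lift_fac, pullback.condition]
    rw [h1, h2, Category.assoc, Category.assoc]
    exact congrArg (q ≫ ·) (qp_agree B.isQCoh B.isSym g φ B.isProj i.1 k.1 i.2 k.2 _ _)
  refine ⟨𝒰.glueMorphisms f hf, fun U e => 𝒰.ι_glueMorphisms f hf ⟨U, e⟩, ?_⟩
  refine 𝒰.hom_ext _ _ fun i => ?_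
  rw [← Category.assoc, 𝒰.ι_glueMorphisms f hf i]
  exact qp_comp B.isQCoh B.isSym g φ B.isProj i.1 i.2

theorem qc_preimage (U : Y.AffineZariskiSite) (b a : Γ(B.E, U.1)) :
    qc B.isQCoh B.isSym g φ U b ⁻¹ᵁ Proj.basicOpen (dg B.S U) (ev B.j U a) =
      (Tp g φ U b).ι ⁻¹ᵁ Tp g φ U a := by
  rw [qc, ProjPt.pt_preimage_basicOpen (dg B.S U) (x := ev B.j U b) (B.isSym.2 U.1 U.2 b) one_pos _
    (y := ev B.j U a) (B.isSym.2 U.1 U.2 a) one_pos]
  have e : ProjPt.evalAway (dg B.S U) (psiT B.isQCoh B.isSym g φ U b) (ev B.j U b)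
      (psiT_unit B.isQCoh B.isSym g φ U b)
      (Away.isLocalizationElem (𝒜 := dg B.S U) (f := ev B.j U b) (g := ev B.j U a)
        (B.isSym.2 U.1 U.2 b) (B.isSym.2 U.1 U.2 a)) = psiT B.isQCoh B.isSym g φ U b (ev B.j U a) := by
    rw [← evalAway_ratio B.isQCoh U b a]
    refine congrArg _ (HomogeneousLocalization.val_injective _ ?_)
    simp [Away.val_mk]
  rw [e, psiT, RingHom.comp_apply]
  ext x
  refine Iff.trans ?_ ((genAt_iff_mem_basicOpen (Tp_le g φ U b) (isGen_gp g φ U b)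
    ((psi_spec B.isQCoh B.isSym g φ U b).2 a) (x := x.1) x.2).symm.trans mem_genOpen.symm)
  have h0 : (Tp g φ U b).topIso.inv (psi B.isQCoh B.isSym g φ U b (ev B.j U a)) =
      ((Tp g φ U b).ι.appLE (Tp g φ U b) ⊤ (Tp g φ U b).ι_preimage_self.ge).hom
        (psi B.isQCoh B.isSym g φ U b (ev B.j U a)) := by
    rw [Scheme.Opens.ι_appLE]; rfl
  show x ∈ Scheme.basicOpen _ _ ↔ _
  rw [h0, Scheme.basicOpen_appLE]
  exact ⟨fun h => h.2, fun h => ⟨trivial, h⟩⟩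

theorem preimage_piece_of_isUp {r : X ⟶ B.P} (hu : B.IsUp g φ r) (hr : r ≫ B.p = g) (hφ : IsGenBy g φ)
    (U : Y.AffineZariskiSite) (a : Γ(B.E, U.1)) : r ⁻¹ᵁ B.piece U a = Tp g φ U a := by
  ext x
  by_cases hx : x ∈ g ⁻¹ᵁ U.1
  swap
  · exact iff_of_false (fun h => hx (le_comp hr U a h)) (fun h => hx (Tp_le g φ U a h))
  obtain ⟨U', hU', b', hb'⟩ := hφ x
  have hb'' : x ∈ Tp g φ ⟨U', hU'⟩ b' := mem_genOpen.mpr hb'
  obtain ⟨D, hDU, hDU', hxD⟩ := exists_common_basic hx (Tp_le g φ ⟨U', hU'⟩ b' hb'')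
  have hxb : x ∈ Tp g φ D (rE hDU' b') := by rw [Tp_rE g φ hDU' b']; exact ⟨hb'', hxD⟩
  have h1 : x ∈ r ⁻¹ᵁ B.piece U a ↔ x ∈ r ⁻¹ᵁ B.piece D (rE hDU a) := by
    show x ∈ r ⁻¹ᵁ pc B.p B.chart B.j U a ↔ x ∈ r ⁻¹ᵁ pc B.p B.chart B.j D (rE hDU a)
    rw [← pc_inf B.isProj hDU a]
    exact ⟨fun h => ⟨h, comp_le hr D.1 hxD⟩, fun h => h.1⟩
  have h2 : x ∈ Tp g φ U a ↔ x ∈ Tp g φ D (rE hDU a) := by
    rw [Tp_rE g φ hDU a]
    exact ⟨fun h => ⟨h, hxD⟩, fun h => h.1⟩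
  rw [SetLike.mem_coe, SetLike.mem_coe, h1, h2]
  have h3 : r x = em B.p B.chart D (qc B.isQCoh B.isSym g φ D (rE hDU' b') ⟨x, hxb⟩) := by
    show ((Tp g φ D (rE hDU' b')).ι ≫ r) ⟨x, hxb⟩ = _
    rw [hu]; rfl
  show r x ∈ B.piece D (rE hDU a) ↔ _
  rw [h3]
  refine mem_pc.trans ?_
  have := qc_preimage (g := g) (φ := φ) D (rE hDU' b') (rE hDU a)
  exact Iff.of_eq (congrArg (fun W => (⟨x, hxb⟩ : Tp g φ D (rE hDU' b')) ∈ W) this)

theorem appLE_of_isUp {r : X ⟶ B.P} (hu : B.IsUp g φ r) {U : Y.AffineZariskiSite} {e e' : Γ(B.E, U.1)}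
    {s : Γ(B.P, B.piece U e)} (hs : B.img U e e' = s • B.img U e e) (hle : Tp g φ U e ≤ r ⁻¹ᵁ B.piece U e) :
    (r.appLE (B.piece U e) (Tp g φ U e) hle).hom s = psi B.isQCoh B.isSym g φ U e (ev B.j U e') := by
  refine (ConcreteCategory.bijective_of_isIso (Tp g φ U e).topIso.inv).1 ?_
  refine (app_of_pt (B := B) (g := g) (φ := φ) (hu U e) hle (fun y hy => ⟨y, hy, rfl⟩)
    (appLE_rat B.isSym B.isCanon U e e' hs _)).trans ?_
  exact evalAway_ratio B.isQCoh U e e'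

/-- On a piece, the image of a section is its ratio times the image of the chosen section. -/
theorem ratio_of_isUp {r : X ⟶ B.P} (hu : B.IsUp g φ r) {U : Y.AffineZariskiSite} {e e' : Γ(B.E, U.1)}
    {s : Γ(B.P, B.piece U e)} (hs : B.img U e e' = s • B.img U e e) (heq : r ⁻¹ᵁ B.piece U e = Tp g φ U e) :
    mres L (heq.le.trans (Tp_le g φ U e)) (show Γ(L, g ⁻¹ᵁ U.1) from φ.app U.1 e') =
      r.app (B.piece U e) s • mres L (heq.le.trans (Tp_le g φ U e)) (show Γ(L, g ⁻¹ᵁ U.1) from φ.app U.1 e) := by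
  have h := congrArg (mres L heq.le) ((psi_spec B.isQCoh B.isSym g φ U e).2 e')
  rw [InvExt.mres_smul, InvExt.mres_mres, InvExt.mres_mres, ← appLE_of_isUp hu hs heq.ge] at h
  refine h.trans ?_
  refine congrArg (fun c => c • mres L (heq.le.trans (Tp_le g φ U e)) (show Γ(L, g ⁻¹ᵁ U.1) from φ.app U.1 e)) ?_
  show (r.appLE _ _ _ ≫ X.presheaf.map _).hom s = _
  rw [Scheme.Hom.appLE_map, ← Scheme.Hom.app_eq_appLE]

theorem exists_lift (hφ : IsGenBy g φ) :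
    ∃ (r : X ⟶ B.P) (θ : B.O ⟶ (Scheme.Modules.pushforward r).obj L), B.IsLift g φ r θ := by
  obtain ⟨r, hu, hr⟩ := exists_isUp (B := B) hφ
  have heq := preimage_piece_of_isUp hu hr hφ
  let ι := Σ U : Y.AffineZariskiSite, Γ(B.E, U.1)
  let n : ∀ i : ι, Γ(L, r ⁻¹ᵁ B.piece i.1 i.2) := fun i =>
    mres L ((heq i.1 i.2).le.trans (Tp_le g φ i.1 i.2)) (show Γ(L, g ⁻¹ᵁ i.1.1) from φ.app i.1.1 i.2)
  have hn : ∀ (i k : ι) (W : B.P.Opens) (hi : W ≤ B.piece i.1 i.2) (hk : W ≤ B.piece k.1 k.2) (a : Γ(B.P, W)),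
      mres B.O hk (B.img k.1 k.2 k.2) = a • mres B.O hi (B.img i.1 i.2 i.2) →
        mres L (r.preimage_mono hk) (n k) = r.app W a • mres L (r.preimage_mono hi) (n i) := by
    intro i k W hi hk a ha
    refine Ample.meq_of_cover L
      (fun D : { D : Y.AffineZariskiSite // D ≤ i.1 ∧ D ≤ k.1 } => r ⁻¹ᵁ W ⊓ g ⁻¹ᵁ D.1.1) (fun _ => inf_le_left) ?_
      fun D => ?_
    · intro x hx
      obtain ⟨D, h₁, h₂, hxD⟩ := exists_common_basic (y := g x) (le_comp hr i.1 i.2 (hi hx)) (le_comp hr k.1 k.2 (hk hx))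
      exact Opens.mem_iSup.mpr ⟨⟨D, h₁, h₂⟩, hx, hxD⟩
    let b := rE D.2.1 i.2
    let b' := rE D.2.2 k.2
    obtain ⟨s, hs⟩ := B.exists_img_eq D.1 b b'
    let W' : B.P.Opens := W ⊓ B.p ⁻¹ᵁ D.1.1
    have hW'b : W' ≤ B.piece D.1 b := (inf_le_inf_right _ hi).trans (pc_inf B.isProj D.2.1 i.2).le
    have hW'b' : W' ≤ B.piece D.1 b' := (inf_le_inf_right _ hk).trans (pc_inf B.isProj D.2.2 k.2).le
    have hres : ∀ {U : Y.AffineZariskiSite} (h : D.1 ≤ U) (e : Γ(B.E, U.1)) {T : B.P.Opens} (hT : T ≤ B.p ⁻¹ᵁ U.1)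
        (hT' : T ≤ B.p ⁻¹ᵁ D.1.1),
        mres B.O hT' (show Γ(B.O, B.p ⁻¹ᵁ D.1.1) from B.can.app D.1.1 (rE h e)) =
          mres B.O hT (show Γ(B.O, B.p ⁻¹ᵁ U.1) from B.can.app U.1 e) := fun {U} h e {T} hT hT' => by
      have e0 : B.can.app D.1.1 (rE h e) =
          mres B.O (B.p.preimage_mono (Scheme.AffineZariskiSite.toOpens_mono h)) (B.can.app U.1 e) :=
        Ample.app_mres B.can (Scheme.AffineZariskiSite.toOpens_mono h) e
      exact (congrArg (mres B.O hT') e0).trans (InvExt.mres_mres B.O _ _ _)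
    have hresφ : ∀ {U : Y.AffineZariskiSite} (h : D.1 ≤ U) (e : Γ(B.E, U.1)) {T : X.Opens} (hT : T ≤ g ⁻¹ᵁ U.1)
        (hT' : T ≤ g ⁻¹ᵁ D.1.1),
        mres L hT' (show Γ(L, g ⁻¹ᵁ D.1.1) from φ.app D.1.1 (rE h e)) =
          mres L hT (show Γ(L, g ⁻¹ᵁ U.1) from φ.app U.1 e) := fun {U} h e {T} hT hT' => by
      have e0 : φ.app D.1.1 (rE h e) =
          mres L (g.preimage_mono (Scheme.AffineZariskiSite.toOpens_mono h)) (φ.app U.1 e) :=
        Ample.app_mres φ (Scheme.AffineZariskiSite.toOpens_mono h) e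
      exact (congrArg (mres L hT') e0).trans (InvExt.mres_mres L _ _ _)
    have h1 := congrArg (mres B.O hW'b) hs
    have h2 := congrArg (mres B.O (inf_le_left : W' ≤ W)) ha
    simp only [InvExt.mres_smul, InvExt.mres_mres] at h1 h2
    rw [hres D.2.2 k.2 (hW'b'.trans (pc_le _ _) |>.trans (B.p.preimage_mono (Scheme.AffineZariskiSite.toOpens_mono D.2.2))) _,
      hres D.2.1 i.2 (hW'b.trans (pc_le _ _) |>.trans (B.p.preimage_mono (Scheme.AffineZariskiSite.toOpens_mono D.2.1))) _]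
      at h1
    have hgen : IsGen B.O W' (mres B.O hW'b (B.img D.1 b b)) := (B.isGen_img D.1 b).restrict _
    have hab : fres B.P hW'b s = fres B.P (inf_le_left : W' ≤ W) a := by
      refine hgen.smul_left_injective le_rfl ?_
      rw [InvExt.mres_self, InvExt.mres_mres,
        hres D.2.1 i.2 (hW'b.trans (pc_le _ _) |>.trans (B.p.preimage_mono (Scheme.AffineZariskiSite.toOpens_mono D.2.1))) _]
      exact h1.symm.trans h2
    have h3 := ratio_of_isUp hu hs (heq D.1 b)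
    have hT : r ⁻¹ᵁ W ⊓ g ⁻¹ᵁ D.1.1 ≤ r ⁻¹ᵁ W' := le_inf inf_le_left (inf_le_right.trans (comp_le hr D.1.1))
    have h4 := congrArg (mres L (hT.trans (r.preimage_mono hW'b))) h3
    simp only [InvExt.mres_smul, InvExt.mres_mres] at h4
    rw [hresφ D.2.2 k.2 (inf_le_left.trans ((r.preimage_mono hk).trans (le_comp hr _ _))) _,
      hresφ D.2.1 i.2 (inf_le_left.trans ((r.preimage_mono hi).trans (le_comp hr _ _))) _] at h4
    simp only [n, InvExt.mres_smul, InvExt.mres_mres]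
    refine h4.trans ?_
    congr 1
    have h5 := congrArg (fun c => fres X hT (r.app W' c)) hab
    simp only [app_fres, InvExt.fres_fres] at h5 ⊢
    exact h5
  obtain ⟨θ, hθ⟩ := exists_hom_of_gens (L := B.O) (N := (Scheme.Modules.pushforward r).obj L)
    (fun i : ι => B.piece i.1 i.2) (iSup_pc B.isQCoh B.isSym) (fun i => B.img i.1 i.2 i.2)
    (fun i => B.isGen_img i.1 i.2) n fun i k W hi hk a ha => hn i k W hi hk a ha
  have hθ' : ∀ i : ι, B.up θ (B.img i.1 i.2 i.2) = n i := hθ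
  have hgen : ∀ i : ι, IsGen L (r ⁻¹ᵁ B.piece i.1 i.2) (n i) := fun i => by
    have := (isGen_gp g φ i.1 i.2).restrict (heq i.1 i.2).le
    rwa [InvExt.mres_mres] at this
  refine ⟨r, θ, hr, fun U e h => ?_, fun {D} t ht => ?_⟩
  · refine Ample.meq_of_cover L
      (fun i : { i : ι // i.1 ≤ U } => g ⁻¹ᵁ U.1 ⊓ r ⁻¹ᵁ B.piece i.1.1 i.1.2) (fun _ => inf_le_left) ?_ fun i => ?_
    · intro x hx
      obtain ⟨e', he'⟩ := exists_pc (chart := B.chart) B.isQCoh B.isSym U (z := r x) (comp_le hr _ hx)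
      exact Opens.mem_iSup.mpr ⟨⟨⟨U, e'⟩, le_rfl⟩, hx, he'⟩
    obtain ⟨⟨D, b⟩, hDU⟩ := i
    obtain ⟨s, hs⟩ := B.exists_img_eq D b (rE hDU e)
    have h1 : B.up θ (B.img D b (rE hDU e)) = r.app (B.piece D b) s • n ⟨D, b⟩ := by
      rw [hs]; exact (Ample.app_smul θ s _).trans (congrArg (r.app (B.piece D b) s • ·) (hθ' ⟨D, b⟩))
    have h2 : B.up θ (B.img D b (rE hDU e)) =
        mres L (r.preimage_mono ((pc_le D b).trans (B.p.preimage_mono (Scheme.AffineZariskiSite.toOpens_mono hDU))))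
          (B.up θ (show Γ(B.O, B.p ⁻¹ᵁ U.1) from B.can.app U.1 e)) := by
      have e0 : B.can.app D.1 (rE hDU e) =
          mres B.O (B.p.preimage_mono (Scheme.AffineZariskiSite.toOpens_mono hDU)) (B.can.app U.1 e) :=
        Ample.app_mres B.can (Scheme.AffineZariskiSite.toOpens_mono hDU) e
      refine (congrArg (B.up θ) ((congrArg (mres B.O (pc_le D b)) e0).trans (InvExt.mres_mres B.O _ _ _))).trans ?_
      exact Ample.app_mres θ _ _
    have h3 := ratio_of_isUp hu hs (heq D b)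
    have h4 := congrArg (mres L (inf_le_right : g ⁻¹ᵁ U.1 ⊓ r ⁻¹ᵁ B.piece D b ≤ r ⁻¹ᵁ B.piece D b)) (h2.symm.trans h1)
    have h5 := congrArg (mres L (inf_le_right : g ⁻¹ᵁ U.1 ⊓ r ⁻¹ᵁ B.piece D b ≤ r ⁻¹ᵁ B.piece D b)) h3
    have e1 : φ.app D.1 (rE hDU e) =
        mres L (g.preimage_mono (Scheme.AffineZariskiSite.toOpens_mono hDU)) (φ.app U.1 e) :=
      Ample.app_mres φ (Scheme.AffineZariskiSite.toOpens_mono hDU) e
    simp only [n, InvExt.mres_smul, InvExt.mres_mres] at h4 h5 ⊢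
    refine h4.trans (h5.symm.trans ?_)
    exact (congrArg (mres L _) e1).trans (InvExt.mres_mres L _ _ _)
  · refine InvExt.isGen_of_cover (fun i : ι => r ⁻¹ᵁ (D ⊓ B.piece i.1 i.2)) (fun i => r.preimage_mono inf_le_left)
      ?_ fun i => ?_
    · intro x hx
      obtain ⟨i, hi⟩ := Opens.mem_iSup.mp ((iSup_pc (chart := B.chart) B.isQCoh B.isSym).ge (Opens.mem_top (r x)))
      exact Opens.mem_iSup.mpr ⟨i, hx, hi⟩
    let W := D ⊓ B.piece i.1 i.2
    have hgi := (B.isGen_img i.1 i.2).restrict (inf_le_right : W ≤ B.piece i.1 i.2)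
    obtain ⟨c, hc⟩ := hgi.exists_smul_eq le_rfl (mres B.O (inf_le_left : W ≤ D) t)
    obtain ⟨d, hd⟩ := (ht.restrict (inf_le_left : W ≤ D)).exists_smul_eq le_rfl
      (mres B.O (inf_le_right : W ≤ B.piece i.1 i.2) (B.img i.1 i.2 i.2))
    rw [InvExt.mres_self] at hc hd
    have hcu : IsUnit c := by
      refine IsUnit.of_mul_eq_one d ?_
      refine hgi.smul_left_injective le_rfl ?_
      rw [InvExt.mres_self, one_smul, mul_comm, mul_smul, ← hc, ← hd]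
    have e1 : mres L (r.preimage_mono (inf_le_left : W ≤ D)) (B.up θ t) =
        r.app W c • mres L (r.preimage_mono (inf_le_right : W ≤ B.piece i.1 i.2)) (n i) := by
      refine (Ample.app_mres θ (inf_le_left : W ≤ D) t).symm.trans ?_
      rw [hc, ← hθ' i]
      have e2 : B.up θ (mres B.O (inf_le_right : W ≤ B.piece i.1 i.2) (B.img i.1 i.2 i.2)) =
          mres L (r.preimage_mono (inf_le_right : W ≤ B.piece i.1 i.2)) (B.up θ (B.img i.1 i.2 i.2)) :=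
        Ample.app_mres θ _ _
      rw [← e2]
      exact Ample.app_smul θ c _
    exact e1 ▸ ((hgen i).restrict _).smul_unit (hcu.map _)

theorem existsUnique_lift (hφ : IsGenBy g φ) :
    ∃! r : X ⟶ B.P, ∃ θ : B.O ⟶ (Scheme.Modules.pushforward r).obj L, B.IsLift g φ r θ := by
  obtain ⟨r, θ, h⟩ := exists_lift (B := B) hφ
  exact ⟨r, ⟨θ, h⟩, fun r' ⟨θ', h'⟩ => h'.unique hφ h⟩

end Bdl

end GrothLib.VA
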